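import Groth.Agent.AgPol.K691.QNorm
import Groth.Agent.EGA2.K30.AmpleLoc

/-!
# Ample classes and quotients by finite groups

* `AmpCl c`: the class `c : Pic X` is ample; `AmpCl.mul`, `ampCl_pow_iff`.
* `ampCl_of_pull`, `isAmple_of_pull`: `π : X ⟶ Y` a finite quotient by a finite group, `π^* c` ample: then `c` is ample.
* `exists_of_inv`: a power of an invariant ample class descends to an ample class.
-/

set_option autoImplicit false
universe w u

open CategoryTheory AlgebraicGeometry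

namespace K691.QNorm2

open Groth.Agent.Grpsch.PicGrp Groth.Agent.Fdesc.LocGen K691.QNorm

noncomputable section

variable {X Y : Scheme.{u}}

/-- The class `c` is ample. -/
def AmpCl (c : Pic X) : Prop := ∃ (L : X.Modules) (hL : CohB1.IsAmple L), mk L hL.1 = c

theorem ampCl_mk {L : X.Modules} (hL : PicF.IsInvertible L) : AmpCl (mk L hL) ↔ CohB1.IsAmple L := by
  constructor
  · rintro ⟨M, hM, e⟩
    obtain ⟨e⟩ := (mk_eq_iff hM.1 hL).1 e
    exact Groth.Agent.Ega2.Weight.isAmple_of_iso e hM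
  · exact fun h => ⟨L, h, rfl⟩

theorem AmpCl.mul {c c' : Pic X} (h : AmpCl c) (h' : AmpCl c') : AmpCl (c * c') := by
  obtain ⟨L, hL, rfl⟩ := h
  obtain ⟨L', hL', rfl⟩ := h'
  exact ⟨_, K30.AmpleLoc.isAmple_tensorMod' hL hL', (mk_mul_mk hL.1 hL'.1).symm⟩

theorem ampCl_pow_iff {c : Pic X} {n : ℕ} (hn : 0 < n) : AmpCl (c ^ n) ↔ AmpCl c := by
  induction c using ind with
  | h L hL => rw [← mk_tensorPow hL, ampCl_mk, ampCl_mk, ← K30.AmpleLoc.isAmple_iff_tensorPow hL hn]

theorem AmpCl.pow {c : Pic X} (h : AmpCl c) {n : ℕ} (hn : 0 < n) : AmpCl (c ^ n) := (ampCl_pow_iff hn).2 h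

section quot

variable {π : X ⟶ Y} {G : Type u} [Group G] {ρ : G →* Aut X}

/-- A class trivial on `X` is torsion. -/
theorem exists_pow_eq_one [Finite G] (hq : SGA1.IsQuot ρ π) {c c' : Pic Y} (hc : pull π c = pull π c') :
    c ^ Nat.card G = c' ^ Nat.card G := by
  have := Fintype.ofFinite G
  have h1 : pull π (c * c'⁻¹) = 1 := by rw [map_mul, map_inv, hc, mul_inv_cancel]
  have h2 := pow_card_eq_one hq h1
  rw [← Nat.card_eq_fintype_card, mul_pow, inv_pow, mul_inv_eq_one] at h2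
  exact h2

/-- A power of an invariant ample class descends. -/
theorem exists_of_inv [Finite G] (hq : SGA1.IsQuot ρ π) [IsFinite π] {c : Pic X} (hc : AmpCl c)
    (hinv : ∀ h : G, pull (ρ h).hom c = c) : ∃ (k : ℕ) (e : Pic Y), 0 < k ∧ AmpCl e ∧ pull π e = c ^ k := by
  have := Fintype.ofFinite G
  obtain ⟨L, hL, rfl⟩ := hc
  obtain ⟨k, M, hM, hk, h⟩ := exists_ample_of_inv hq hL hinv
  exact ⟨k, _, hk, ⟨M, hM, rfl⟩, h⟩

/-- **Ampleness descends** along finite quotients. -/
theorem ampCl_of_pull [Finite G] (hq : SGA1.IsQuot ρ π) [IsFinite π] {c : Pic Y} (hc : AmpCl (pull π c)) :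
    AmpCl c := by
  obtain ⟨k, e, hk, he, h⟩ := exists_of_inv hq hc fun h => by
    rw [← pull_comp, hq.inv h]
  rw [← map_pow] at h
  have h2 := exists_pow_eq_one hq h
  have hG : 0 < Nat.card G := Nat.card_pos
  rw [← ampCl_pow_iff (Nat.mul_pos hk hG), pow_mul, ← h2]
  exact he.pow hG

/-- **Ampleness descends** along finite quotients. -/
theorem isAmple_of_pull [Finite G] (hq : SGA1.IsQuot ρ π) [IsFinite π] {L : Y.Modules} (hL : PicF.IsInvertible L)
    (h : CohB1.IsAmple ((Scheme.Modules.pullback π).obj L)) : CohB1.IsAmple L := by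
  rw [← ampCl_mk hL]
  refine ampCl_of_pull hq ?_
  rw [pull_mk]
  exact (ampCl_mk h.1).2 h

end quot

end

end K691.QNorm2
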