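import Groth.Agent.AgPol.K691.LevCore
import Groth.Agent.S13180
import Groth.Prelude.Def_RelProj

/-!
# The coarse moduli scheme of core families over `ℤ[1/l]`

* `bl l`: the open subset of `Spec ℤ` where `l` is invertible;
* `Fine g d N`: the fine moduli scheme of core families of level `N`;
* `exists_local`: the coarse moduli scheme over `bl l`.
-/

set_option autoImplicit false

universe u

open CategoryTheory Limits MonoidalCategory CartesianMonoidalCategory AlgebraicGeometry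
open scoped MonObj

namespace K691.CoarseLoc

open K117.Ag K691.LevGp K691.LevSec K691.LevelRed K691.CoarseQ K691.CoarseGlue K691.LevCore K691.GPres

noncomputable section

/-- The open subset of `Spec ℤ` where `l` is invertible. -/
def bl (l : ℕ) : SZ.{u}.Opens :=
  (Spec (CommRingCat.of (ULift.{u} ℤ))).basicOpen ((Scheme.ΓSpecIso (CommRingCat.of (ULift.{u} ℤ))).inv (ULift.up (l : ℤ)))

theorem sec_eq (l : ℕ) : (Scheme.ΓSpecIso (CommRingCat.of (ULift.{u} ℤ))).inv (ULift.up (l : ℤ)) =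
    (l : Γ(SZ.{u}, ⊤)) := by
  have h1 : (ULift.up (l : ℤ) : ULift.{u} ℤ) = ((l : ℕ) : ULift.{u} ℤ) := by
    apply ULift.ext
    simp
  rw [h1]
  exact map_natCast (Scheme.ΓSpecIso (CommRingCat.of (ULift.{u} ℤ))).inv.hom l

theorem isUnit_of_basicOpen_eq_top (X : Scheme.{u}) (f : Γ(X, ⊤)) (h : X.basicOpen f = ⊤) : IsUnit f := by
  apply X.toRingedSpace.isUnit_of_isUnit_germ ⊤
  intro x hx
  have h1 : x ∈ X.basicOpen f := by rw [h]; trivial
  exact (X.mem_basicOpen _ _ hx).1 h1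

theorem preimage_bl (T : Over SZ.{u}) (l : ℕ) : T.hom ⁻¹ᵁ (bl l) = T.left.basicOpen (l : Γ(T.left, ⊤)) := by
  unfold bl
  rw [sec_eq, Scheme.preimage_basicOpen_top]
  congr 1
  exact map_natCast T.hom.appTop.hom l

theorem range_iff (T : Over SZ.{u}) (l : ℕ) : Set.range T.hom ⊆ ((bl l : SZ.{u}.Opens) : Set SZ.{u}) ↔
    IsUnit (l : Γ(T.left, ⊤)) := by
  constructor
  · intro h
    apply isUnit_of_basicOpen_eq_top
    rw [← preimage_bl, eq_top_iff]
    intro x _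
    exact h ⟨x, rfl⟩
  · intro h
    rintro _ ⟨x, rfl⟩
    have h1 : x ∈ T.hom ⁻¹ᵁ (bl l) := by
      rw [preimage_bl, Scheme.basicOpen_of_isUnit _ h]
      trivial
    exact h1

theorem bl_sup {a b : ℕ} (h : Nat.Coprime a b) : (bl a ⊔ bl b : SZ.{u}.Opens) = ⊤ := by
  rw [eq_top_iff]
  intro x _
  by_contra hx
  have h1 : x ∉ bl a := fun h => hx (Or.inl h)
  have h2 : x ∉ bl b := fun h => hx (Or.inr h)
  have h3 : ∀ c : ℕ, x ∉ bl c → (c : SZ.{u}.residueField x) = 0 := by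
    intro c hc
    unfold bl at hc
    rw [sec_eq] at hc
    have h4 : SZ.{u}.evaluation ⊤ x trivial (c : Γ(SZ.{u}, ⊤)) = 0 := by
      by_contra h5
      exact hc ((SZ.{u}.evaluation_ne_zero_iff_mem_basicOpen _ _ _).1 h5)
    rwa [map_natCast] at h4
  have ha := h3 a h1
  have hb := h3 b h2
  have h4 : (1 : SZ.{u}.residueField x) = 0 := by
    have h5 := Nat.gcd_eq_gcd_ab a b
    rw [h] at h5
    have h6 := congrArg (fun z : ℤ => (z : SZ.{u}.residueField x)) h5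
    simp only [Nat.cast_one, Int.cast_one, Int.cast_add, Int.cast_mul, Int.cast_natCast, ha, hb, zero_mul,
      add_zero] at h6
    exact h6
  exact one_ne_zero h4

theorem exists_pow_large (C n l : ℕ) (hn : 1 ≤ n) (hl : 2 ≤ l) : ∃ k : ℕ, 1 ≤ k ∧ C < (n * l ^ k) ^ 2 := by
  refine ⟨C + 1, by omega, ?_⟩
  have h1 : C + 1 < l ^ (C + 1) := Nat.lt_pow_self (by omega)
  have h2 : l ^ (C + 1) ≤ n * l ^ (C + 1) := Nat.le_mul_of_pos_left _ hn
  have h3 : n * l ^ (C + 1) ≤ (n * l ^ (C + 1)) ^ 2 := Nat.le_self_pow (by norm_num) _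
  omega

/-- The fine moduli scheme of core families of level `N`. -/
def Fine (g d N : ℕ) : Prop :=
  ∃ (M : Over SZ.{u}) (ξ : Core M g), ModFun.IsUnivFamily (LN _) (CoreP SZ.{u} g d N) M ξ ∧
    RelProj.IsQuasiProjective M.hom ∧
    ∀ (Ω : Type u) [Field Ω] [IsAlgClosed Ω] (t : Spec (CommRingCat.of Ω) ⟶ SZ.{u}), (N : Ω) ≠ 0 →
      Nonempty (Over.mk t ⟶ M)

/-- Locally Noetherian schemes are stable under open immersions. -/
theorem ln_open {S : Scheme.{u}} {T T' : Over S} (j : T' ⟶ T) (hj : IsOpenImmersion j.left) (hT : LN S T) :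
    LN S T' := by
  have : IsLocallyNoetherian T.left := hT
  exact isLocallyNoetherian_of_isOpenImmersion j.left

instance : IsNoetherian SZ.{u} := by
  have : IsNoetherianRing (ULift.{u} ℤ) :=
    isNoetherianRing_of_ringEquiv ℤ (ULift.ringEquiv (R := ℤ)).symm
  have : IsNoetherianRing (CommRingCat.of (ULift.{u} ℤ)) := this
  infer_instance

/-- The coarse moduli scheme over `ℤ[1/l]`. -/
theorem exists_local {g d n l : ℕ} (hg : 1 ≤ g) (hn : 1 ≤ n) (hl : 2 ≤ l)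
    (hF : ∀ m : ℕ, 1 ≤ m → PreLaws (CoreP SZ.{u} g d m) (LN SZ.{u}))
    (hcov : K117.Ag.Node.LevelCover.{u}) (C : ℕ) (hfine : ∀ N : ℕ, C < N ^ 2 → Fine.{u} g d N) :
    ∃ (M : Over SZ.{u}) (Φ : (onV (CoreP SZ.{u} g d n) (bl l)).Hom (LN SZ.{u}) M), LB Φ ∧
      ModFun.GeomBij (onV (CoreP SZ.{u} g d n) (bl l)) M Φ ∧ RelProj.IsQuasiProjective M.hom ∧
      Set.range M.hom ⊆ ((bl l : SZ.{u}.Opens) : Set SZ.{u}) ∧
      ∀ (Ω : Type u) [Field Ω] [IsAlgClosed Ω] (t : Spec (CommRingCat.of Ω) ⟶ SZ.{u}), (n : Ω) ≠ 0 → (l : Ω) ≠ 0 →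
        Nonempty (Over.mk t ⟶ M) := by
  obtain ⟨k, hk, hC⟩ := exists_pow_large C n l hn hl
  have hq : 1 ≤ l ^ k := Nat.one_le_pow _ _ (by omega)
  obtain ⟨M, ξ, hU, hqp, hne⟩ := hfine (n * l ^ k) hC
  have := nz hn hq
  have hM : LN SZ.{u} M := by
    have := hqp.1
    exact LocallyOfFiniteType.isLocallyNoetherian M.hom
  have hFN := hF (n * l ^ k) (Nat.mul_pos hn hq)
  have hV1 : ∀ T : Over SZ.{u}, LN SZ.{u} T → Set.range T.hom ⊆ ((bl l : SZ.{u}.Opens) : Set SZ.{u}) →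
      IsUnit ((l ^ k : ℕ) : Γ(T.left, ⊤)) := by
    intro T _ h
    rw [Nat.cast_pow]
    exact ((range_iff T l).1 h).pow k
  have hV2 : ∀ T : Over SZ.{u}, LN SZ.{u} T → IsUnit ((n * l ^ k : ℕ) : Γ(T.left, ⊤)) →
      Set.range T.hom ⊆ ((bl l : SZ.{u}.Opens) : Set SZ.{u}) := by
    intro T _ h
    rw [Nat.cast_mul, Nat.cast_pow] at h
    exact (range_iff T l).2 ((isUnit_pow_iff (by omega)).1 (isUnit_of_mul_isUnit_right h))
  let A := lact SZ.{u} g d n (l ^ k) hn hq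
  let R := lred hg hn hq (hF n hn) hFN hcov (bl l) hV1 hV2
  obtain ⟨Y, q, h, hqh, hquot, hYqp⟩ := Groth.Agent.S13180.result M.hom (actM A hFN hU hM) (actM_w A hFN hU hM) hqp
  let M₁ : Over SZ.{u} := Over.mk h
  let π : M ⟶ M₁ := Over.homMk q hqh
  have hft : LocallyOfFiniteType π.left := by
    have h1 : LocallyOfFiniteType (q ≫ h) := by
      rw [hqh]
      exact hqp.1
    exact locallyOfFiniteType_of_comp q h
  have hF₁ := preLaws_onV (hF n hn) (bl l)
  have G := R.gpres hFN hF₁ (fun j hj hT => ln_open j hj hT) hU hM π hquot hft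
  have Pr := G.pres hF₁ (fun j hj hT => ln_open j hj hT)
  refine ⟨M₁, homOf hF₁ Pr, lb_homOf hF₁ Pr, geomBij_homOf hF₁ Pr, hYqp, ?_, ?_⟩
  · have hs : Function.Surjective q := Groth.Agent.Sga1.QuotBasic.surjective_of_isQuot hquot
    have hMr : Set.range M.hom ⊆ ((bl l : SZ.{u}.Opens) : Set SZ.{u}) := G.ok.2
    rintro _ ⟨y, rfl⟩
    obtain ⟨x, rfl⟩ := hs y
    refine hMr ⟨x, ?_⟩
    change M.hom x = h (q x)
    rw [← Scheme.Hom.comp_apply, hqh]
  · intro Ω _ _ t h1 h2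
    obtain ⟨b⟩ := hne Ω t (by
      rw [Nat.cast_mul, Nat.cast_pow]
      exact mul_ne_zero h1 (pow_ne_zero _ h2))
    exact ⟨b ≫ π⟩

end

end K691.CoarseLoc
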