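import Groth.Agent.AgPol.K515.RankFam
import Groth.Agent.AbSch.K645.Conc
import Groth.Agent.AgPol.K245.PushDet
import Groth.Agent.AgPol.K691.QNorm2
import Groth.Agent.S14161

/-!
# The determinant class of a core family

`dl hT hz : Pic T` is the inverse of the determinant of the direct image of the modules of class `z.c ^ 2`, for an
admissible core family `z` over the locally Noetherian scheme `T`.

* `rank`: modules of class `z.c ^ 2` are relatively ample and have a direct image of rank `4 ^ g d`;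
* `dl_bc`: compatibility with base change and isomorphisms; `dl_pull`, `dl_r`;
* `ampCl_dl`: the class is ample if the condition of the frozen statement S14321 holds.
-/

set_option autoImplicit false

universe u

open CategoryTheory Limits MonoidalCategory CartesianMonoidalCategory AlgebraicGeometry
open scoped MonObj

namespace K691.ZDet

open Groth.Agent Groth.Agent.Grpsch.PicGrp Groth.Agent.Fga.RigGrp K117.Ag K732.PicZero K732.Prim K732.Dual
  K691.QNorm2

noncomputable section

variable {S : Scheme.{u}} {g d n : ℕ}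

theorem stmt14161 : K515.PolFinMain.Stmt14161.{u} := Groth.Agent.S14161.result

theorem relVan : K515.RankFam.RelVanStmt.{u} := fun _ _ _ _ _ hA _ _ hL hamp i hi =>
  (K645.Conc.isZero_Rpush hA hL hamp).1 i hi

theorem rank {T : Over S} (hT : IsLocallyNoetherian T.left) {z : Core T g} (hz : Core.ok g d n T z)
    {L : z.X.left.Modules} (hL : PicF.IsInvertible L) (e : mk L hL = z.c ^ 2) :
    RelAmple.IsRelAmple z.X.hom L ∧ FlatMod.IsFinLocFreeOfRank (4 ^ g * d) ((Coh.push z.X.hom).obj L) := by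
  have h := K515.RankFam.isFinLocFreeOfRank_pol stmt14161 relVan z.X hz.ab hz.pol 2 (by norm_num) L hL 1
    (by rw [e, map_one, mul_one])
  exact h

/-- The inverse of the determinant of the direct image of the square of the class. -/
def dl {T : Over S} {z : Core T g} (hT : IsLocallyNoetherian T.left) (hz : Core.ok g d n T z) : Pic T.left :=
  (K482.DetPic.det (rank hT hz (exists_mk (z.c ^ 2)).choose_spec.choose
    (exists_mk (z.c ^ 2)).choose_spec.choose_spec.symm).2)⁻¹

theorem dl_eq {T : Over S} {z : Core T g} (hT : IsLocallyNoetherian T.left) (hz : Core.ok g d n T z)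
    {L : z.X.left.Modules} (hL : PicF.IsInvertible L) (e : mk L hL = z.c ^ 2) :
    dl hT hz = (K482.DetPic.det (rank hT hz hL e).2)⁻¹ := by
  obtain ⟨i⟩ := (mk_eq_iff (exists_mk (z.c ^ 2)).choose_spec.choose hL).1
    ((exists_mk (z.c ^ 2)).choose_spec.choose_spec.symm.trans e.symm)
  refine congrArg _ (K482.DetPic.det_congr _ _ ⟨?_⟩)
  exact (Coh.push z.X.hom).mapIso i

/-- The class depends only on the family, not on the level. -/
theorem dl_level {T : Over S} {z : Core T g} {m : ℕ} (hT hT' : IsLocallyNoetherian T.left)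
    (hz : Core.ok g d n T z) (hz' : Core.ok g d m T z) : dl hT hz = dl hT' hz' := rfl

/-- **Base change.** -/
theorem dl_bc {T T' : Over S} (k : T'.left ⟶ T.left) (hT : IsLocallyNoetherian T.left)
    (hT' : IsLocallyNoetherian T'.left) {z : Core T g} {z' : Core T' g} (hz : Core.ok g d n T z) {m : ℕ}
    (hz' : Core.ok g d m T' z') (q : z'.X.left ⟶ z.X.left) (sq : IsPullback q z'.X.hom z.X.hom k)
    (hc : pull q z.c = z'.c) : dl hT' hz' = pull k (dl hT hz) := by
  obtain ⟨L, hL, e⟩ := exists_mk (z.c ^ 2)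
  have hL' := Fdesc.LocGen.isInvertible_pullback q hL
  have e' : mk _ hL' = z'.c ^ 2 := by
    rw [← pull_mk q hL, ← e, map_pow, hc]
  have := hz.ab.smooth
  have := hz.ab.proper
  have hinj := Dcoh.DerSch.hasInjectiveResolutions z.X.left
  have h1 := rank hT hz hL e.symm
  have h2 := rank hT' hz' hL' e'
  have key := K245.PushDet.nonempty_iso sq L (Ega2.QCohLocal.isQCoh_of_isInvertible hL)
    (Ega3B.ChiFib.isFlatOver_of_isInvertible _ hL)
    (K245.PushDet.van_of_isZero z.X.hom hL fun p hp => (K645.Conc.isZero_Rpush hz.ab hL h1.1).1 p hp)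
  have h4 : FlatMod.IsFinLocFreeOfRank (4 ^ g * d) ((Scheme.Modules.pullback k).obj
      ((Scheme.Modules.pushforward z.X.hom).obj L)) := by
    obtain ⟨i⟩ := key
    exact Krr.H495.Rank.rank_iso i.symm h2.2
  rw [dl_eq hT' hz' hL' e', dl_eq hT hz hL e.symm, map_inv, ← K482.DetPic.det_pull k h1.2 h4]
  exact congrArg _ (K482.DetPic.det_congr _ _ ⟨key.some.symm⟩)

theorem dl_pull {T T' : Over S} (k : T' ⟶ T) (hT : IsLocallyNoetherian T.left)
    (hT' : IsLocallyNoetherian T'.left) {z : Core T g} (hz : Core.ok g d n T z) {m : ℕ}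
    (hz' : Core.ok g d m T' (z.pull k)) : dl hT' hz' = pull k.left (dl hT hz) :=
  dl_bc k.left hT hT' hz hz' (pullback.fst z.X.hom k.left) (IsPullback.of_hasPullback z.X.hom k.left) rfl

theorem dl_r {T : Over S} (hT hT' : IsLocallyNoetherian T.left) {z w : Core T g} (hz : Core.ok g d n T z) {m : ℕ}
    (hw : Core.ok g d m T w) (h : Core.r T z w) : dl hT hz = dl hT' hw := by
  obtain ⟨e, he, hc, -⟩ := h
  have : IsIso e.hom.left := inferInstance
  have sq : IsPullback e.hom.left z.X.hom w.X.hom (𝟙 T.left) :=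
    IsPullback.of_horiz_isIso ⟨by rw [Category.comp_id]; exact Over.w e.hom⟩
  rw [dl_bc (𝟙 T.left) hT' hT hw hz e.hom.left sq hc, pull_id]

/-- The Poincaré class in the sense of the prelude. -/
theorem isPoincareCl {A At : Over S} [GrpObj A] [GrpObj At] {φ : AgPol.DualMap A At}
    {ξ : Pic (PicF.XT A.hom At)} (h1 : ξ ∈ pz A.hom At) (h2 : ξ ∈ rg A At) (h3 : cm φ ξ = 𝟙 At) :
    AbDual.IsPoincareCl A At φ (toCl ξ) :=
  ⟨isPicZeroCl_iff.2 h1, h3, by
    rw [← toCl_pull, isTrivialCl_toCl_iff]
    exact h2⟩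

/-- The determinant class is ample under the condition of S14321. -/
theorem ampCl_dl {T : Over S} {x : AgPol.Fam T g} {z : Core T g} (hT : IsLocallyNoetherian T.left)
    (hz : Core.ok g d n T z) (hx : IsCoreOf x z)
    (H : letI := x.grp
       letI := x.grpt
       ∀ (P : PicF.Cl (PicF.XT x.X.hom x.Xt)), AbDual.IsPoincareCl x.X x.Xt x.φ P →
        ∀ (L : x.X.left.Modules), PicF.IsInvertible L →
          PicF.cl L = PicF.pullCl (pullback.lift (𝟙 x.X.left) x.lam.left
            ((Category.id_comp x.X.hom).trans (Over.w x.lam).symm)) P →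
          ∀ (D : T.left.Modules), ExtPow.IsExtPow (4 ^ g * d) ((Coh.push x.X.hom).obj (CohB1.tensorPow L 2)) D →
            ∀ (D' : T.left.Modules), ClSub.IsInverseOf D D' → CohB1.IsAmple D') :
    AmpCl (dl hT hz) := by
  let _ := x.grp
  let _ := x.grpt
  obtain ⟨ξ, h1, h2, h3, rfl⟩ := hx
  obtain ⟨L, hL, e⟩ := exists_mk (ev (𝟙 x.X) x.lam ξ)
  have e2 : mk (CohB1.tensorPow L 2) (Fdesc.LocGen.isInvertible_tensorPow hL 2) = (ev (𝟙 x.X) x.lam ξ) ^ 2 := by
    rw [mk_tensorPow, e]
  have hr := (rank hT hz (Fdesc.LocGen.isInvertible_tensorPow hL 2) e2).2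
  obtain ⟨D, hD⟩ := K482.CanonTool.exists_isExtPow (4 ^ g * d) (Krr.H495.Rank.isFinLocFree_of_rank hr)
  have hDi := K482.CanonTool.isInvertible_extPow hr hD
  obtain ⟨D', hD', ⟨i⟩⟩ := exists_inverse hDi
  have hcl : PicF.cl L = PicF.pullCl (pullback.lift (𝟙 x.X.left) x.lam.left
      ((Category.id_comp x.X.hom).trans (Over.w x.lam).symm)) (toCl ξ) := by
    rw [← toCl_pull]
    exact (congrArg toCl e).symm
  have hamp := H (toCl ξ) (isPoincareCl h1 h2 h3) L hL hcl D hD D' ⟨i⟩
  refine ⟨D', hamp, ?_⟩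
  rw [dl_eq hT hz (Fdesc.LocGen.isInvertible_tensorPow hL 2) e2, ← K482.DetPic.mk_eq_det hr hD hDi, eq_comm,
    inv_eq_iff_mul_eq_one, mk_mul_mk, mk_eq_one_iff]
  exact ⟨i⟩

end

end K691.ZDet
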