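import Groth.Agent.AgPol.K691.ZCorr
import Groth.Agent.AgPol.K691.ZDet
import Groth.Agent.AgPol.K691.CoarseLoc

/-!
# Fine moduli schemes of core families over `Spec ℤ[1/N]` as schemes over `Spec ℤ`

* `SN N`: the scheme `Spec ℤ[1/N]`, with at most one morphism from any scheme (`hom_eq`), and one if `N` is invertible
  (`exists_hom`);
* `FineQ g d N`: a fine moduli scheme over `Spec ℤ` of the families of level `N`, with ample determinant class;
* `fineQ`: from the conclusion of the frozen statement S14321.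
-/

set_option autoImplicit false
universe u

open CategoryTheory Limits MonoidalCategory CartesianMonoidalCategory AlgebraicGeometry
open scoped MonObj

namespace K691.ZBase

open Groth.Agent.Grpsch.PicGrp K117.Ag K691.ZFam K691.ZCorr K691.ZDet K691.QNorm2 K691.CoarseCorr K691.LevSec

noncomputable section

/-- Fine moduli schemes of `F` are fine moduli schemes of `F'`. -/
theorem corr_fine {S : Scheme.{u}} {F F' : ModFun.Problem.{u + 1} S} {P : ObjectProperty (Over S)}
    {C : ∀ T : Over S, F.Fam T → F'.Fam T → Prop} (H : Corr F F' P C) {M : Over S} {ξ : F.Fam M} (hM : P M)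
    (h : ModFun.IsUnivFamily P F M ξ) {z : F'.Fam M} (hz : C M ξ z) (okz : F'.ok M z) :
    ModFun.IsUnivFamily P F' M z := by
  refine ⟨okz, fun T w hT hw => ?_⟩
  obtain ⟨y, hy, oky⟩ := H.ex₂ T w hT hw
  have key : ∀ k : T ⟶ M, F.r T (F.pull k ξ) y ↔ F'.r T (F'.pull k z) w := by
    intro k
    obtain ⟨z', hz', hr⟩ := H.pull k ξ z hM hT h.1 hz
    rw [H.r_iff T _ y z' w hT (H.pull_ok k ξ hM hT h.1) oky hz' hy]
    exact ⟨fun h1 => H.trans _ _ _ _ (H.symm _ _ _ hr) h1, fun h1 => H.trans _ _ _ _ hr h1⟩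
  obtain ⟨k, hk, hu⟩ := h.2 T y hT oky
  exact ⟨k, (key k).1 hk, fun k' hk' => hu k' ((key k').2 hk')⟩

/-- `Spec ℤ[1/N]`. -/
abbrev SN (N : ℕ) : Scheme.{u} := Spec (CommRingCat.of (ULift.{u} (Localization.Away (N : ℤ))))

theorem ringHom_eq {N : ℕ} {R : Type u} [CommRing R] (f g : ULift.{u} (Localization.Away (N : ℤ)) →+* R) : f = g := by
  have h : f.comp (ULift.ringEquiv (R := Localization.Away (N : ℤ))).symm.toRingHom =
      g.comp (ULift.ringEquiv (R := Localization.Away (N : ℤ))).symm.toRingHom :=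
    IsLocalization.ringHom_ext (Submonoid.powers (N : ℤ)) (RingHom.ext_int _ _)
  ext x
  obtain ⟨y, rfl⟩ := (ULift.ringEquiv (R := Localization.Away (N : ℤ))).symm.surjective x
  exact RingHom.congr_fun h y

/-- There is at most one morphism to `Spec ℤ[1/N]`. -/
theorem hom_eq {N : ℕ} {T : Scheme.{u}} (a b : T ⟶ SN.{u} N) : a = b := by
  apply ext_of_isAffine
  rw [← cancel_epi (Scheme.ΓSpecIso (CommRingCat.of (ULift.{u} (Localization.Away (N : ℤ))))).inv]
  ext1
  exact ringHom_eq _ _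

theorem isUnit_ring (N : ℕ) : IsUnit ((N : ℕ) : ULift.{u} (Localization.Away (N : ℤ))) := by
  have h : IsUnit (algebraMap ℤ (Localization.Away (N : ℤ)) N) := IsLocalization.Away.algebraMap_isUnit (N : ℤ)
  have h2 := h.map (ULift.ringEquiv (R := Localization.Away (N : ℤ))).symm.toRingHom
  have e : (ULift.ringEquiv (R := Localization.Away (N : ℤ))).symm.toRingHom
      (algebraMap ℤ (Localization.Away (N : ℤ)) N) = ((N : ℕ) : ULift.{u} (Localization.Away (N : ℤ))) := by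
    rw [map_natCast, map_natCast]
  rwa [e] at h2

/-- `N` is invertible on schemes over `Spec ℤ[1/N]`. -/
theorem isUnit_of_hom {N : ℕ} {T : Scheme.{u}} (a : T ⟶ SN.{u} N) : IsUnit ((N : ℕ) : Γ(T, ⊤)) := by
  have h := (isUnit_ring.{u} N).map ((Scheme.ΓSpecIso (CommRingCat.of (ULift.{u} (Localization.Away (N : ℤ))))).inv ≫
    a.appTop).hom
  rwa [map_natCast] at h

/-- Schemes on which `N` is invertible map to `Spec ℤ[1/N]`. -/
theorem exists_hom {N : ℕ} {T : Scheme.{u}} (h : IsUnit ((N : ℕ) : Γ(T, ⊤))) : Nonempty (T ⟶ SN.{u} N) := by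
  have h2 : IsUnit (Int.castRingHom Γ(T, ⊤) (N : ℤ)) := by
    rwa [eq_intCast, Int.cast_natCast]
  let φ : Localization.Away (N : ℤ) →+* Γ(T, ⊤) := IsLocalization.Away.lift (N : ℤ) h2
  exact ⟨T.toSpecΓ ≫ Spec.map (CommRingCat.ofHom
    (φ.comp (ULift.ringEquiv (R := Localization.Away (N : ℤ))).toRingHom))⟩

/-- The structure morphism of `Spec ℤ[1/N]`. -/
def sN (N : ℕ) : SN.{u} N ⟶ SZ.{u} := specULiftZIsTerminal.from _

theorem hom_eqZ {T : Scheme.{u}} (a b : T ⟶ SZ.{u}) : a = b := specULiftZIsTerminal.hom_ext a b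

instance locallyOfFiniteType_sN (N : ℕ) : LocallyOfFiniteType (sN.{u} N) := by
  let ρ : ULift.{u} ℤ →+* ULift.{u} (Localization.Away (N : ℤ)) :=
    (ULift.ringEquiv (R := Localization.Away (N : ℤ))).symm.toRingHom.comp
      ((algebraMap ℤ (Localization.Away (N : ℤ))).comp (ULift.ringEquiv (R := ℤ)).toRingHom)
  have hρ : ρ.FiniteType := by
    refine RingHom.FiniteType.comp (RingHom.FiniteType.of_surjective _ (RingEquiv.surjective _)) ?_
    refine RingHom.FiniteType.comp ?_ (RingHom.FiniteType.of_surjective _ (RingEquiv.surjective _))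
    exact RingHom.finiteType_algebraMap.2 (IsLocalization.finiteType_of_monoid_fg (Submonoid.powers (N : ℤ)) _)
  have e : sN.{u} N = Spec.map (CommRingCat.ofHom ρ) := hom_eqZ _ _
  rw [e]
  exact (HasRingHomProperty.Spec_iff (P := @LocallyOfFiniteType)).2 hρ

instance quasiCompact_sN (N : ℕ) : QuasiCompact (sN.{u} N) := inferInstance

instance isLocallyNoetherian_SN (N : ℕ) : IsLocallyNoetherian (SN.{u} N) :=
  LocallyOfFiniteType.isLocallyNoetherian (sN N)

/-! ### Transfer of families -/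

section transfer

variable {S S' : Scheme.{u}} {g d n : ℕ}

/-- A family over a scheme with another structure morphism. -/
def cp {T : Over S} (f : T.left ⟶ S') (z : Core T g) : Core (Over.mk f) g := ⟨z.X, z.grp, z.c, z.σ⟩

theorem ok_cp {T : Over S} (f : T.left ⟶ S') {z : Core T g} (h : (CQ S g d n).ok T z) :
    (CQ S' g d n).ok (Over.mk f) (cp f z) :=
  ⟨⟨h.1.ab, h.1.comm, h.1.rig, h.1.pol, h.1.level⟩, h.2⟩

theorem dl_cp {T : Over S} (f : T.left ⟶ S') {z : Core T g} (hT : IsLocallyNoetherian T.left)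
    (h : Core.ok g d n T z) (h' : Core.ok g d n (Over.mk f) (cp f z)) : dl hT h = dl (T := Over.mk f) hT h' := rfl

variable (s : S' ⟶ S) (hs : ∀ {T : Scheme.{u}} (a b : T ⟶ S'), a = b) (hs' : ∀ {T : Scheme.{u}} (a b : T ⟶ S), a = b)
  (hn : ∀ (T : Over S) (z : Core T g), Core.ok g d n T z → Nonempty (T.left ⟶ S'))

include hs hs' hn in
/-- **Transfer of fine moduli schemes.** -/
theorem isUnivFamily_cp {M' : Over S'} {ξ : Core M' g} (h : ModFun.IsUnivFamily ⊤ (CQ S' g d n) M' ξ) :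
    ModFun.IsUnivFamily ⊤ (CQ S g d n) (Over.mk (M'.hom ≫ s)) (cp (M'.hom ≫ s) ξ) := by
  refine ⟨ok_cp _ h.1, fun T x _ hx => ?_⟩
  obtain ⟨f⟩ := hn T x hx.1
  obtain ⟨k, hk, hu⟩ := h.2 (Over.mk f) (cp f x) trivial (ok_cp f hx)
  refine ⟨Over.homMk k.left (hs' _ _), hk, fun k' hk' => ?_⟩
  have e := hu (Over.homMk k'.left (hs _ _)) hk'
  ext1
  exact congrArg (fun q => q.left) e

end transfer

/-- The fine moduli scheme of core families of level `N`, with an ample determinant class. -/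
def FineQ (g d N : ℕ) : Prop :=
  ∃ (M : Over SZ.{u}) (ξ : Core M g) (hM : IsLocallyNoetherian M.left)
    (hU : ModFun.IsUnivFamily ⊤ (CQ SZ.{u} g d N) M ξ), LocallyOfFiniteType M.hom ∧ QuasiCompact M.hom ∧
    AmpCl (dl hM hU.1.1) ∧
    ∀ (Ω : Type u) [Field Ω] [IsAlgClosed Ω] (t : Spec (CommRingCat.of Ω) ⟶ SZ.{u}), (N : Ω) ≠ 0 →
      Nonempty (Over.mk t ⟶ M)

/-- The fine moduli scheme from the conclusion of the frozen statement S14321. -/
theorem fineQ {g d n : ℕ} (hg : 1 ≤ g) (hn : 1 ≤ n)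
    (H : ∃ (M : Over (SN.{u} n)) (ξ : AgPol.Fam M g),
      ModFun.IsUnivFamily ⊤ ((AgPol.Agdn (SN.{u} n) g d n).restrict fun T x => QF T x) M ξ ∧
      RelProj.IsQuasiProjective M.hom ∧
      (∀ (Ω : Type u) [Field Ω] [IsAlgClosed Ω] (t : Spec (CommRingCat.of Ω) ⟶ SN.{u} n), Nonempty (Over.mk t ⟶ M)) ∧
      (letI := ξ.grp
       letI := ξ.grpt
       ∀ (P : PicF.Cl (PicF.XT ξ.X.hom ξ.Xt)), AbDual.IsPoincareCl ξ.X ξ.Xt ξ.φ P →
        ∀ (L : ξ.X.left.Modules), PicF.IsInvertible L →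
          PicF.cl L = PicF.pullCl (pullback.lift (𝟙 ξ.X.left) ξ.lam.left
            ((Category.id_comp ξ.X.hom).trans (Over.w ξ.lam).symm)) P →
          ∀ (D : M.left.Modules), ExtPow.IsExtPow (4 ^ g * d) ((Coh.push ξ.X.hom).obj (CohB1.tensorPow L 2)) D →
            ∀ (D' : M.left.Modules), ClSub.IsInverseOf D D' → CohB1.IsAmple D')) : FineQ.{u} g d n := by
  obtain ⟨M', x, hU, hqp, hpt, hamp⟩ := H
  have hft := hqp.1
  have hqc := hqp.2.1
  have hM : IsLocallyNoetherian M'.left := LocallyOfFiniteType.isLocallyNoetherian M'.hom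
  have C := corrQ (S := SN.{u} n) (g := g) (d := d) (n := n) ⊤ (fun T x => QF T x) (fun _ _ => Iff.rfl)
  obtain ⟨z, hz, okz⟩ := C.ex₁ M' x trivial hU.1
  have hUz : ModFun.IsUnivFamily ⊤ (CQ (SN.{u} n) g d n) M' z := corr_fine C trivial hU hz okz
  have hUZ := isUnivFamily_cp (sN n) (fun a b => hom_eq a b) (fun a b => hom_eqZ a b) (fun T z hz => by
    have := hz.comm
    exact exists_hom (isUnit_of_level hg hn hz.ab z.σ hz.level)) hUz
  refine ⟨Over.mk (M'.hom ≫ sN n), cp (M'.hom ≫ sN n) z, hM, hUZ, inferInstanceAs (LocallyOfFiniteType (M'.hom ≫ sN n)),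
    inferInstanceAs (QuasiCompact (M'.hom ≫ sN n)), ?_, fun Ω _ _ t ht => ?_⟩
  · rw [← dl_cp (T := M') (M'.hom ≫ sN n) hM okz.1]
    exact ampCl_dl hM okz.1 hz hamp
  · have h1 : IsUnit ((n : ℕ) : Γ(Spec (CommRingCat.of Ω), ⊤)) := by
      have h2 : IsUnit ((n : ℕ) : Ω) := IsUnit.mk0 _ ht
      have h3 := h2.map (Scheme.ΓSpecIso (CommRingCat.of Ω)).inv.hom
      rwa [map_natCast] at h3
    obtain ⟨t'⟩ := exists_hom h1
    obtain ⟨b⟩ := hpt Ω t'
    exact ⟨Over.homMk b.left (hom_eqZ _ _)⟩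

end

end K691.ZBase
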