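import Groth.Agent.FlatA.GlueTwo
import Groth.Agent.Ega4late.H542.GlueSup
import Mathlib.AlgebraicGeometry.Limits
import Mathlib.CategoryTheory.Comma.Over.Pullback

/-!
# Gluing along two opens, over a base

* `resO`, `resi`, `lifO`: the part of an `S`-scheme over an open of `S`;
* `exists_hom`: gluing morphisms defined on two opens covering the source;
* `exists_glue`: gluing two `S`-schemes along a common open.
-/

set_option autoImplicit false

universe u

open CategoryTheory Limits AlgebraicGeometry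

namespace K691.Glue2

attribute [local instance] Groth.Agent.FlatA.GlueTwo.hasPushout Groth.Agent.FlatA.GlueTwo.isOpenImmersion_inl
  Groth.Agent.FlatA.GlueTwo.isOpenImmersion_inr

variable {S : Scheme.{u}}

section res

/-- The part of an `S`-scheme over an open of `S`. -/
abbrev resO (T : Over S) (V : S.Opens) : Over S := Over.mk ((T.hom ⁻¹ᵁ V).ι ≫ T.hom)

/-- Its inclusion. -/
abbrev resi (T : Over S) (V : S.Opens) : resO T V ⟶ T := Over.homMk (T.hom ⁻¹ᵁ V).ι rfl

instance (T : Over S) (V : S.Opens) : IsOpenImmersion (resi T V).left :=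
  inferInstanceAs (IsOpenImmersion (T.hom ⁻¹ᵁ V).ι)

theorem mono_of_left {T T' : Over S} (j : T' ⟶ T) [h : Mono j.left] : Mono j :=
  (Over.forget S).mono_of_mono_map h

instance (T : Over S) (V : S.Opens) : Mono (resi T V) := mono_of_left _

theorem range_resO (T : Over S) (V : S.Opens) : Set.range (resO T V).hom ⊆ V := by
  rintro _ ⟨t, rfl⟩
  exact t.2

theorem range_resO_le (T : Over S) (V : S.Opens) : Set.range (resO T V).hom ⊆ Set.range T.hom := by
  rintro _ ⟨t, rfl⟩
  exact ⟨_, rfl⟩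

theorem range_hom_le {T T' : Over S} (f : T' ⟶ T) : Set.range T'.hom ⊆ Set.range T.hom := by
  rintro _ ⟨t, rfl⟩
  refine ⟨f.left t, ?_⟩
  rw [← Scheme.Hom.comp_apply, Over.w]

/-- Lifting to the part over an open. -/
noncomputable def lifO {R T : Over S} (f : R ⟶ T) (V : S.Opens) (h : Set.range R.hom ⊆ V) : R ⟶ resO T V :=
  Over.homMk (IsOpenImmersion.lift (T.hom ⁻¹ᵁ V).ι f.left (by
    rw [Scheme.Opens.range_ι]
    rintro _ ⟨r, rfl⟩
    have h1 : T.hom (f.left r) = R.hom r := by rw [← Scheme.Hom.comp_apply, Over.w]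
    change T.hom (f.left r) ∈ V
    rw [h1]
    exact h ⟨r, rfl⟩)) (by
    change IsOpenImmersion.lift _ _ _ ≫ (T.hom ⁻¹ᵁ V).ι ≫ T.hom = R.hom
    rw [← Category.assoc, IsOpenImmersion.lift_fac, Over.w])

@[simp] theorem lifO_resi {R T : Over S} (f : R ⟶ T) (V : S.Opens) (h : Set.range R.hom ⊆ V) :
    lifO f V h ≫ resi T V = f := by
  ext1
  exact IsOpenImmersion.lift_fac _ _ _

@[simp] theorem lifO_resi_assoc {R T Z : Over S} (f : R ⟶ T) (V : S.Opens) (h : Set.range R.hom ⊆ V) (g : T ⟶ Z) :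
    lifO f V h ≫ resi T V ≫ g = f ≫ g := by
  rw [← Category.assoc, lifO_resi]

theorem resO_cover (T : Over S) {V W : S.Opens} (h : V ⊔ W = ⊤) (t : T.left) :
    t ∈ Set.range (resi T V).left ∨ t ∈ Set.range (resi T W).left := by
  have h1 : T.hom t ∈ V ⊔ W := by rw [h]; trivial
  rcases h1 with h1 | h1
  · exact Or.inl ⟨⟨t, h1⟩, rfl⟩
  · exact Or.inr ⟨⟨t, h1⟩, rfl⟩

end res

/-- Gluing morphisms defined on two opens covering the source. -/
theorem exists_hom {T T₁ T₂ N : Over S} (t₁ : T₁ ⟶ T) (t₂ : T₂ ⟶ T) [IsOpenImmersion t₁.left]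
    [IsOpenImmersion t₂.left] (hc : ∀ t : T.left, t ∈ Set.range t₁.left ∨ t ∈ Set.range t₂.left)
    (f₁ : T₁ ⟶ N) (f₂ : T₂ ⟶ N)
    (h : ∀ (R : Over S) (p : R ⟶ T₁) (q : R ⟶ T₂), p ≫ t₁ = q ≫ t₂ → p ≫ f₁ = q ≫ f₂) :
    ∃ f : T ⟶ N, t₁ ≫ f = f₁ ∧ t₂ ≫ f = f₂ := by
  let 𝒰 := Groth.Agent.Ega4late.H542.GlueSup.cov t₁.left t₂.left hc
  have h12 : ∀ {Z : Scheme.{u}} (a : Z ⟶ T₁.left) (b : Z ⟶ T₂.left), a ≫ t₁.left = b ≫ t₂.left →
      a ≫ f₁.left = b ≫ f₂.left := by
    intro Z a b hab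
    have e : b ≫ T₂.hom = a ≫ T₁.hom := by
      rw [← Over.w t₁, ← Over.w t₂, ← Category.assoc, ← Category.assoc, hab]
    have := h (Over.mk (a ≫ T₁.hom)) (Over.homMk a rfl) (Over.homMk b e) (by ext1; exact hab)
    exact congrArg (fun z => z.left) this
  let G : ∀ i, 𝒰.X i ⟶ N.left := fun i => by
    cases i
    · exact f₁.left
    · exact f₂.left
  have hG : ∀ i j, pullback.fst (𝒰.f i) (𝒰.f j) ≫ G i = pullback.snd _ _ ≫ G j := by
    rintro (_ | _) (_ | _)
    · have : pullback.fst t₁.left t₁.left = pullback.snd _ _ := by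
        rw [← cancel_mono t₁.left, pullback.condition]
      exact congr($this ≫ f₁.left)
    · exact h12 _ _ pullback.condition
    · exact (h12 _ _ pullback.condition.symm).symm
    · have : pullback.fst t₂.left t₂.left = pullback.snd _ _ := by
        rw [← cancel_mono t₂.left, pullback.condition]
      exact congr($this ≫ f₂.left)
  let f : T.left ⟶ N.left := 𝒰.glueMorphisms G hG
  have e₁ : t₁.left ≫ f = f₁.left := 𝒰.ι_glueMorphisms G hG WalkingPair.left
  have e₂ : t₂.left ≫ f = f₂.left := 𝒰.ι_glueMorphisms G hG WalkingPair.right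
  have hw : f ≫ N.hom = T.hom := by
    refine 𝒰.hom_ext _ _ ?_
    rintro (_ | _)
    · change t₁.left ≫ f ≫ N.hom = t₁.left ≫ T.hom
      rw [← Category.assoc, e₁, Over.w, Over.w]
    · change t₂.left ≫ f ≫ N.hom = t₂.left ≫ T.hom
      rw [← Category.assoc, e₂, Over.w, Over.w]
  refine ⟨Over.homMk f hw, ?_, ?_⟩
  · ext1; exact e₁
  · ext1; exact e₂

/-- Morphisms agreeing on two opens covering the source agree. -/
theorem hom_ext {T T₁ T₂ N : Over S} (t₁ : T₁ ⟶ T) (t₂ : T₂ ⟶ T) [IsOpenImmersion t₁.left]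
    [IsOpenImmersion t₂.left] (hc : ∀ t : T.left, t ∈ Set.range t₁.left ∨ t ∈ Set.range t₂.left)
    {f g : T ⟶ N} (h₁ : t₁ ≫ f = t₁ ≫ g) (h₂ : t₂ ≫ f = t₂ ≫ g) : f = g := by
  let 𝒰 := Groth.Agent.Ega4late.H542.GlueSup.cov t₁.left t₂.left hc
  ext1
  refine 𝒰.hom_ext _ _ ?_
  rintro (_ | _)
  · exact congrArg (fun z => z.left) h₁
  · exact congrArg (fun z => z.left) h₂

theorem pushout_eq_iff {C A B : Scheme.{u}} (i : C ⟶ A) (j : C ⟶ B) [IsOpenImmersion i] [IsOpenImmersion j]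
    (x : A) (y : B) (h : pushout.inl i j x = pushout.inr i j y) : ∃ z : C, i z = x ∧ j z = y := by
  have {k l : WalkingSpan} (t : k ⟶ l) := Groth.Agent.FlatA.GlueTwo.isOpenImmersion_span_map i j t
  have h1 : colimit.ι (span i j) WalkingSpan.left x = colimit.ι (span i j) WalkingSpan.right y := h
  rw [Scheme.IsLocallyDirected.ι_eq_ι_iff] at h1
  obtain ⟨k, fi, fj, z, hz1, hz2⟩ := h1
  obtain (_ | (_ | _)) := k
  · have e1 : fi = WalkingSpan.Hom.fst := Subsingleton.elim _ _
    have e2 : fj = WalkingSpan.Hom.snd := Subsingleton.elim _ _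
    subst e1 e2
    exact ⟨z, hz1, hz2⟩
  · exact (IsEmpty.false (self := by exact ⟨fun f => by cases f⟩) fj).elim
  · exact (IsEmpty.false (self := by exact ⟨fun f => by cases f⟩) fi).elim

/-- Gluing two `S`-schemes along a common open. -/
theorem exists_glue {A B C : Over S} (i : C ⟶ A) (j : C ⟶ B) [IsOpenImmersion i.left]
    [IsOpenImmersion j.left] :
    ∃ (G : Over S) (a : A ⟶ G) (b : B ⟶ G), IsOpenImmersion a.left ∧ IsOpenImmersion b.left ∧
      (∀ t : G.left, t ∈ Set.range a.left ∨ t ∈ Set.range b.left) ∧ i ≫ a = j ≫ b ∧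
      ∀ (x : A.left) (y : B.left), a.left x = b.left y → ∃ z : C.left, i.left z = x ∧ j.left z = y := by
  let G : Over S := Over.mk (pushout.desc (f := i.left) (g := j.left) A.hom B.hom (by rw [Over.w, Over.w]))
  let a : A ⟶ G := Over.homMk (pushout.inl i.left j.left) (pushout.inl_desc _ _ _)
  let b : B ⟶ G := Over.homMk (pushout.inr i.left j.left) (pushout.inr_desc _ _ _)
  have ha : IsOpenImmersion a.left := inferInstanceAs (IsOpenImmersion (pushout.inl i.left j.left))
  have hb : IsOpenImmersion b.left := inferInstanceAs (IsOpenImmersion (pushout.inr i.left j.left))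
  exact ⟨G, a, b, ha, hb, fun t => Groth.Agent.FlatA.GlueTwo.jointly_surjective _ _ t,
    Over.OverMorphism.ext pushout.condition, fun x y h => pushout_eq_iff _ _ x y h⟩

end K691.Glue2
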