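import Groth.Agent.AgPol.K691.CoarseQ
import Groth.Agent.AgPol.K691.Glue2

/-!
# Gluing coarse moduli spaces over an open cover of the base

* `onV F V`: the families over schemes mapping into the open `V` of the base.
* `exists_glued`: local best approximations over two opens covering the base glue.
* `exists_iso`: comparison of a local best approximation with one over an open of the base.
-/

set_option autoImplicit false

universe v u

open CategoryTheory Limits AlgebraicGeometry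

namespace K691.CoarseGlue

open ModFun K691.CoarseQ K691.Glue2

variable {S : Scheme.{u}}

/-- The families over schemes mapping into the open `V` of the base. -/
abbrev onV (F : Problem.{v} S) (V : S.Opens) : Problem.{v} S :=
  F.restrict fun T _ => Set.range T.hom ⊆ (V : Set S)

theorem preLaws_onV {F : Problem.{v} S} {P : ObjectProperty (Over S)} (hF : PreLaws F P) (V : S.Opens) :
    PreLaws (onV F V) P :=
  hF.restrict _ fun k _ _ _ _ h => (range_hom_le k).trans h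

section sys

variable {F : Problem.{v} S} {P : ObjectProperty (Over S)}

/-- The tautological system. -/
def sysId {M O : Over S} (Φ : F.Hom P M) (j : O ⟶ M) : Sys Φ j O where
  app _ _ _ _ f _ := f
  natural _ _ _ _ _ _ _ _ _ := rfl
  resp _ _ _ _ _ _ _ _ _ := rfl

variable {V V' : S.Opens} {M M' O : Over S}

/-- The system given by another morphism. -/
def sysOf (Φ : (onV F V).Hom P M) (Φ' : (onV F V').Hom P M') (j : O ⟶ M) (hO : Set.range O.hom ⊆ (V' : Set S)) :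
    Sys Φ j M' where
  app T x hT hx f _ := Φ'.app T x hT ⟨hx.1, (range_hom_le f).trans hO⟩
  natural g x hT hT' _ _ _ _ _ := Φ'.natural g x hT hT' _ _
  resp x y hT _ _ _ _ _ h := Φ'.resp x y hT _ _ h

/-- The comparison map. -/
theorem exists_cmp {Φ : (onV F V).Hom P M} (L : LB Φ) (Φ' : (onV F V').Hom P M') (j : O ⟶ M)
    [hj : IsOpenImmersion j.left] (hO : Set.range O.hom ⊆ (V' : Set S)) :
    ∃ h : O ⟶ M', ∀ (T : Over S) (x : F.Fam T) (hT : P T) (hx : (onV F V).ok T x) (hx' : (onV F V').ok T x)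
      (f : T ⟶ O), f ≫ j = Φ.app T x hT hx → Φ'.app T x hT hx' = f ≫ h := by
  obtain ⟨h, hh, -⟩ := L O j hj M' (sysOf Φ Φ' j hO)
  exact ⟨h, fun T x hT hx hx' f hf => hh T x hT hx f hf⟩

/-- Endomorphisms compatible with the classifying maps are trivial. -/
theorem LB.eq_id {Φ : F.Hom P M} (L : LB Φ) (j : O ⟶ M) [hj : IsOpenImmersion j.left] (h : O ⟶ O)
    (hh : ∀ (T : Over S) (x : F.Fam T) (hT : P T) (hx : F.ok T x) (f : T ⟶ O), f ≫ j = Φ.app T x hT hx →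
      f ≫ h = f) : h = 𝟙 O := by
  obtain ⟨g, -, hg⟩ := L O j hj O (sysId Φ j)
  rw [hg h (fun T x hT hx f hf => (hh T x hT hx f hf).symm), hg (𝟙 O) (fun T x hT hx f hf => (Category.comp_id f).symm)]

/-- The overlaps of two local best approximations are isomorphic. -/
theorem exists_overlap {Φ : (onV F V).Hom P M} {Φ' : (onV F V').Hom P M'} (L : LB Φ) (L' : LB Φ')
    (h : Set.range M.hom ⊆ (V : Set S)) (h' : Set.range M'.hom ⊆ (V' : Set S)) :
    ∃ e : resO M V' ≅ resO M' V,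
      ∀ (T : Over S) (x : F.Fam T) (hT : P T) (hx : (onV F V).ok T x) (hx' : (onV F V').ok T x) (f : T ⟶ resO M V'),
        f ≫ resi M V' = Φ.app T x hT hx → Φ'.app T x hT hx' = f ≫ e.hom ≫ resi M' V := by
  obtain ⟨a, ha⟩ := exists_cmp L Φ' (resi M V') (range_resO M V')
  obtain ⟨b, hb⟩ := exists_cmp L' Φ (resi M' V) (range_resO M' V)
  let a' : resO M V' ⟶ resO M' V := lifO a V ((range_resO_le M V').trans h)
  let b' : resO M' V ⟶ resO M V' := lifO b V' ((range_resO_le M' V).trans h')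
  have ha' : a' ≫ resi M' V = a := lifO_resi _ _ _
  have hb' : b' ≫ resi M V' = b := lifO_resi _ _ _
  have e1 : a' ≫ b' = 𝟙 _ := LB.eq_id L (resi M V') _ (fun T x hT hx f hf => by
    have hx' : (onV F V').ok T x := ⟨hx.1, (range_hom_le f).trans (range_resO M V')⟩
    have h1 := ha T x hT hx hx' f hf
    have h2 := hb T x hT hx' hx (f ≫ a') (by rw [Category.assoc, ha', h1])
    rw [← cancel_mono (resi M V'), Category.assoc, Category.assoc, hb', hf, h2, Category.assoc])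
  have e2 : b' ≫ a' = 𝟙 _ := LB.eq_id L' (resi M' V) _ (fun T x hT hx' f hf => by
    have hx : (onV F V).ok T x := ⟨hx'.1, (range_hom_le f).trans (range_resO M' V)⟩
    have h1 := hb T x hT hx' hx f hf
    have h2 := ha T x hT hx hx' (f ≫ b') (by rw [Category.assoc, hb', h1])
    rw [← cancel_mono (resi M' V), Category.assoc, Category.assoc, ha', hf, h2, Category.assoc])
  exact ⟨⟨a', b', e1, e2⟩, fun T x hT hx hx' f hf => by
    change _ = f ≫ a' ≫ _
    rw [ha', ha T x hT hx hx' f hf]⟩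

end sys

section glue

variable {F : Problem.{v} S} {P : ObjectProperty (Over S)}
variable {V W : S.Opens} {M₁ M₂ M : Over S}

/-- The glued scheme. -/
structure GlueData (Φ₁ : (onV F V).Hom P M₁) (Φ₂ : (onV F W).Hom P M₂) (M : Over S) (i₁ : M₁ ⟶ M) (i₂ : M₂ ⟶ M) :
    Prop where
  o₁ : IsOpenImmersion i₁.left
  o₂ : IsOpenImmersion i₂.left
  cov : ∀ t : M.left, t ∈ Set.range i₁.left ∨ t ∈ Set.range i₂.left
  agree : ∀ (T : Over S) (x : F.Fam T) (hT : P T) (hx : (onV F V).ok T x) (hx' : (onV F W).ok T x),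
    Φ₁.app T x hT hx ≫ i₁ = Φ₂.app T x hT hx' ≫ i₂
  fac₁ : ∀ (T : Over S) (f : T ⟶ M), Set.range T.hom ⊆ (V : Set S) → ∃ g : T ⟶ M₁, g ≫ i₁ = f
  fac₂ : ∀ (T : Over S) (f : T ⟶ M), Set.range T.hom ⊆ (W : Set S) → ∃ g : T ⟶ M₂, g ≫ i₂ = f

theorem exists_fac {T A B : Over S} (i : A ⟶ B) [IsOpenImmersion i.left] (f : T ⟶ B)
    (h : Set.range f.left ⊆ Set.range i.left) : ∃ g : T ⟶ A, g ≫ i = f := by
  refine ⟨Over.homMk (IsOpenImmersion.lift i.left f.left h) ?_, ?_⟩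
  · rw [← Over.w i, ← Category.assoc, IsOpenImmersion.lift_fac, Over.w]
  · ext1
    exact IsOpenImmersion.lift_fac _ _ _

theorem exists_glueData {Φ₁ : (onV F V).Hom P M₁} {Φ₂ : (onV F W).Hom P M₂} (L₁ : LB Φ₁) (L₂ : LB Φ₂)
    (h₁ : Set.range M₁.hom ⊆ (V : Set S)) (h₂ : Set.range M₂.hom ⊆ (W : Set S)) :
    ∃ (M : Over S) (i₁ : M₁ ⟶ M) (i₂ : M₂ ⟶ M), GlueData Φ₁ Φ₂ M i₁ i₂ := by
  obtain ⟨e, he⟩ := exists_overlap L₁ L₂ h₁ h₂
  have : IsIso e.hom.left := inferInstance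
  have : IsOpenImmersion (e.hom ≫ resi M₂ V).left := by
    rw [Over.comp_left]
    infer_instance
  obtain ⟨M, i₁, i₂, o₁, o₂, hc, hg, hp⟩ := exists_glue (resi M₁ W) (e.hom ≫ resi M₂ V)
  refine ⟨M, i₁, i₂, o₁, o₂, hc, ?_, ?_, ?_⟩
  · intro T x hT hx hx'
    let f' := lifO (Φ₁.app T x hT hx) W hx'.2
    have e1 : f' ≫ resi M₁ W = Φ₁.app T x hT hx := lifO_resi _ _ _
    rw [he T x hT hx hx' f' e1, ← e1, Category.assoc, hg]
    simp only [Category.assoc]
  · intro T f hT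
    refine exists_fac i₁ f ?_
    rintro _ ⟨t, rfl⟩
    rcases hc (f.left t) with h | ⟨y, hy⟩
    · exact h
    · have hyV : M₂.hom y ∈ V := by
        have h3 : M₂.hom y = T.hom t := by
          rw [← Over.w i₂, ← Over.w f, Scheme.Hom.comp_apply, Scheme.Hom.comp_apply, hy]
        rw [h3]
        exact hT ⟨t, rfl⟩
      let y' : (resO M₂ V).left := ⟨y, hyV⟩
      have hy' : (resi M₂ V).left y' = y := rfl
      refine ⟨(resi M₁ W).left (e.inv.left y'), ?_⟩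
      have h5 : e.inv ≫ resi M₁ W ≫ i₁ = resi M₂ V ≫ i₂ := by
        rw [hg, Category.assoc, e.inv_hom_id_assoc]
      have h4 : (e.inv ≫ resi M₁ W ≫ i₁).left y' = i₂.left y := by
        rw [h5]
        rfl
      rw [← hy, ← h4]
      rfl
  · intro T f hT
    refine exists_fac i₂ f ?_
    rintro _ ⟨t, rfl⟩
    rcases hc (f.left t) with ⟨y, hy⟩ | h
    · have hyW : M₁.hom y ∈ W := by
        have h3 : M₁.hom y = T.hom t := by
          rw [← Over.w i₁, ← Over.w f, Scheme.Hom.comp_apply, Scheme.Hom.comp_apply, hy]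
        rw [h3]
        exact hT ⟨t, rfl⟩
      let y' : (resO M₁ W).left := ⟨y, hyW⟩
      refine ⟨(e.hom ≫ resi M₂ V).left y', ?_⟩
      have h4 : ((e.hom ≫ resi M₂ V) ≫ i₂).left y' = i₁.left y := by
        rw [← hg, Over.comp_left, Scheme.Hom.comp_apply]
        rfl
      rw [← hy, ← h4]
      rfl
    · exact h

variable {Φ₁ : (onV F V).Hom P M₁} {Φ₂ : (onV F W).Hom P M₂} {i₁ : M₁ ⟶ M} {i₂ : M₂ ⟶ M}
  (hF : PreLaws F P) (hP : ∀ {T T' : Over S} (j : T' ⟶ T), IsOpenImmersion j.left → P T → P T')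
  (hVW : V ⊔ W = ⊤) (D : GlueData Φ₁ Φ₂ M i₁ i₂)

/-- Characterisation of the glued classifying map. -/
def Cl (Φ₁ : (onV F V).Hom P M₁) (Φ₂ : (onV F W).Hom P M₂) (i₁ : M₁ ⟶ M) (i₂ : M₂ ⟶ M) (hF : PreLaws F P)
    {T : Over S} (x : F.Fam T) (hT : P T) (hx : F.ok T x) (f : T ⟶ M) : Prop :=
  ∀ (R : Over S) (a : R ⟶ T) (hR : P R),
    (∀ h : Set.range R.hom ⊆ (V : Set S), a ≫ f = Φ₁.app R (F.pull a x) hR ⟨hF.pull_ok a x hT hR hx, h⟩ ≫ i₁) ∧
    (∀ h : Set.range R.hom ⊆ (W : Set S), a ≫ f = Φ₂.app R (F.pull a x) hR ⟨hF.pull_ok a x hT hR hx, h⟩ ≫ i₂)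

include hP hVW D in
theorem exists_cl {T : Over S} (x : F.Fam T) (hT : P T) (hx : F.ok T x) : ∃ f, Cl Φ₁ Φ₂ i₁ i₂ hF x hT hx f := by
  have hT₁ : P (resO T V) := hP (resi T V) inferInstance hT
  have hT₂ : P (resO T W) := hP (resi T W) inferInstance hT
  have ok₁ : (onV F V).ok _ (F.pull (resi T V) x) := ⟨hF.pull_ok _ x hT hT₁ hx, range_resO T V⟩
  have ok₂ : (onV F W).ok _ (F.pull (resi T W) x) := ⟨hF.pull_ok _ x hT hT₂ hx, range_resO T W⟩
  have n₁ : ∀ (R : Over S) (hR : P R) (p : R ⟶ resO T V) (a : R ⟶ T) (hok : (onV F V).ok R (F.pull a x)),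
      p ≫ resi T V = a → p ≫ Φ₁.app _ (F.pull (resi T V) x) hT₁ ok₁ = Φ₁.app R (F.pull a x) hR hok := by
    intro R hR p a hok e
    subst e
    have ok3 : (onV F V).ok R (F.pull p (F.pull (resi T V) x)) := ⟨hF.pull_ok p _ hT₁ hR ok₁.1, hok.2⟩
    have e4 := Φ₁.natural p (F.pull (resi T V) x) hT₁ hR ok₁ ok3
    refine e4.symm.trans ?_
    exact Φ₁.resp _ _ hR ok3 hok (hF.symm _ _ _ hR hok.1 ok3.1 (hF.pull_comp (resi T V) p x hT hT₁ hR hx))
  have n₂ : ∀ (R : Over S) (hR : P R) (p : R ⟶ resO T W) (a : R ⟶ T) (hok : (onV F W).ok R (F.pull a x)),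
      p ≫ resi T W = a → p ≫ Φ₂.app _ (F.pull (resi T W) x) hT₂ ok₂ = Φ₂.app R (F.pull a x) hR hok := by
    intro R hR p a hok e
    subst e
    have ok3 : (onV F W).ok R (F.pull p (F.pull (resi T W) x)) := ⟨hF.pull_ok p _ hT₂ hR ok₂.1, hok.2⟩
    have e4 := Φ₂.natural p (F.pull (resi T W) x) hT₂ hR ok₂ ok3
    refine e4.symm.trans ?_
    exact Φ₂.resp _ _ hR ok3 hok (hF.symm _ _ _ hR hok.1 ok3.1 (hF.pull_comp (resi T W) p x hT hT₂ hR hx))
  have hR₀ : P (pullback (resi T V) (resi T W)) := by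
    have h2 : IsPullback (pullback.fst (resi T V) (resi T W)).left (pullback.snd (resi T V) (resi T W)).left
      (resi T V).left (resi T W).left := (IsPullback.of_hasPullback (resi T V) (resi T W)).map (Over.forget S)
    exact hP (pullback.fst (resi T V) (resi T W))
      (MorphismProperty.of_isPullback (P := @IsOpenImmersion) h2.flip inferInstance) hT₁
  have key : pullback.fst (resi T V) (resi T W) ≫ Φ₁.app _ (F.pull (resi T V) x) hT₁ ok₁ ≫ i₁ =
      pullback.snd (resi T V) (resi T W) ≫ Φ₂.app _ (F.pull (resi T W) x) hT₂ ok₂ ≫ i₂ := by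
    have r1 : Set.range (pullback (resi T V) (resi T W)).hom ⊆ (V : Set S) :=
      (range_hom_le (pullback.fst (resi T V) (resi T W))).trans (range_resO T V)
    have r2 : Set.range (pullback (resi T V) (resi T W)).hom ⊆ (W : Set S) :=
      (range_hom_le (pullback.snd (resi T V) (resi T W))).trans (range_resO T W)
    have okr := hF.pull_ok (pullback.fst (resi T V) (resi T W) ≫ resi T V) x hT hR₀ hx
    rw [← Category.assoc, ← Category.assoc, n₁ _ hR₀ _ (pullback.fst (resi T V) (resi T W) ≫ resi T V) ⟨okr, r1⟩ rfl,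
      n₂ _ hR₀ _ (pullback.fst (resi T V) (resi T W) ≫ resi T V) ⟨okr, r2⟩ pullback.condition.symm]
    exact D.agree _ _ hR₀ _ _
  obtain ⟨f, hf₁, hf₂⟩ := exists_hom (resi T V) (resi T W) (resO_cover T hVW)
    (Φ₁.app _ (F.pull (resi T V) x) hT₁ ok₁ ≫ i₁) (Φ₂.app _ (F.pull (resi T W) x) hT₂ ok₂ ≫ i₂) (by
      intro R p q hpq
      have h2 := congrArg (fun z => pullback.lift p q hpq ≫ z) key
      simp only [pullback.lift_fst_assoc, pullback.lift_snd_assoc] at h2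
      exact h2)
  refine ⟨f, fun R a hR => ⟨fun h => ?_, fun h => ?_⟩⟩
  · rw [← n₁ R hR (lifO a V h) a _ (lifO_resi _ _ _), Category.assoc, ← hf₁, lifO_resi_assoc]
  · rw [← n₂ R hR (lifO a W h) a _ (lifO_resi _ _ _), Category.assoc, ← hf₂, lifO_resi_assoc]

include hP hVW in
theorem cl_unique {T : Over S} (x : F.Fam T) (hT : P T) (hx : F.ok T x) {f g : T ⟶ M}
    (hf : Cl Φ₁ Φ₂ i₁ i₂ hF x hT hx f) (hg : Cl Φ₁ Φ₂ i₁ i₂ hF x hT hx g) : f = g := by
  have hT₁ : P (resO T V) := hP (resi T V) inferInstance hT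
  have hT₂ : P (resO T W) := hP (resi T W) inferInstance hT
  refine K691.Glue2.hom_ext (resi T V) (resi T W) (resO_cover T hVW) ?_ ?_
  · rw [(hf _ (resi T V) hT₁).1 (range_resO T V), (hg _ (resi T V) hT₁).1 (range_resO T V)]
  · rw [(hf _ (resi T W) hT₂).2 (range_resO T W), (hg _ (resi T W) hT₂).2 (range_resO T W)]

theorem cl_pull {T T' : Over S} (g : T' ⟶ T) (x : F.Fam T) (hT : P T) (hT' : P T') (hx : F.ok T x)
    (hx' : F.ok T' (F.pull g x)) {f : T ⟶ M} (hf : Cl Φ₁ Φ₂ i₁ i₂ hF x hT hx f) :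
    Cl Φ₁ Φ₂ i₁ i₂ hF (F.pull g x) hT' hx' (g ≫ f) := by
  intro R a hR
  have h1 := hf R (a ≫ g) hR
  have ok1 := hF.pull_ok (a ≫ g) x hT hR hx
  have ok2 := hF.pull_ok a (F.pull g x) hT' hR hx'
  refine ⟨fun h => ?_, fun h => ?_⟩
  · rw [← Category.assoc, h1.1 h]
    congr 1
    exact Φ₁.resp _ _ hR ⟨ok1, h⟩ ⟨ok2, h⟩ (hF.pull_comp g a x hT hT' hR hx)
  · rw [← Category.assoc, h1.2 h]
    congr 1
    exact Φ₂.resp _ _ hR ⟨ok1, h⟩ ⟨ok2, h⟩ (hF.pull_comp g a x hT hT' hR hx)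

theorem cl_congr {T : Over S} (x y : F.Fam T) (hT : P T) (hx : F.ok T x) (hy : F.ok T y) (hxy : F.r T x y)
    {f : T ⟶ M} (hf : Cl Φ₁ Φ₂ i₁ i₂ hF x hT hx f) : Cl Φ₁ Φ₂ i₁ i₂ hF y hT hy f := by
  intro R a hR
  have h1 := hf R a hR
  have ok1 := hF.pull_ok a x hT hR hx
  have ok2 := hF.pull_ok a y hT hR hy
  refine ⟨fun h => ?_, fun h => ?_⟩
  · rw [h1.1 h]
    congr 1
    exact Φ₁.resp _ _ hR ⟨ok1, h⟩ ⟨ok2, h⟩ (hF.pull_r a x y hT hR hx hy hxy)
  · rw [h1.2 h]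
    congr 1
    exact Φ₂.resp _ _ hR ⟨ok1, h⟩ ⟨ok2, h⟩ (hF.pull_r a x y hT hR hx hy hxy)

/-- The glued classifying maps. -/
noncomputable def glued : F.Hom P M where
  app _ x hT hx := (exists_cl hF hP hVW D x hT hx).choose
  natural g x hT hT' hx hx' := cl_unique hF hP hVW (F.pull g x) hT' hx'
    (exists_cl hF hP hVW D (F.pull g x) hT' hx').choose_spec
    (cl_pull hF g x hT hT' hx hx' (exists_cl hF hP hVW D x hT hx).choose_spec)
  resp x y hT hx hy hxy := cl_unique hF hP hVW y hT hy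
    (cl_congr hF x y hT hx hy hxy (exists_cl hF hP hVW D x hT hx).choose_spec)
    (exists_cl hF hP hVW D y hT hy).choose_spec

theorem glued_app₁ {T : Over S} (x : F.Fam T) (hT : P T) (hx : F.ok T x) (h : Set.range T.hom ⊆ (V : Set S)) :
    (glued hF hP hVW D).app T x hT hx = Φ₁.app T x hT ⟨hx, h⟩ ≫ i₁ := by
  have h1 := ((exists_cl hF hP hVW D x hT hx).choose_spec T (𝟙 T) hT).1 h
  rw [Category.id_comp] at h1
  refine h1.trans ?_
  congr 1
  exact Φ₁.resp _ _ hT _ _ (hF.pull_id T x hT hx)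

theorem glued_app₂ {T : Over S} (x : F.Fam T) (hT : P T) (hx : F.ok T x) (h : Set.range T.hom ⊆ (W : Set S)) :
    (glued hF hP hVW D).app T x hT hx = Φ₂.app T x hT ⟨hx, h⟩ ≫ i₂ := by
  have h1 := ((exists_cl hF hP hVW D x hT hx).choose_spec T (𝟙 T) hT).2 h
  rw [Category.id_comp] at h1
  refine h1.trans ?_
  congr 1
  exact Φ₂.resp _ _ hT _ _ (hF.pull_id T x hT hx)

/-- The system on a piece. -/
def sysPiece₁ {Φ : F.Hom P M} (hΦ : ∀ (T : Over S) (x : F.Fam T) (hT : P T) (hx : F.ok T x)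
    (h : Set.range T.hom ⊆ (V : Set S)), Φ.app T x hT hx = Φ₁.app T x hT ⟨hx, h⟩ ≫ i₁)
    {O O₁ N : Over S} {j : O ⟶ M} (ψ : Sys Φ j N) (e : O₁ ⟶ O) (k : O₁ ⟶ M₁) (hek : e ≫ j = k ≫ i₁) :
    Sys Φ₁ k N where
  app T x hT hx f hf := ψ.app T x hT hx.1 (f ≫ e) (by
    rw [hΦ T x hT hx.1 hx.2, Category.assoc, hek, ← Category.assoc, hf])
  natural g x hT hT' hx hx' f hf hf' := by
    have h0 : (f ≫ e) ≫ j = Φ.app _ x hT hx.1 := by
      rw [hΦ _ x hT hx.1 hx.2, Category.assoc, hek, ← Category.assoc, hf]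
    have h2 : (g ≫ f ≫ e) ≫ j = Φ.app _ (F.pull g x) hT' hx'.1 := by
      refine Eq.trans ?_ (hΦ _ _ hT' hx'.1 hx'.2).symm
      rw [← hf']
      simp only [Category.assoc, hek]
    have h1 := ψ.natural g x hT hT' hx.1 hx'.1 (f ≫ e) h0 h2
    refine Eq.trans ?_ h1
    congr 1
  resp x y hT hx hy f hf hf' h := ψ.resp x y hT hx.1 hy.1 (f ≫ e) _ _ h

/-- The values of a system depend only on the map. -/
theorem sys_congr {Φ : F.Hom P M} {O N : Over S} {j : O ⟶ M} (ψ : Sys Φ j N) {T : Over S} (x : F.Fam T) (hT : P T)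
    (hx : F.ok T x) {f f' : T ⟶ O} (h : f = f') (hf : f ≫ j = Φ.app T x hT hx) (hf' : f' ≫ j = Φ.app T x hT hx) :
    ψ.app T x hT hx f hf = ψ.app T x hT hx f' hf' := by
  subst h
  rfl

variable {Φ : F.Hom P M}
  (hΦ₁ : ∀ (T : Over S) (x : F.Fam T) (hT : P T) (hx : F.ok T x) (h : Set.range T.hom ⊆ (V : Set S)),
    Φ.app T x hT hx = Φ₁.app T x hT ⟨hx, h⟩ ≫ i₁)
  (hΦ₂ : ∀ (T : Over S) (x : F.Fam T) (hT : P T) (hx : F.ok T x) (h : Set.range T.hom ⊆ (W : Set S)),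
    Φ.app T x hT hx = Φ₂.app T x hT ⟨hx, h⟩ ≫ i₂)

include hF hP hVW D hΦ₁ hΦ₂ in
/-- Local best approximations over two opens covering the base glue. -/
theorem lb_of_pieces (L₁ : LB Φ₁) (L₂ : LB Φ₂) (h₂ : Set.range M₂.hom ⊆ (W : Set S)) : LB Φ := by
  intro O j hj N ψ
  have o₁ := D.o₁
  have o₂ := D.o₂
  have m₂ : Mono i₂ := mono_of_left i₂
  have m₁ : Mono i₁ := mono_of_left i₁
  let e₁ : pullback j i₁ ⟶ O := pullback.fst j i₁
  let e₂ : pullback j i₂ ⟶ O := pullback.fst j i₂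
  let k₁ : pullback j i₁ ⟶ M₁ := pullback.snd j i₁
  let k₂ : pullback j i₂ ⟶ M₂ := pullback.snd j i₂
  have c₁ : e₁ ≫ j = k₁ ≫ i₁ := pullback.condition
  have c₂ : e₂ ≫ j = k₂ ≫ i₂ := pullback.condition
  have q₁ : IsPullback e₁.left k₁.left j.left i₁.left := (IsPullback.of_hasPullback j i₁).map (Over.forget S)
  have q₂ : IsPullback e₂.left k₂.left j.left i₂.left := (IsPullback.of_hasPullback j i₂).map (Over.forget S)
  have oe₁ : IsOpenImmersion e₁.left := MorphismProperty.of_isPullback (P := @IsOpenImmersion) q₁.flip o₁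
  have oe₂ : IsOpenImmersion e₂.left := MorphismProperty.of_isPullback (P := @IsOpenImmersion) q₂.flip o₂
  have ok₁ : IsOpenImmersion k₁.left := MorphismProperty.of_isPullback (P := @IsOpenImmersion) q₁ hj
  have ok₂ : IsOpenImmersion k₂.left := MorphismProperty.of_isPullback (P := @IsOpenImmersion) q₂ hj
  obtain ⟨g₁, hg₁, ug₁⟩ := L₁ _ k₁ ok₁ N (sysPiece₁ hΦ₁ ψ e₁ k₁ c₁)
  obtain ⟨g₂, hg₂, ug₂⟩ := L₂ _ k₂ ok₂ N (sysPiece₁ hΦ₂ ψ e₂ k₂ c₂)
  have cov : ∀ t : O.left, t ∈ Set.range e₁.left ∨ t ∈ Set.range e₂.left := by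
    intro t
    rcases D.cov (j.left t) with ⟨y, hy⟩ | ⟨y, hy⟩
    · obtain ⟨z, hz, -⟩ := Scheme.Pullback.exists_preimage_pullback t y hy.symm
      refine Or.inl ⟨q₁.isoPullback.inv z, ?_⟩
      rw [← Scheme.Hom.comp_apply, IsPullback.isoPullback_inv_fst]
      exact hz
    · obtain ⟨z, hz, -⟩ := Scheme.Pullback.exists_preimage_pullback t y hy.symm
      refine Or.inr ⟨q₂.isoPullback.inv z, ?_⟩
      rw [← Scheme.Hom.comp_apply, IsPullback.isoPullback_inv_fst]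
      exact hz
  -- agreement on the overlap
  let r₁ : pullback e₁ e₂ ⟶ pullback j i₁ := pullback.fst e₁ e₂
  let r₂ : pullback e₁ e₂ ⟶ pullback j i₂ := pullback.snd e₁ e₂
  have cr : r₁ ≫ e₁ = r₂ ≫ e₂ := pullback.condition
  have qr : IsPullback r₁.left r₂.left e₁.left e₂.left := (IsPullback.of_hasPullback e₁ e₂).map (Over.forget S)
  have or₁ : IsOpenImmersion r₁.left := MorphismProperty.of_isPullback (P := @IsOpenImmersion) qr.flip oe₂
  have ork : IsOpenImmersion (r₁ ≫ k₁).left := by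
    rw [Over.comp_left]
    infer_instance
  have c₁₂ : (r₁ ≫ e₁) ≫ j = (r₁ ≫ k₁) ≫ i₁ := by rw [Category.assoc, c₁, Category.assoc]
  have key : r₁ ≫ g₁ = r₂ ≫ g₂ := by
    obtain ⟨g, -, ug⟩ := L₁ _ (r₁ ≫ k₁) ork N (sysPiece₁ hΦ₁ ψ (r₁ ≫ e₁) (r₁ ≫ k₁) c₁₂)
    refine (ug (r₁ ≫ g₁) ?_).trans (ug (r₂ ≫ g₂) ?_).symm
    · intro T x hT hx f hf
      have hf' : (f ≫ r₁) ≫ k₁ = Φ₁.app T x hT hx := by rw [← hf, Category.assoc]
      have h3 := hg₁ T x hT hx (f ≫ r₁) hf'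
      rw [Category.assoc] at h3
      refine Eq.trans ?_ h3
      exact sys_congr ψ x hT hx.1 (Category.assoc _ _ _).symm _ _
    · intro T x hT hx f hf
      have hx₂ : (onV F W).ok T x := ⟨hx.1, (range_hom_le (f ≫ r₂ ≫ k₂)).trans h₂⟩
      have hf' : (f ≫ r₂) ≫ k₂ = Φ₂.app T x hT hx₂ := by
        rw [← cancel_mono i₂, ← D.agree T x hT hx hx₂, ← hf]
        simp only [Category.assoc]
        rw [← c₂, ← c₁, reassoc_of% cr]
      have h3 := hg₂ T x hT hx₂ (f ≫ r₂) hf'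
      rw [Category.assoc] at h3
      refine Eq.trans ?_ h3
      refine sys_congr ψ x hT hx.1 ?_ _ _
      rw [Category.assoc, cr]
  obtain ⟨h, eh₁, eh₂⟩ := exists_hom e₁ e₂ cov g₁ g₂ (by
    intro R p q hpq
    have h2 := congrArg (fun z => pullback.lift p q hpq ≫ z) key
    have e3 : pullback.lift p q hpq ≫ r₁ = p := pullback.lift_fst _ _ _
    have e4 : pullback.lift p q hpq ≫ r₂ = q := pullback.lift_snd _ _ _
    simp only [reassoc_of% e3, reassoc_of% e4] at h2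
    exact h2)
  refine ⟨h, ?_, ?_⟩
  · intro T x hT hx f hf
    have hT₁ : P (resO T V) := hP (resi T V) inferInstance hT
    have hT₂ : P (resO T W) := hP (resi T W) inferInstance hT
    have okT₁ : (onV F V).ok _ (F.pull (resi T V) x) := ⟨hF.pull_ok _ x hT hT₁ hx, range_resO T V⟩
    have okT₂ : (onV F W).ok _ (F.pull (resi T W) x) := ⟨hF.pull_ok _ x hT hT₂ hx, range_resO T W⟩
    refine K691.Glue2.hom_ext (resi T V) (resi T W) (resO_cover T hVW) ?_ ?_
    · have hf' : (resi T V ≫ f) ≫ j = Φ.app _ (F.pull (resi T V) x) hT₁ okT₁.1 := by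
        rw [Φ.natural (resi T V) x hT hT₁ hx okT₁.1, ← hf, Category.assoc]
      have hf'' : (resi T V ≫ f) ≫ j = Φ₁.app _ (F.pull (resi T V) x) hT₁ okT₁ ≫ i₁ := by
        rw [hf', hΦ₁ _ _ hT₁ okT₁.1 okT₁.2]
      let f₁ : resO T V ⟶ pullback j i₁ := pullback.lift (resi T V ≫ f) (Φ₁.app _ (F.pull (resi T V) x) hT₁ okT₁) hf''
      have a1 : f₁ ≫ e₁ = resi T V ≫ f := pullback.lift_fst _ _ _
      have a2 : f₁ ≫ k₁ = Φ₁.app _ (F.pull (resi T V) x) hT₁ okT₁ := pullback.lift_snd _ _ _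
      have a3 := hg₁ _ (F.pull (resi T V) x) hT₁ okT₁ f₁ a2
      have a4 : (resi T V ≫ f) ≫ h = f₁ ≫ g₁ := by rw [← a1, Category.assoc, eh₁]
      refine (ψ.natural (resi T V) x hT hT₁ hx okT₁.1 f hf hf').symm.trans (Eq.trans ?_ (a4.symm.trans (Category.assoc _ _ _)))
      refine Eq.trans ?_ a3
      exact sys_congr ψ _ hT₁ okT₁.1 a1.symm _ _
    · have hf' : (resi T W ≫ f) ≫ j = Φ.app _ (F.pull (resi T W) x) hT₂ okT₂.1 := by
        rw [Φ.natural (resi T W) x hT hT₂ hx okT₂.1, ← hf, Category.assoc]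
      have hf'' : (resi T W ≫ f) ≫ j = Φ₂.app _ (F.pull (resi T W) x) hT₂ okT₂ ≫ i₂ := by
        rw [hf', hΦ₂ _ _ hT₂ okT₂.1 okT₂.2]
      let f₂ : resO T W ⟶ pullback j i₂ := pullback.lift (resi T W ≫ f) (Φ₂.app _ (F.pull (resi T W) x) hT₂ okT₂) hf''
      have a1 : f₂ ≫ e₂ = resi T W ≫ f := pullback.lift_fst _ _ _
      have a2 : f₂ ≫ k₂ = Φ₂.app _ (F.pull (resi T W) x) hT₂ okT₂ := pullback.lift_snd _ _ _
      have a3 := hg₂ _ (F.pull (resi T W) x) hT₂ okT₂ f₂ a2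
      have a4 : (resi T W ≫ f) ≫ h = f₂ ≫ g₂ := by rw [← a1, Category.assoc, eh₂]
      refine (ψ.natural (resi T W) x hT hT₂ hx okT₂.1 f hf hf').symm.trans (Eq.trans ?_ (a4.symm.trans (Category.assoc _ _ _)))
      refine Eq.trans ?_ a3
      exact sys_congr ψ _ hT₂ okT₂.1 a1.symm _ _
  · intro h' hh'
    refine K691.Glue2.hom_ext e₁ e₂ cov ?_ ?_
    · rw [eh₁]
      refine ug₁ _ fun T x hT hx f hf => ?_
      have := hh' T x hT hx.1 (f ≫ e₁) (by
        rw [hΦ₁ T x hT hx.1 hx.2, Category.assoc, c₁, ← Category.assoc, hf])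
      exact this.trans (Category.assoc _ _ _)
    · rw [eh₂]
      refine ug₂ _ fun T x hT hx f hf => ?_
      have := hh' T x hT hx.1 (f ≫ e₂) (by
        rw [hΦ₂ T x hT hx.1 hx.2, Category.assoc, c₂, ← Category.assoc, hf])
      exact this.trans (Category.assoc _ _ _)

/-- The range of a field valued point lies in one of the two opens. -/
theorem range_pt {Ω : Type u} [Field Ω] (hVW : V ⊔ W = ⊤) (t : Spec (CommRingCat.of Ω) ⟶ S) :
    Set.range t ⊆ (V : Set S) ∨ Set.range t ⊆ (W : Set S) := by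
  have hs : Subsingleton ↥(Spec (CommRingCat.of Ω)) := inferInstanceAs (Subsingleton (PrimeSpectrum Ω))
  have h1 : t default ∈ V ⊔ W := by rw [hVW]; trivial
  rcases h1 with h1 | h1
  · left
    rintro _ ⟨a, rfl⟩
    rw [Subsingleton.elim a default]
    exact h1
  · right
    rintro _ ⟨a, rfl⟩
    rw [Subsingleton.elim a default]
    exact h1

include hVW D hΦ₁ hΦ₂ in
theorem geomBij_of_pieces (G₁ : GeomBij (onV F V) M₁ Φ₁) (G₂ : GeomBij (onV F W) M₂ Φ₂) : GeomBij F M Φ := by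
  intro Ω _ _ t ht
  have o₁ := D.o₁
  have o₂ := D.o₂
  have m₂ : Mono i₂ := mono_of_left i₂
  have m₁ : Mono i₁ := mono_of_left i₁
  rcases range_pt hVW t with hr | hr
  · refine ⟨fun g => ?_, fun x y hx hy hxy => ?_⟩
    · obtain ⟨g', rfl⟩ := D.fac₁ _ g hr
      obtain ⟨x, hx, rfl⟩ := (G₁ Ω t ht).1 g'
      exact ⟨x, hx.1, hΦ₁ _ x ht hx.1 hx.2⟩
    · rw [hΦ₁ _ x ht hx hr, hΦ₁ _ y ht hy hr, cancel_mono] at hxy
      exact (G₁ Ω t ht).2 x y ⟨hx, hr⟩ ⟨hy, hr⟩ hxy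
  · refine ⟨fun g => ?_, fun x y hx hy hxy => ?_⟩
    · obtain ⟨g', rfl⟩ := D.fac₂ _ g hr
      obtain ⟨x, hx, rfl⟩ := (G₂ Ω t ht).1 g'
      exact ⟨x, hx.1, hΦ₂ _ x ht hx.1 hx.2⟩
    · rw [hΦ₂ _ x ht hx hr, hΦ₂ _ y ht hy hr, cancel_mono] at hxy
      exact (G₂ Ω t ht).2 x y ⟨hx, hr⟩ ⟨hy, hr⟩ hxy

end glue

section main

variable {F : Problem.{v} S} {P : ObjectProperty (Over S)} {V W : S.Opens} {M₁ M₂ M : Over S}

/-- **Gluing of coarse moduli spaces** over an open cover of the base by two opens. -/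
theorem exists_glued (hF : PreLaws F P) (hP : ∀ {T T' : Over S} (j : T' ⟶ T), IsOpenImmersion j.left → P T → P T')
    (hVW : V ⊔ W = ⊤) {Φ₁ : (onV F V).Hom P M₁} {Φ₂ : (onV F W).Hom P M₂} (L₁ : LB Φ₁) (L₂ : LB Φ₂)
    (G₁ : GeomBij (onV F V) M₁ Φ₁) (G₂ : GeomBij (onV F W) M₂ Φ₂)
    (h₁ : Set.range M₁.hom ⊆ (V : Set S)) (h₂ : Set.range M₂.hom ⊆ (W : Set S)) :
    ∃ (M : Over S) (Φ : F.Hom P M), LB Φ ∧ GeomBij F M Φ := by
  obtain ⟨M, i₁, i₂, D⟩ := exists_glueData L₁ L₂ h₁ h₂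
  refine ⟨M, glued hF hP hVW D, ?_, ?_⟩
  · exact lb_of_pieces hF hP hVW D (fun T x hT hx h => glued_app₁ hF hP hVW D x hT hx h)
      (fun T x hT hx h => glued_app₂ hF hP hVW D x hT hx h) L₁ L₂ h₂
  · exact geomBij_of_pieces hVW D (fun T x hT hx h => glued_app₁ hF hP hVW D x hT hx h)
      (fun T x hT hx h => glued_app₂ hF hP hVW D x hT hx h) G₁ G₂

/-- Restriction of a classifying map to the families over an open. -/
def resHom (Φ : F.Hom P M) (V : S.Opens) : (onV F V).Hom P M where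
  app T x hT hx := Φ.app T x hT hx.1
  natural g x hT hT' hx hx' := Φ.natural g x hT hT' hx.1 hx'.1
  resp x y hT hx hy h := Φ.resp x y hT hx.1 hy.1 h

theorem lb_resHom {Φ : F.Hom P M} (L : LB Φ) (hV : V = ⊤) : LB (resHom Φ V) := by
  subst hV
  intro O j hj N ψ
  let ψ' : Sys Φ j N :=
    { app := fun T x hT hx f hf => ψ.app T x hT ⟨hx, fun _ _ => trivial⟩ f hf
      natural := fun g x hT hT' hx hx' f hf hf' => ψ.natural g x hT hT' ⟨hx, fun _ _ => trivial⟩ ⟨hx', fun _ _ => trivial⟩ f hf hf'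
      resp := fun x y hT hx hy f hf hf' h => ψ.resp x y hT ⟨hx, fun _ _ => trivial⟩ ⟨hy, fun _ _ => trivial⟩ f hf hf' h }
  obtain ⟨g, hg, ug⟩ := L O j hj N ψ'
  exact ⟨g, fun T x hT hx f hf => hg T x hT hx.1 f hf, fun g' hg' => ug g' fun T x hT hx f hf => hg' T x hT ⟨hx, fun _ _ => trivial⟩ f hf⟩

/-- **Comparison** of a local best approximation with one over an open of the base. -/
theorem exists_iso {Φ : F.Hom P M} (L : LB Φ) {M' : Over S} {Φ' : (onV F V).Hom P M'} (L' : LB Φ')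
    (h' : Set.range M'.hom ⊆ (V : Set S)) :
    ∃ e : resO M V ≅ M', ∀ (T : Over S) (x : F.Fam T) (hT : P T) (hx : (onV F V).ok T x) (f : T ⟶ resO M V),
      f ≫ resi M V = Φ.app T x hT hx.1 → Φ'.app T x hT hx = f ≫ e.hom := by
  obtain ⟨e, he⟩ := exists_overlap (lb_resHom L (V := ⊤) rfl) L' (fun _ _ => trivial) h'
  have : IsIso (resi M' (⊤ : S.Opens)) := by
    have h2 : IsIso (resi M' (⊤ : S.Opens)).left := inferInstanceAs (IsIso M'.left.topIso.hom)
    have h3 : IsIso ((Over.forget S).map (resi M' (⊤ : S.Opens))) := h2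
    exact isIso_of_reflects_iso (resi M' (⊤ : S.Opens)) (Over.forget S)
  refine ⟨e ≪≫ asIso (resi M' (⊤ : S.Opens)), fun T x hT hx f hf => ?_⟩
  exact he T x hT ⟨hx.1, fun _ _ => trivial⟩ hx f hf

end main

end K691.CoarseGlue
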