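import Groth.Agent.AgPol.K691.GPres

/-!
# Coarse moduli spaces from fine ones with level structure

* `Act F P G`: a group acting on the families of a moduli problem `F`;
* `exists_action`: it acts on a fine moduli scheme;
* `Red A F₁`: forgetting the level structure, a map of moduli problems `F → F₁` which is a torsor under `G`;
* `Red.gpres`: the fine moduli scheme of `F` presents `F₁`.
-/

set_option autoImplicit false

universe w v u

open CategoryTheory Limits AlgebraicGeometry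

namespace K691.LevelRed

open ModFun K691.CoarseQ K691.GPres

variable {S : Scheme.{u}}

/-- An open subscheme of the base. -/
abbrev resU (T : Over S) (U : T.left.Opens) : Over S := Over.mk (U.ι ≫ T.hom)

/-- Its inclusion. -/
abbrev resiU (T : Over S) (U : T.left.Opens) : resU T U ⟶ T := Over.homMk U.ι rfl

/-- A group acting on the families of a moduli problem. -/
structure Act (F : Problem.{v} S) (P : ObjectProperty (Over S)) (G : Type w) [Group G] where
  /-- the action -/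
  a : G → ∀ T : Over S, F.Fam T → F.Fam T
  ok : ∀ (g : G) (T : Over S) (x : F.Fam T), P T → F.ok T x → F.ok T (a g T x)
  r : ∀ (g : G) (T : Over S) (x y : F.Fam T), P T → F.ok T x → F.ok T y → F.r T x y → F.r T (a g T x) (a g T y)
  pull : ∀ (g : G) {T T' : Over S} (k : T' ⟶ T) (x : F.Fam T), P T → P T' → F.ok T x →
    F.r T' (F.pull k (a g T x)) (a g T' (F.pull k x))
  one : ∀ (T : Over S) (x : F.Fam T), P T → F.ok T x → F.r T (a 1 T x) x
  mul : ∀ (g h : G) (T : Over S) (x : F.Fam T), P T → F.ok T x → F.r T (a (g * h) T x) (a h T (a g T x))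

variable {F : Problem.{v} S} {P : ObjectProperty (Over S)} {G : Type w} [Group G] (A : Act F P G)

section action

variable {M : Over S} {ξ : F.Fam M} (hF : PreLaws F P) (hU : IsUnivFamily P F M ξ) (hM : P M)

/-- The classifying map of the family `a g ξ`. -/
noncomputable def fm (g : G) : M ⟶ M := (hU.2 M (A.a g M ξ) hM (A.ok g M ξ hM hU.1)).choose

theorem fm_spec (g : G) : F.r M (F.pull (fm A hU hM g) ξ) (A.a g M ξ) :=
  (hU.2 M (A.a g M ξ) hM (A.ok g M ξ hM hU.1)).choose_spec.1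

theorem fm_unique (g : G) (f : M ⟶ M) (h : F.r M (F.pull f ξ) (A.a g M ξ)) : f = fm A hU hM g :=
  (hU.2 M (A.a g M ξ) hM (A.ok g M ξ hM hU.1)).choose_spec.2 f h

include hF in
/-- The family classified by `b ≫ fm g`. -/
theorem pull_fm {T : Over S} (b : T ⟶ M) (hT : P T) (g : G) :
    F.r T (F.pull (b ≫ fm A hU hM g) ξ) (A.a g T (F.pull b ξ)) := by
  have ok0 := hU.1
  have okb := hF.pull_ok b ξ hM hT ok0
  have okg := A.ok g M ξ hM ok0
  have okf := hF.pull_ok (fm A hU hM g) ξ hM hM ok0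
  refine hF.trans T _ (F.pull b (F.pull (fm A hU hM g) ξ)) _ hT (hF.pull_ok _ _ hM hT ok0) (hF.pull_ok b _ hM hT okf)
    (A.ok g T _ hT okb) (hF.pull_comp _ _ ξ hM hM hT ok0) ?_
  refine hF.trans T _ (F.pull b (A.a g M ξ)) _ hT (hF.pull_ok b _ hM hT okf) (hF.pull_ok b _ hM hT okg)
    (A.ok g T _ hT okb) (hF.pull_r b _ _ hM hT okf okg (fm_spec A hU hM g)) ?_
  exact A.pull g b ξ hM hT ok0

include hF in
theorem fm_comp (g h : G) : fm A hU hM h ≫ fm A hU hM g = fm A hU hM (h * g) := by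
  apply fm_unique
  have ok0 := hU.1
  have okf := hF.pull_ok (fm A hU hM h) ξ hM hM ok0
  have okh := A.ok h M ξ hM ok0
  have okhg := A.ok (h * g) M ξ hM ok0
  refine hF.trans M _ (A.a g M (F.pull (fm A hU hM h) ξ)) _ hM (hF.pull_ok _ _ hM hM ok0) (A.ok g M _ hM okf) okhg
    (pull_fm A hF hU hM _ hM g) ?_
  refine hF.trans M _ (A.a g M (A.a h M ξ)) _ hM (A.ok g M _ hM okf) (A.ok g M _ hM okh) okhg
    (A.r g M _ _ hM okf okh (fm_spec A hU hM h)) ?_
  exact hF.symm M _ _ hM okhg (A.ok g M _ hM okh) (A.mul h g M ξ hM ok0)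

include hF in
theorem fm_one : fm A hU hM 1 = 𝟙 M := by
  symm
  apply fm_unique
  have ok0 := hU.1
  have ok1 := A.ok 1 M ξ hM ok0
  exact hF.trans M _ ξ _ hM (hF.pull_ok _ _ hM hM ok0) ok0 ok1 (hF.pull_id M ξ hM ok0)
    (hF.symm M _ _ hM ok1 ok0 (A.one M ξ hM ok0))

/-- The action on the fine moduli scheme. -/
noncomputable def actM : G →* Aut M.left where
  toFun g := ⟨(fm A hU hM g⁻¹).left, (fm A hU hM g).left, by
    rw [← Over.comp_left, fm_comp A hF, inv_mul_cancel, fm_one A hF]; rfl, by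
    rw [← Over.comp_left, fm_comp A hF, mul_inv_cancel, fm_one A hF]; rfl⟩
  map_one' := by
    ext1
    change (fm A hU hM 1⁻¹).left = _
    rw [inv_one, fm_one A hF]
    rfl
  map_mul' g h := by
    ext1
    change (fm A hU hM (g * h)⁻¹).left = (fm A hU hM h⁻¹).left ≫ (fm A hU hM g⁻¹).left
    rw [← Over.comp_left, fm_comp A hF, mul_inv_rev]

theorem actM_hom (g : G) : (actM A hF hU hM g).hom = (fm A hU hM g⁻¹).left := rfl

theorem actM_w (g : G) : (actM A hF hU hM g).hom ≫ M.hom = M.hom := Over.w (fm A hU hM g⁻¹)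

theorem actM_homMk (g : G) : Over.homMk (actM A hF hU hM g).hom (actM_w A hF hU hM g) = fm A hU hM g⁻¹ := by
  ext1
  rfl

end action

/-- Forgetting level structure. -/
structure Red (F₁ : Problem.{v} S) where
  /-- the reduction map -/
  red : ∀ T : Over S, F.Fam T → F₁.Fam T
  ok : ∀ (T : Over S) (x : F.Fam T), P T → F.ok T x → F₁.ok T (red T x)
  r : ∀ (T : Over S) (x y : F.Fam T), P T → F.ok T x → F.ok T y → F.r T x y → F₁.r T (red T x) (red T y)
  pull : ∀ {T T' : Over S} (k : T' ⟶ T) (x : F.Fam T), P T → P T' → F.ok T x →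
    F₁.r T' (F₁.pull k (red T x)) (red T' (F.pull k x))
  inv : ∀ (g : G) (T : Over S) (x : F.Fam T), P T → F.ok T x → F₁.r T (red T (A.a g T x)) (red T x)
  cover : ∀ (T : Over S) (x : F₁.Fam T), P T → F₁.ok T x →
    ∃ (W : Over S) (p : W ⟶ T) (y : F.Fam W), IsCov P p ∧ LocallyOfFiniteType p.left ∧ F.ok W y ∧
      F₁.r W (red W y) (F₁.pull p x)
  torsor : ∀ (T : Over S) (y y' : F.Fam T), P T → F.ok T y → F.ok T y' → F₁.r T (red T y) (red T y') →
    ∀ t : T.left, ∃ (U : T.left.Opens) (g : G), t ∈ U ∧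
      F.r (resU T U) (F.pull (resiU T U) y') (A.a g (resU T U) (F.pull (resiU T U) y))

end K691.LevelRed

namespace K691.LevelRed

open ModFun K691.CoarseQ K691.GPres

variable {S : Scheme.{u}} {F F₁ : Problem.{v} S} {P : ObjectProperty (Over S)} {G : Type u} [Group G] [Finite G]
  {A : Act F P G} {M : Over S} {ξ : F.Fam M}

/-- The fine moduli scheme of the problem with level structure presents the problem without. -/
theorem Red.gpres (R : Red A F₁) (hF : PreLaws F P) (hF₁ : PreLaws F₁ P)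
    (hP : ∀ {T T' : Over S} (j : T' ⟶ T), IsOpenImmersion j.left → P T → P T')
    (hU : IsUnivFamily P F M ξ) (hM : P M) {M₁ : Over S} (π : M ⟶ M₁)
    (hq : SGA1.IsQuot (actM A hF hU hM) π.left) (hft : LocallyOfFiniteType π.left) :
    GPres F₁ P M M₁ (R.red M ξ) π (actM A hF hU hM) := by
  have ok0 := hU.1
  have okr := R.ok M ξ hM ok0
  -- `red (pull b ξ) ~ pull b (red ξ)`
  have comp : ∀ {T : Over S} (b : T ⟶ M), P T → F₁.r T (F₁.pull b (R.red M ξ)) (R.red T (F.pull b ξ)) :=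
    fun b hT => R.pull b ξ hM hT ok0
  refine ⟨hM, okr, actM_w A hF hU hM, hq, hft, fun g => ?_, fun T x hT hx => ?_, fun T b b' hT h t => ?_⟩
  · rw [actM_homMk]
    have okf := hF.pull_ok (fm A hU hM g⁻¹) ξ hM hM ok0
    have okg := A.ok g⁻¹ M ξ hM ok0
    refine hF₁.trans M _ (R.red M (F.pull (fm A hU hM g⁻¹) ξ)) _ hM (hF₁.pull_ok _ _ hM hM okr) (R.ok M _ hM okf) okr
      (comp _ hM) ?_
    exact hF₁.trans M _ (R.red M (A.a g⁻¹ M ξ)) _ hM (R.ok M _ hM okf) (R.ok M _ hM okg) okr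
      (R.r M _ _ hM okf okg (fm_spec A hU hM g⁻¹)) (R.inv g⁻¹ M ξ hM ok0)
  · obtain ⟨W, p, y, hp, hpf, hy, hyx⟩ := R.cover T x hT hx
    obtain ⟨b, hb, -⟩ := hU.2 W y hp.dom hy
    refine ⟨W, p, b, hp, hpf, ?_⟩
    have okb := hF.pull_ok b ξ hM hp.dom ok0
    refine hF₁.trans W _ (R.red W (F.pull b ξ)) _ hp.dom (hF₁.pull_ok _ _ hM hp.dom okr) (R.ok W _ hp.dom okb)
      (hF₁.pull_ok _ _ hT hp.dom hx) (comp b hp.dom) ?_
    exact hF₁.trans W _ (R.red W y) _ hp.dom (R.ok W _ hp.dom okb) (R.ok W _ hp.dom hy) (hF₁.pull_ok _ _ hT hp.dom hx)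
      (R.r W _ _ hp.dom okb hy hb) hyx
  · have okb := hF.pull_ok b ξ hM hT ok0
    have okb' := hF.pull_ok b' ξ hM hT ok0
    have h1 : F₁.r T (R.red T (F.pull b ξ)) (R.red T (F.pull b' ξ)) := by
      refine hF₁.trans T _ (F₁.pull b (R.red M ξ)) _ hT (R.ok T _ hT okb) (hF₁.pull_ok _ _ hM hT okr)
        (R.ok T _ hT okb') (hF₁.symm T _ _ hT (hF₁.pull_ok _ _ hM hT okr) (R.ok T _ hT okb) (comp b hT)) ?_
      exact hF₁.trans T _ (F₁.pull b' (R.red M ξ)) _ hT (hF₁.pull_ok _ _ hM hT okr) (hF₁.pull_ok _ _ hM hT okr)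
        (R.ok T _ hT okb') h (comp b' hT)
    obtain ⟨U, g, htU, hg⟩ := R.torsor T _ _ hT okb okb' h1 t
    have hU' : P (resU T U) := hP (resiU T U) (inferInstanceAs (IsOpenImmersion U.ι)) hT
    refine ⟨U, g⁻¹, htU, ?_⟩
    have okib := hF.pull_ok (resiU T U ≫ b) ξ hM hU' ok0
    have okib' := hF.pull_ok (resiU T U ≫ b') ξ hM hU' ok0
    have oki := hF.pull_ok (resiU T U) _ hT hU' okb
    have oki' := hF.pull_ok (resiU T U) _ hT hU' okb'
    -- both maps classify the family `a g (pull (i ≫ b) ξ)`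
    obtain ⟨f, -, hf⟩ := hU.2 (resU T U) (A.a g (resU T U) (F.pull (resiU T U ≫ b) ξ)) hU' (A.ok g _ _ hU' okib)
    have e1 : resiU T U ≫ b' = f := by
      apply hf
      refine hF.trans _ _ (F.pull (resiU T U) (F.pull b' ξ)) _ hU' okib' oki' (A.ok g _ _ hU' okib)
        (hF.pull_comp b' (resiU T U) ξ hM hT hU' ok0) ?_
      refine hF.trans _ _ (A.a g _ (F.pull (resiU T U) (F.pull b ξ))) _ hU' oki' (A.ok g _ _ hU' oki)
        (A.ok g _ _ hU' okib) hg ?_
      exact A.r g _ _ _ hU' oki okib (hF.symm _ _ _ hU' okib oki (hF.pull_comp b (resiU T U) ξ hM hT hU' ok0))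
    have e2 : (resiU T U ≫ b) ≫ fm A hU hM g = f := by
      apply hf
      exact pull_fm A hF hU hM (resiU T U ≫ b) hU' g
    have e3 := congrArg (fun z => z.left) (e1.trans e2.symm)
    rw [actM_hom, inv_inv]
    exact e3.trans (Category.assoc _ _ _)

end K691.LevelRed
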