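import Groth.Agent.AgPol.K691.LevSec
import Groth.Agent.AgPol.K691.LevelRed
import Groth.Agent.AgPol.K691.CoarseGlue

/-!
# Core families with level `n q` structure as a torsor over core families with level `n` structure

* `setσ x τ`: the core family `x` with sections `τ`;
* `lact`: the group of automorphisms of `(ℤ/nq)^(2g)` trivial modulo `n` acts on families of level `n q`;
* `lred`: the `q`-th power of the level structure, as a map to families of level `n` (over an open `V` of the base over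
  which `q` is invertible).
-/

set_option autoImplicit false

universe u

open CategoryTheory Limits MonoidalCategory CartesianMonoidalCategory AlgebraicGeometry
open scoped MonObj

namespace K691.LevCore

open Groth.Agent.Grpsch.PicGrp K117.Ag K691.LevGp K691.LevSec K691.LevelRed K691.CoarseQ K691.CoarseGlue

noncomputable section

variable {S : Scheme.{u}} {g d n q : ℕ}

/-! ### Laws which need no admissibility -/

theorem r_refl {T : Over S} (x : Core T g) : Core.r T x x :=
  ⟨Iso.refl _, inferInstanceAs (IsMonHom (𝟙 x.X)), by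
    change Groth.Agent.Grpsch.PicGrp.pull (𝟙 x.X.left) x.c = x.c
    exact pull_id x.c, fun i => Category.comp_id _⟩

theorem r_symm {T : Over S} {x y : Core T g} (h : Core.r T x y) : Core.r T y x := by
  obtain ⟨e, he, hc, hσ⟩ := h
  refine ⟨e.symm, inferInstanceAs (IsMonHom e.inv), ?_, fun i => ?_⟩
  · rw [← hc, ← pull_comp]
    have : e.symm.hom.left ≫ e.hom.left = 𝟙 _ := by
      rw [← Over.comp_left]
      change (e.inv ≫ e.hom).left = _
      rw [e.inv_hom_id]
      rfl
    rw [this, pull_id]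
  · rw [← hσ i]
    change (x.σ i ≫ e.hom) ≫ e.inv = _
    rw [Category.assoc, e.hom_inv_id, Category.comp_id]

theorem r_trans {T : Over S} {x y z : Core T g} (h : Core.r T x y) (h' : Core.r T y z) : Core.r T x z := by
  obtain ⟨e, he, hc, hσ⟩ := h
  obtain ⟨e', he', hc', hσ'⟩ := h'
  refine ⟨e ≪≫ e', inferInstanceAs (IsMonHom (e.hom ≫ e'.hom)), ?_, fun i => ?_⟩
  · change Groth.Agent.Grpsch.PicGrp.pull (e.hom ≫ e'.hom).left z.c = x.c
    rw [Over.comp_left, pull_comp, hc', hc]
  · change x.σ i ≫ e.hom ≫ e'.hom = z.σ i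
    rw [← Category.assoc, hσ, hσ']

/-- The core family `x` with other sections. -/
def setσ {T : Over S} (x : Core T g) (τ : Fin (2 * g) → (𝟙_ (Over T.left) ⟶ x.X)) : Core T g := ⟨x.X, x.grp, x.c, τ⟩

theorem ok_setσ {T : Over S} {x : Core T g} {m : ℕ} (h : Core.ok g d n T x) {τ : Fin (2 * g) → (𝟙_ (Over T.left) ⟶ x.X)}
    (hτ : AgPol.IsLevelStr x.X g m τ) : Core.ok g d m T (setσ x τ) :=
  ⟨h.ab, h.comm, h.rig, h.pol, hτ⟩

theorem r_setσ {T : Over S} (x : Core T g) {τ τ' : Fin (2 * g) → (𝟙_ (Over T.left) ⟶ x.X)} (h : ∀ i, τ i = τ' i) :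
    Core.r T (setσ x τ) (setσ x τ') := by
  rw [funext h]
  exact r_refl _

theorem r_setσ_self {T : Over S} (x : Core T g) {τ : Fin (2 * g) → (𝟙_ (Over T.left) ⟶ x.X)} (h : ∀ i, τ i = x.σ i) :
    Core.r T (setσ x τ) x := r_setσ x h

/-- Pull-back of a family with other sections. -/
theorem pull_setσ {T T' : Over S} (k : T' ⟶ T) (x : Core T g) (τ : Fin (2 * g) → (𝟙_ (Over T.left) ⟶ x.X)) :
    (setσ x τ).pull k = setσ (x.pull k) (fun i => psHom k.left x.X (τ i)) := rfl

theorem pull_σ {T T' : Over S} (k : T' ⟶ T) (x : Core T g) (i : Fin (2 * g)) :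
    (x.pull k).σ i = psHom k.left x.X (x.σ i) := rfl

/-! ### The two operations -/

/-- Powers of the level structure. -/
def pw (q : ℕ) {T : Over S} (x : Core T g) : Core T g := setσ x (fun i => x.σ i ^ q)

/-- Twists of the level structure. -/
def tws {N : ℕ} (γ : GLZ (2 * g) N) {T : Over S} (x : Core T g) : Core T g := setσ x (tw γ x.σ)

theorem pull_pw (q : ℕ) {T T' : Over S} (k : T' ⟶ T) (x : Core T g) : Core.r T' ((pw q x).pull k) (pw q (x.pull k)) := by
  unfold pw
  rw [pull_setσ]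
  exact r_setσ _ fun i => map_pow (psHom k.left x.X) (x.σ i) q

theorem pull_tws {N : ℕ} (γ : GLZ (2 * g) N) {T T' : Over S} (k : T' ⟶ T) (x : Core T g) :
    Core.r T' ((tws γ x).pull k) (tws γ (x.pull k)) := by
  unfold tws
  rw [pull_setσ]
  exact r_setσ _ fun i => map_tw (psHom k.left x.X) γ x.σ i

theorem r_pw (q : ℕ) {T : Over S} {x y : Core T g} (h : Core.r T x y) : Core.r T (pw q x) (pw q y) := by
  obtain ⟨e, he, hc, hσ⟩ := h
  refine ⟨e, he, hc, fun i => ?_⟩
  change (x.σ i ^ q) ≫ e.hom = y.σ i ^ q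
  rw [MonObj.pow_comp, hσ]

theorem r_tws {N : ℕ} (γ : GLZ (2 * g) N) {T : Over S} {x y : Core T g} (h : Core.r T x y) :
    Core.r T (tws γ x) (tws γ y) := by
  obtain ⟨e, he, hc, hσ⟩ := h
  refine ⟨e, he, hc, fun i => ?_⟩
  change tw γ x.σ i ≫ e.hom = tw γ y.σ i
  refine (map_tw (IsMonHom.monoidHom e.hom (𝟙_ (Over T.left))) γ x.σ i).trans ?_
  congr 1
  funext j
  exact hσ j

theorem ok_pw {T : Over S} {x : Core T g} (hn : 1 ≤ n) (hq : 1 ≤ q) (h : Core.ok g d (n * q) T x) :
    Core.ok g d n T (pw q x) := by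
  have := h.comm
  exact ok_setσ h (isLevelStr_pow hn hq x.σ h.level)

theorem ok_tws [NeZero n] {T : Over S} {x : Core T g} (γ : GLZ (2 * g) n) (h : Core.ok g d n T x) :
    Core.ok g d n T (tws γ x) := by
  have := h.comm
  exact ok_setσ h (isLevelStr_tw γ x.σ h.level)

theorem tws_one [NeZero n] {T : Over S} {x : Core T g} (h : Core.ok g d n T x) :
    Core.r T (tws (1 : GLZ (2 * g) n) x) x := by
  have := h.comm
  exact r_setσ_self x fun i => congrFun (tw_one x.σ h.level.1) i

theorem tws_mul [NeZero n] {T : Over S} {x : Core T g} (γ δ : GLZ (2 * g) n) (h : Core.ok g d n T x) :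
    Core.r T (tws (γ * δ) x) (tws δ (tws γ x)) := by
  have := h.comm
  exact r_setσ x fun i => (congrFun (tw_tw γ δ x.σ h.level.1) i).symm

/-! ### The group -/

/-- The automorphisms of `(ℤ/N)^r` which are the identity modulo `N/q`. -/
def kerG (r N q : ℕ) : Subgroup (GLZ r N) where
  carrier := {γ | ∀ v, q • γ v = q • v}
  one_mem' _ := rfl
  mul_mem' {a b} ha hb v := by
    change q • a (b v) = q • v
    rw [ha, hb]
  inv_mem' {a} ha v := by
    have h1 := ha (a⁻¹ v)
    have h2 : a (a⁻¹ v) = v := a.apply_symm_apply v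
    rw [h2] at h1
    exact h1.symm

/-- The group acting on level structures. -/
abbrev LG (g n q : ℕ) : Type u := ULift.{u} (kerG (2 * g) (n * q) q)

instance finite_GLZ {r N : ℕ} [NeZero N] : Finite (GLZ r N) :=
  Finite.of_injective (fun γ : GLZ r N => (γ : (Fin r → ZMod N) → (Fin r → ZMod N))) DFunLike.coe_injective

instance finite_LG {g n q : ℕ} [NeZero (n * q)] : Finite (LG.{u} g n q) := inferInstance

theorem nz (hn : 1 ≤ n) (hq : 1 ≤ q) : NeZero (n * q) := ⟨Nat.mul_ne_zero (by omega) (by omega)⟩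

/-- The action of the automorphisms trivial modulo `n` on families of level `n q`. -/
def lact (S : Scheme.{u}) (g d n q : ℕ) (hn : 1 ≤ n) (hq : 1 ≤ q) :
    Act (CoreP S g d (n * q)) (LN S) (LG.{u} g n q) :=
  have := nz hn hq
  { a := fun γ _ x => tws γ.down.1 x
    ok := fun γ _ _ _ hx => ok_tws γ.down.1 hx
    r := fun γ _ _ _ _ _ _ h => r_tws γ.down.1 h
    pull := fun γ _ _ k x _ _ _ => pull_tws γ.down.1 k x
    one := fun _ _ _ hx => tws_one hx
    mul := fun γ δ _ _ _ hx => tws_mul γ.down.1 δ.down.1 hx }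

/-! ### The torsor property -/

theorem range_eq_singleton {T : Scheme.{u}} {Ω : Type u} [Field Ω] (t : Spec (CommRingCat.of Ω) ⟶ T) (x : T)
    (h : Set.range t = {x}) (U : T.Opens) (hU : Set.range t ⊆ U) : x ∈ U :=
  hU (h ▸ Set.mem_singleton _)

theorem exists_geom (X : Scheme.{u}) (x : X) : ∃ (Ω : Type u) (_ : Field Ω) (_ : IsAlgClosed Ω)
    (t : Spec (CommRingCat.of Ω) ⟶ X), Set.range t = {x} := by
  refine ⟨AlgebraicClosure (X.residueField x), inferInstance, inferInstance,
    Spec.map (CommRingCat.ofHom (algebraMap (X.residueField x) (AlgebraicClosure (X.residueField x)))) ≫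
      X.fromSpecResidueField x, ?_⟩
  have : Nonempty (Spec (CommRingCat.of (AlgebraicClosure (X.residueField x)))) := inferInstance
  refine Set.eq_singleton_iff_nonempty_unique_mem.2 ⟨Set.range_nonempty _, ?_⟩
  rintro _ ⟨z, rfl⟩
  have h : X.fromSpecResidueField x
      ((Spec.map (CommRingCat.ofHom (algebraMap (X.residueField x) (AlgebraicClosure (X.residueField x))))) z) ∈
      Set.range (X.fromSpecResidueField x) := ⟨_, rfl⟩
  rw [Scheme.range_fromSpecResidueField] at h
  exact h

/-- Two level structures on one abelian scheme with the same `q`-th powers differ locally by an automorphism. -/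
theorem exists_tw_near {T : Scheme.{u}} {X : Over T} [GrpObj X] [IsCommMonObj X] (hX : AgPol.IsAbSch X g) {N : ℕ}
    (hN : 1 ≤ N) (hNu : IsUnit (N : Γ(T, ⊤))) (σ τ : Fin (2 * g) → (𝟙_ (Over T) ⟶ X))
    (hσ : AgPol.IsLevelStr X g N σ) (hτ : AgPol.IsLevelStr X g N τ) (hq : ∀ i, σ i ^ q = τ i ^ q) (x : T) :
    ∃ (U : T.Opens) (γ : kerG (2 * g) N q), x ∈ U ∧ ∀ i, psHom U.ι X (τ i) = psHom U.ι X (tw γ.1 σ i) := by
  have : NeZero N := ⟨by omega⟩
  have := hX.smooth
  have := hX.proper
  have := hX.geomConnected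
  obtain ⟨Ω, _, _, t, ht⟩ := exists_geom T x
  have hσ' := isLevelStr_iff σ |>.1 hσ
  have hτ' := isLevelStr_iff τ |>.1 hτ
  obtain ⟨γ, hγ, hγq⟩ := exists_tw (hσ'.2 Ω t) (hτ'.2 Ω t)
  have hγ' : ∀ v, q • γ v = q • v := hγq q fun i => by
    rw [← MonObj.comp_pow, ← MonObj.comp_pow, hq]
  have key : ∀ i, ∃ U : T.Opens, Set.range t ⊆ U ∧ ∀ (R : Over T), Set.range R.hom ⊆ U →
      toUnit R ≫ (τ i * (tw γ σ i)⁻¹) = 1 := by
    intro i
    refine exists_one_near X hNu (τ i * (tw γ σ i)⁻¹) ?_ t ?_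
    · rw [mul_pow, inv_pow, hτ'.1 i, tw_pow γ σ hσ'.1 i, inv_one, mul_one]
    · have h1 : preHom X (toUnit (Over.mk t)) (τ i * (tw γ σ i)⁻¹) = 1 := by
        rw [map_mul, map_inv, mul_inv_eq_one, map_tw]
        exact congrFun hγ i
      exact h1
  choose U hU hU' using key
  let V : T.Opens := ⟨⋂ i, (U i : Set T), isOpen_iInter_of_finite fun i => (U i).2⟩
  refine ⟨V, ⟨γ, hγ'⟩, Set.mem_iInter.2 fun i => range_eq_singleton t x ht (U i) (hU i), fun i => ?_⟩
  · have h1 : psHom V.ι X (τ i * (tw γ σ i)⁻¹) = 1 := by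
      apply psHom_eq_one
      apply hU' i
      change Set.range V.ι ⊆ _
      rw [Scheme.Opens.range_ι]
      exact Set.iInter_subset _ i
    rw [map_mul, map_inv, mul_inv_eq_one] at h1
    exact h1

/-! ### The reduction map -/

/-- Finite étale surjective maps are coverings of locally Noetherian test schemes. -/
theorem isCov_of_finite {W T : Over S} (p : W ⟶ T) (hT : LN S T) (hf : IsFinite p.left) (he : Etale p.left)
    (hs : Surjective p.left) : IsCov (LN S) p where
  flat := inferInstance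
  surj := hs
  qc := inferInstance
  dom := by
    have : IsLocallyNoetherian T.left := hT
    exact LocallyOfFiniteType.isLocallyNoetherian p.left
  bc T' a hT' := by
    have h2 : IsPullback (pullback.fst a p).left (pullback.snd a p).left a.left p.left :=
      (IsPullback.of_hasPullback a p).map (Over.forget S)
    have hl : LocallyOfFiniteType (pullback.fst a p).left :=
      MorphismProperty.of_isPullback (P := @LocallyOfFiniteType) h2.flip inferInstance
    have : IsLocallyNoetherian T'.left := hT'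
    exact LocallyOfFiniteType.isLocallyNoetherian (pullback.fst a p).left

variable (hg : 1 ≤ g) (hn : 1 ≤ n) (hq : 1 ≤ q) (hF : PreLaws (CoreP S g d n) (LN S))
  (hFN : PreLaws (CoreP S g d (n * q)) (LN S)) (hcov : K117.Ag.Node.LevelCover.{u}) (V : S.Opens)
  (hV1 : ∀ T : Over S, LN S T → Set.range T.hom ⊆ (V : Set S) → IsUnit ((q : ℕ) : Γ(T.left, ⊤)))
  (hV2 : ∀ T : Over S, LN S T → IsUnit ((n * q : ℕ) : Γ(T.left, ⊤)) → Set.range T.hom ⊆ (V : Set S))

include hg hn hV1 in
theorem isUnit_mul {T : Over S} (hT : LN S T) {x : Core T g} (hx : Core.ok g d n T x)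
    (hr : Set.range T.hom ⊆ (V : Set S)) : IsUnit ((n * q : ℕ) : Γ(T.left, ⊤)) := by
  have := hx.comm
  rw [Nat.cast_mul]
  exact (isUnit_of_level hg hn hx.ab x.σ hx.level).mul (hV1 T hT hr)

/-- Families of level `n q` are a torsor over families of level `n`. -/
def lred : Red (lact S g d n q hn hq) (onV (CoreP S g d n) V) where
  red T x := pw q x
  ok T x hT hx := ⟨ok_pw hn hq hx, hV2 T hT (by
    have := hx.comm
    exact isUnit_of_level hg (Nat.mul_pos hn hq) hx.ab x.σ hx.level)⟩
  r T x y _ _ _ h := r_pw q h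
  pull k x _ _ _ := pull_pw q k x
  inv γ T x _ hx := by
    have := nz hn hq
    have := hx.comm
    exact r_setσ x fun i => tw_pow_eq γ.down.1 γ.down.2 x.σ hx.level.1 i
  cover T x hT hx := by
    have hT' : IsLocallyNoetherian T.left := hT
    obtain ⟨W, p, G, _, _, ρ, hf, he, hs, -, τ, hτ, hτq⟩ := hcov T g d n q hg hn hq x hx.1
      (isUnit_mul hg hn V hV1 hT hx.1 hx.2)
    have hp := isCov_of_finite p hT hf he hs
    exact ⟨W, p, setσ (x.pull p) τ, hp, inferInstance, ok_setσ (hF.pull_ok p x hT hp.dom hx.1) hτ,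
      r_setσ_self (x.pull p) hτq⟩
  torsor T y y' hT hy hy' h t := by
    have cy := hy.comm
    have cy' := hy'.comm
    obtain ⟨e, he, hc, hσ⟩ : ∃ (e : y.X ≅ y'.X), IsMonHom e.hom ∧
      Groth.Agent.Grpsch.PicGrp.pull e.hom.left y'.c = y.c ∧ ∀ i, (y.σ i ^ q) ≫ e.hom = y'.σ i ^ q := h
    have he' : IsMonHom e.symm.hom := inferInstanceAs (IsMonHom e.inv)
    have hτ := isLevelStr_comp e.symm y'.σ hy'.level
    have hq' : ∀ i, y.σ i ^ q = (y'.σ i ≫ e.symm.hom) ^ q := fun i => by
      rw [← MonObj.pow_comp, ← hσ i, Category.assoc]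
      change _ = _ ≫ e.hom ≫ e.inv
      rw [e.hom_inv_id, Category.comp_id]
    obtain ⟨U, γ, htU, hγ⟩ := exists_tw_near hy.ab (Nat.mul_pos hn hq)
      (isUnit_of_level hg (Nat.mul_pos hn hq) hy.ab y.σ hy.level) y.σ _ hy.level hτ hq' t
    refine ⟨U, ⟨γ⟩, htU, ?_⟩
    have h1 : Core.r T y' (setσ y fun i => y'.σ i ≫ e.symm.hom) := by
      refine ⟨e.symm, he', ?_, fun i => rfl⟩
      change Groth.Agent.Grpsch.PicGrp.pull e.inv.left y.c = y'.c
      rw [← hc, ← pull_comp, ← Over.comp_left, e.inv_hom_id]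
      exact pull_id _
    have hU : LN S (resU T U) := by
      have : IsLocallyNoetherian T.left := hT
      exact (inferInstance : IsLocallyNoetherian U.toScheme)
    have h2 := hFN.pull_r (resiU T U) y' (setσ y fun i => y'.σ i ≫ e.symm.hom) hT hU hy' (ok_setσ hy hτ) h1
    refine r_trans h2 ?_
    change Core.r (resU T U) ((setσ y fun i => y'.σ i ≫ e.symm.hom).pull (resiU T U)) (tws γ.1 (y.pull (resiU T U)))
    rw [pull_setσ]
    exact r_setσ _ fun i => (hγ i).trans (map_tw (psHom U.ι y.X) γ.1 y.σ i)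

end

end K691.LevCore
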