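import Groth.Agent.AgPol.K691.ZFam
import Groth.Agent.AgPol.K691.LevCore
import Groth.Agent.AgPol.K817.Closed
import Groth.Agent.AgPol.K540.CM

/-!
# Core families with a polarisation which is fppf-locally attached to a module

* `IsPolQ A d c`, `QC g d T z`, `CQ S g d n`: the moduli problem of core families with the condition of the frozen
  statements S14321, S14324;
* `preLaws`, `preLawsQ`: its laws, on all test schemes;
* `corrQ`: comparison with the frozen moduli problem.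
-/

set_option autoImplicit false
universe u

open CategoryTheory Limits MonoidalCategory CartesianMonoidalCategory AlgebraicGeometry
open scoped MonObj

namespace K691.ZCorr

open Groth.Agent Groth.Agent.Grpsch.PicGrp Groth.Agent.Fga.RigGrp K732.PicZero K732.Prim K732.Dual K732.BC
open K117.Ag K691.ZFam K691.CoarseQ K691.CoarseCorr

noncomputable section

section pol

variable {S : Scheme.{u}}

/-- `c = (1, lam)^* P` for a polarisation `lam` of degree `d ^ 2` which is fppf-locally attached to a module. -/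
def IsPolQ (A : Over S) [GrpObj A] (d : ℕ) (c : Pic A.left) : Prop :=
  ∃ (At : Over S) (_ : GrpObj At) (_ : IsCommMonObj At) (φ : AgPol.DualMap A At)
    (ξ : Pic (PicF.XT A.hom At)) (lam : A ⟶ At),
    AbDual.IsDualAV Scheme.fppfPrecoverage A At φ ∧ ξ ∈ pz A.hom At ∧ ξ ∈ rg A At ∧ cm φ ξ = 𝟙 At ∧
      AgPol.IsPolarization A At φ lam ∧ AgPol.HasDegSq lam d ∧ QFc φ lam ∧ c = ev (𝟙 A) lam ξ

/-- Base change. -/
theorem isPolQ_bc {S' : Scheme.{u}} (k : S' ⟶ S) {A : Over S} [GrpObj A] {g : ℕ} (hA : AgPol.IsAbSch A g)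
    {d : ℕ} {c : Pic A.left} (h : IsPolQ A d c) :
    IsPolQ (Red.bc k A) d (pull (pullback.fst A.hom k) c) := by
  obtain ⟨At, _, _, φ, ξ, lam, hD, h1, h2, h3, hpol, hdeg, hQ, rfl⟩ := h
  have := hA.smooth
  have := hA.proper
  have := hA.geomConnected
  have : GeometricallyIntegral A.hom := K814.AbBasic.geometricallyIntegral A
  refine ⟨Red.bc k At, inferInstance, inferInstance, AgPol.bcDual k A At φ, bcXi k A At ξ, (Over.pullback k).map lam,
    isDualAV_bc hD, bcXi_mem_pz h1, bcXi_mem_rg h2, K533.PolBC.cm_bcXi_eq k hD h1 h3,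
    K533.PolBC.isPolarization_bc k hD h1 h2 h3 hpol, K533.PolBC.hasDegSq_bc k hdeg, qfc_bc hD h1 h2 h3 hQ k, ?_⟩
  have e1 := ev_bcXi (k := k) (prj k A) (prj k A ≫ lam) ξ
  rw [up_comp, up_prj, Category.id_comp] at e1
  rw [e1]
  exact K814.Graph.gr_point lam ξ (prj k A)

end pol

variable {S : Scheme.{u}} {g d n : ℕ}

/-- The condition on core families. -/
def QC (g d : ℕ) (T : Over S) (z : Core T g) : Prop := IsPolQ z.X d z.c

/-- The moduli problem of core families with a polarisation fppf-locally attached to a module. -/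
abbrev CQ (S : Scheme.{u}) (g d n : ℕ) : ModFun.Problem.{u + 1} S := (CoreP S g d n).restrict (QC g d)

theorem qc_pull {T T' : Over S} (k : T' ⟶ T) {z : Core T g} (hz : Core.ok g d n T z) (h : QC g d T z) :
    QC g d T' (z.pull k) := isPolQ_bc k.left hz.ab h

theorem qc_setσ {T : Over S} {z : Core T g} (τ : Fin (2 * g) → (𝟙_ (Over T.left) ⟶ z.X)) (h : QC g d T z) :
    QC g d T (K691.LevCore.setσ z τ) := h

/-- The laws of core families, on all classes of test schemes. -/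
theorem preLaws (S : Scheme.{u}) (g d n : ℕ) (P : ObjectProperty (Over S)) : PreLaws (CoreP S g d n) P where
  refl _ x _ _ := K691.LevCore.r_refl x
  symm _ _ _ _ _ _ h := K691.LevCore.r_symm h
  trans _ _ _ _ _ _ _ _ h h' := K691.LevCore.r_trans h h'
  pull_ok k _ _ _ hx := K817.Closed.ok_pull k hx
  pull_r k _ _ _ _ _ _ h := K540.Ag.r_pull k h
  pull_id _ x _ _ := K540.Ag.r_pull_id x
  pull_comp k l x _ _ _ _ := K540.Ag.r_pull_comp k l x

theorem preLawsQ (S : Scheme.{u}) (g d n : ℕ) (P : ObjectProperty (Over S)) : PreLaws (CQ S g d n) P :=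
  (preLaws S g d n P).restrict _ fun k _ _ _ hx h => qc_pull k hx h

/-- The condition of the frozen statements. -/
def QF (T : Over S) (x : AgPol.Fam T g) : Prop :=
  letI := x.grp
  letI := x.grpt
  QFc x.φ x.lam

theorem qf_pull {T T' : Over S} (k : T' ⟶ T) {x : AgPol.Fam T g} (hx : AgPol.Fam.ok g d n T x) (h : QF T x) :
    QF T' (x.pull k) := by
  let _ := x.grp
  let _ := x.grpt
  obtain ⟨ξ, h1, h2, h3⟩ := K533.FamCore.exists_xi hx
  obtain ⟨hA, hc, hct, hD, hpol, hdeg, hlev⟩ := hx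
  have := hA.smooth
  have := hA.proper
  have := hA.geomConnected
  have hint : GeometricallyIntegral x.X.hom := K814.AbBasic.geometricallyIntegral x.X
  exact qfc_bc hD h1 h2 h3 h k.left

theorem exists_coreQ (T : Over S) (x : AgPol.Fam T g) (hx : AgPol.Fam.ok g d n T x) (h : QF T x) :
    ∃ z : Core T g, IsCoreOf x z ∧ Core.ok g d n T z ∧ QC g d T z := by
  let _ := x.grp
  let _ := x.grpt
  obtain ⟨z, hz, hok⟩ := K533.FamCore.exists_core T x hx
  refine ⟨z, hz, hok, ?_⟩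
  obtain ⟨ξ, h1, h2, h3, rfl⟩ := hz
  obtain ⟨hA, hc, hct, hD, hpol, hdeg, hlev⟩ := hx
  exact ⟨x.Xt, x.grpt, hct, x.φ, ξ, x.lam, hD, h1, h2, h3, hpol, hdeg, h, rfl⟩

theorem exists_famQ (T : Over S) (z : Core T g) (hz : Core.ok g d n T z) (h : QC g d T z) :
    ∃ x : AgPol.Fam T g, IsCoreOf x z ∧ AgPol.Fam.ok g d n T x ∧ QF T x := by
  obtain ⟨hA, hc, hr, -, hlev⟩ := hz
  obtain ⟨At, gAt, cAt, φ, ξ, lam, hD, h1, h2, h3, hpol, hdeg, hQ, hcl⟩ := h
  refine ⟨⟨z.X, z.grp, At, gAt, φ, lam, z.σ⟩, ⟨ξ, h1, h2, h3, ?_⟩, ⟨hA, hc, cAt, hD, hpol, hdeg, hlev⟩, hQ⟩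
  rw [← hcl]

/-- **The comparison** with the frozen moduli problem. -/
theorem corrQ (P : ObjectProperty (Over S)) (Q : ∀ T : Over S, AgPol.Fam T g → Prop)
    (hQ : ∀ (T : Over S) (x : AgPol.Fam T g), Q T x ↔ QF T x) :
    Corr ((AgPol.Agdn S g d n).restrict Q) (CQ S g d n) P (fun _ x z => IsCoreOf x z) where
  ex₁ T x _ hx := by
    obtain ⟨z, h1, h2, h3⟩ := exists_coreQ T x hx.1 ((hQ T x).1 hx.2)
    exact ⟨z, h1, h2, h3⟩
  ex₂ T z _ hz := by
    obtain ⟨x, h1, h2, h3⟩ := exists_famQ T z hz.1 hz.2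
    exact ⟨x, h1, h2, (hQ T x).2 h3⟩
  r_iff T x y z w _ hx hy hz hw := K533.FamCore.r_iff T x y z w hx.1 hy.1 hz hw
  pull k x z _ _ hx hz := ⟨z.pull k, K533.FamCore.pull_core k x z hx.1 hz, K691.LevCore.r_refl _⟩
  pull_ok k x _ _ hx := ⟨K533.FamCore.pull_ok k x hx.1, (hQ _ _).2 (qf_pull k hx.1 ((hQ _ _).1 hx.2))⟩
  pull_ok' k x hT hT' hx := (preLawsQ S g d n P).pull_ok k x hT hT' hx
  refl _ z := K691.LevCore.r_refl z
  symm _ _ _ h := K691.LevCore.r_symm h
  trans _ _ _ _ h h' := K691.LevCore.r_trans h h'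

end

end K691.ZCorr
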