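import Groth.Agent.AgPol.K691.CoarseMain
import Groth.Agent.AgPol.K540.CM
import Groth.Agent.AgPol.K817.Closed
import Groth.Agent.AgPol.K382.LevCover

/-!
# S14157 from S14158
-/

set_option autoImplicit false

universe u

open CategoryTheory Limits MonoidalCategory CartesianMonoidalCategory AlgebraicGeometry
open scoped MonObj

namespace K691.CoarseFin

open K117.Ag K691.CoarseQ K691.CoarseLoc

noncomputable section

/-- The laws of core families which need no rigidity. -/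
theorem preLaws (S : Scheme.{u}) (g d n : ℕ) : PreLaws (CoreP S g d n) (LN S) where
  refl _ x _ _ := K691.LevCore.r_refl x
  symm _ _ _ _ _ _ h := K691.LevCore.r_symm h
  trans _ _ _ _ _ _ _ _ h h' := K691.LevCore.r_trans h h'
  pull_ok k _ _ _ hx := K817.Closed.ok_pull k hx
  pull_r k _ _ _ _ _ _ h := K540.Ag.r_pull k h
  pull_id _ x _ _ := K540.Ag.r_pull_id x
  pull_comp k l x _ _ _ _ := K540.Ag.r_pull_comp k l x

/-- **S14157 from S14158.** -/
theorem main (g d n : ℕ) (hg : 1 ≤ g) (hn : 1 ≤ n)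
    (h : ∀ N : ℕ, (6 ^ g * d) ^ 2 * Nat.factorial g < N ^ 2 →
      ∃ (M : Over (Spec (CommRingCat.of (ULift.{u} ℤ))))
      (ξ : (AgPol.Agdn (Spec (CommRingCat.of (ULift.{u} ℤ))) g d N).Fam M),
      ModFun.IsUnivFamily (fun T => IsLocallyNoetherian T.left) (AgPol.Agdn (Spec (CommRingCat.of (ULift.{u} ℤ))) g d N) M ξ ∧
      RelProj.IsQuasiProjective M.hom ∧
      ∀ (Ω : Type u) [Field Ω] [IsAlgClosed Ω] (t : Spec (CommRingCat.of Ω) ⟶ Spec (CommRingCat.of (ULift.{u} ℤ))),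
        (N : Ω) ≠ 0 → Nonempty (Over.mk t ⟶ M) ∧ ∀ k : Over.mk t ⟶ M,
          (AgPol.Agdn (Spec (CommRingCat.of (ULift.{u} ℤ))) g d N).ok _
            ((AgPol.Agdn (Spec (CommRingCat.of (ULift.{u} ℤ))) g d N).pull k ξ)) :
    ∃ (M : Over (Spec (CommRingCat.of (ULift.{u} ℤ))))
      (Φ : (AgPol.Agdn (Spec (CommRingCat.of (ULift.{u} ℤ))) g d n).Hom (fun T => IsLocallyNoetherian T.left) M),
      ModFun.IsCoarseModuli (fun T => IsLocallyNoetherian T.left) (AgPol.Agdn (Spec (CommRingCat.of (ULift.{u} ℤ))) g d n) M Φ ∧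
      (∀ p : ℕ, p.Prime → RelProj.IsQuasiProjective
        (M.hom ∣_ ((Spec (CommRingCat.of (ULift.{u} ℤ))).basicOpen ((Scheme.ΓSpecIso (CommRingCat.of (ULift.{u} ℤ))).inv (ULift.up (p : ℤ)))))) ∧
      ∀ (Ω : Type u) [Field Ω] [IsAlgClosed Ω] (t : Spec (CommRingCat.of Ω) ⟶ Spec (CommRingCat.of (ULift.{u} ℤ))),
        (n : Ω) ≠ 0 → Nonempty (Over.mk t ⟶ M) := by
  refine K691.CoarseMain.main hg hn (fun m _ => preLaws SZ.{u} g d m) K382.LevCover.main
    (fun m => K533.FamCore.main g d m) ((6 ^ g * d) ^ 2 * Nat.factorial g) fun N hN => ?_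
  obtain ⟨M, ξ, h1, h2, h3⟩ := h N hN
  exact ⟨M, ξ, h1, h2, fun Ω _ _ t hΩ => (h3 Ω t hΩ).1⟩

end

end K691.CoarseFin
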