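import Groth.Agent.AgPol.K691.CoarseCorr
import Groth.Agent.AgPol.K691.CoarseLoc
import Groth.Agent.AgPol.K533.FamCore
import Groth.Agent.Resolve.K372.RegQP

/-!
# The coarse moduli scheme of polarised abelian schemes from the fine ones
-/

set_option autoImplicit false

universe u

open CategoryTheory Limits MonoidalCategory CartesianMonoidalCategory AlgebraicGeometry
open scoped MonObj

namespace K691.CoarseMain

open K117.Ag K691.CoarseQ K691.CoarseGlue K691.LevCore K691.CoarseLoc K691.CoarseCorr K691.Glue2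

noncomputable section

/-- Transport of quasi-projectivity along the comparison isomorphism. -/
theorem isQuasiProjective_restrict_of_iso {S : Scheme.{u}} [CompactSpace S] {M M' : Over S} (V : S.Opens)
    (e : resO M V ≅ M') (h : RelProj.IsQuasiProjective M'.hom) : RelProj.IsQuasiProjective (M.hom ∣_ V) := by
  have h1 : RelProj.IsQuasiProjective (resO M V).hom := by
    rw [← Over.w e.hom]
    have : IsIso e.hom.left := inferInstance
    exact K372.RegQP.comp_iso e.hom.left h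
  have h2 : (resO M V).hom = (M.hom ∣_ V) ≫ V.ι := (morphismRestrict_ι _ _).symm
  rw [h2] at h1
  have := h1.1
  have := h1.2.1
  have : LocallyOfFiniteType (M.hom ∣_ V) := locallyOfFiniteType_of_comp (M.hom ∣_ V) V.ι
  have : QuasiCompact (M.hom ∣_ V) := QuasiCompact.of_comp (M.hom ∣_ V) V.ι
  exact K372.RegQP.of_comp _ _ h1

/-- The coarse moduli scheme of core families. -/
theorem exists_global {g d n : ℕ} (hg : 1 ≤ g) (hn : 1 ≤ n)
    (hF : ∀ m : ℕ, 1 ≤ m → PreLaws (CoreP SZ.{u} g d m) (LN SZ.{u}))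
    (hcov : K117.Ag.Node.LevelCover.{u}) (C : ℕ) (hfine : ∀ N : ℕ, C < N ^ 2 → Fine.{u} g d N) :
    ∃ (M : Over SZ.{u}) (Φ : (CoreP SZ.{u} g d n).Hom (LN SZ.{u}) M), LB Φ ∧
      ModFun.GeomBij (CoreP SZ.{u} g d n) M Φ ∧
      (∀ p : ℕ, p.Prime → RelProj.IsQuasiProjective (M.hom ∣_ (bl p))) ∧
      ∀ (Ω : Type u) [Field Ω] [IsAlgClosed Ω] (t : Spec (CommRingCat.of Ω) ⟶ SZ.{u}), (n : Ω) ≠ 0 →
        Nonempty (Over.mk t ⟶ M) := by
  obtain ⟨M₂, Φ₂, L₂, G₂, -, r₂, n₂⟩ := exists_local (l := 2) hg hn (by omega) hF hcov C hfine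
  obtain ⟨M₃, Φ₃, L₃, G₃, -, r₃, n₃⟩ := exists_local (l := 3) hg hn (by omega) hF hcov C hfine
  obtain ⟨M, Φ, L, G⟩ := exists_glued (hF n hn) (fun j hj hT => ln_open j hj hT) (bl_sup (by norm_num)) L₂ L₃ G₂ G₃
    r₂ r₃
  refine ⟨M, Φ, L, G, fun p hp => ?_, fun Ω _ _ t ht => ?_⟩
  · obtain ⟨Mp, Φp, Lp, -, qp, rp, -⟩ := exists_local (l := p) hg hn hp.two_le hF hcov C hfine
    obtain ⟨e, -⟩ := exists_iso L Lp rp
    exact isQuasiProjective_restrict_of_iso (bl p) e qp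
  · obtain ⟨e₂, -⟩ := exists_iso L L₂ r₂
    obtain ⟨e₃, -⟩ := exists_iso L L₃ r₃
    by_cases h : ((2 : ℕ) : Ω) = 0
    · obtain ⟨b⟩ := n₃ Ω t ht (by
        intro h3
        have h4 : (1 : Ω) = ((3 : ℕ) : Ω) - ((2 : ℕ) : Ω) := by norm_num
        rw [h3, h, sub_zero] at h4
        exact one_ne_zero h4)
      exact ⟨b ≫ e₃.inv ≫ resi M _⟩
    · obtain ⟨b⟩ := n₂ Ω t ht h
      exact ⟨b ≫ e₂.inv ≫ resi M _⟩

/-- The correspondence between families and core families. -/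
theorem corr (S : Scheme.{u}) {g d n : ℕ} (hFC : K117.Ag.Node.FamCore.{u} g d n)
    (hF : PreLaws (CoreP S g d n) (LN S)) :
    Corr (AgPol.Agdn S g d n) (CoreP S g d n) (LN S) (fun _ x z => IsCoreOf x z) where
  ex₁ T x hT hx := hFC.exists_core T x hT hx
  ex₂ T z hT hz := hFC.exists_fam T z hT hz
  r_iff T x y z w hT hx hy hz hw := hFC.r_iff T x y z w hT hx hy hz hw
  pull k x z hT hT' hx hz := hFC.pull k x z hT hT' hx hz
  pull_ok k x hT hT' hx := hFC.pull_ok k x hT hT' hx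
  pull_ok' k x hT hT' hx := hF.pull_ok k x hT hT' hx
  refl _ z := r_refl z
  symm _ _ _ h := r_symm h
  trans _ _ _ _ h h' := r_trans h h'

theorem hasGeomPts (S : Scheme.{u}) : ModFun.HasGeomPts (LN S) := by
  intro Ω _ _ t
  exact inferInstanceAs (IsLocallyNoetherian (Spec (CommRingCat.of Ω)))

/-- **The coarse moduli scheme of polarised abelian schemes** from the fine ones with level structure. -/
theorem main {g d n : ℕ} (hg : 1 ≤ g) (hn : 1 ≤ n)
    (hF : ∀ m : ℕ, 1 ≤ m → PreLaws (CoreP SZ.{u} g d m) (LN SZ.{u})) (hcov : K117.Ag.Node.LevelCover.{u})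
    (hFC : ∀ m : ℕ, K117.Ag.Node.FamCore.{u} g d m) (C : ℕ)
    (hfine : ∀ N : ℕ, C < N ^ 2 →
      ∃ (M : Over SZ.{u}) (ξ : (AgPol.Agdn SZ.{u} g d N).Fam M),
        ModFun.IsUnivFamily (fun T => IsLocallyNoetherian T.left) (AgPol.Agdn SZ.{u} g d N) M ξ ∧
        RelProj.IsQuasiProjective M.hom ∧
        ∀ (Ω : Type u) [Field Ω] [IsAlgClosed Ω] (t : Spec (CommRingCat.of Ω) ⟶ SZ.{u}), (N : Ω) ≠ 0 →
          Nonempty (Over.mk t ⟶ M)) :
    ∃ (M : Over SZ.{u}) (Φ : (AgPol.Agdn SZ.{u} g d n).Hom (fun T => IsLocallyNoetherian T.left) M),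
      ModFun.IsCoarseModuli (fun T => IsLocallyNoetherian T.left) (AgPol.Agdn SZ.{u} g d n) M Φ ∧
      (∀ p : ℕ, p.Prime → RelProj.IsQuasiProjective (M.hom ∣_ (bl p))) ∧
      ∀ (Ω : Type u) [Field Ω] [IsAlgClosed Ω] (t : Spec (CommRingCat.of Ω) ⟶ SZ.{u}), (n : Ω) ≠ 0 →
        Nonempty (Over.mk t ⟶ M) := by
  have hfine' : ∀ N : ℕ, C < N ^ 2 → Fine.{u} g d N := by
    intro N hN
    obtain ⟨M, ξ, hU, hqp, hne⟩ := hfine N hN
    have hN1 : 1 ≤ N := by
      rcases Nat.eq_zero_or_pos N with rfl | h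
      · simp at hN
      · exact h
    have hM : LN SZ.{u} M := by
      have := hqp.1
      exact LocallyOfFiniteType.isLocallyNoetherian M.hom
    obtain ⟨z, hz⟩ := (corr SZ.{u} (hFC N) (hF N hN1)).fine hM hU
    exact ⟨M, z, hz, hqp, hne⟩
  obtain ⟨M, Φ, L, G, hqp, hne⟩ := exists_global (n := n) hg hn hF hcov C hfine'
  exact ⟨M, _, (corr SZ.{u} (hFC n) (hF n hn)).coarse L.isBestApprox G (hasGeomPts _), hqp, hne⟩

end

end K691.CoarseMain
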