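import Groth.Agent.AgPol.K691.CoarseQ

/-!
# Two presentations of one moduli problem

`Corr F F' P C`: the relation `C` identifies the families of `F` and of `F'`.  Fine and coarse moduli schemes of one are
those of the other.
-/

set_option autoImplicit false

universe v' v u

open CategoryTheory Limits AlgebraicGeometry

namespace K691.CoarseCorr

open ModFun K691.CoarseQ

variable {S : Scheme.{u}}

/-- `C` identifies the families of `F` and of `F'`. -/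
structure Corr (F : Problem.{v} S) (F' : Problem.{v'} S) (P : ObjectProperty (Over S))
    (C : ∀ T : Over S, F.Fam T → F'.Fam T → Prop) : Prop where
  ex₁ : ∀ (T : Over S) (x : F.Fam T), P T → F.ok T x → ∃ z, C T x z ∧ F'.ok T z
  ex₂ : ∀ (T : Over S) (z : F'.Fam T), P T → F'.ok T z → ∃ x, C T x z ∧ F.ok T x
  r_iff : ∀ (T : Over S) (x y : F.Fam T) (z w : F'.Fam T), P T → F.ok T x → F.ok T y → C T x z → C T y w →
    (F.r T x y ↔ F'.r T z w)
  pull : ∀ {T T' : Over S} (k : T' ⟶ T) (x : F.Fam T) (z : F'.Fam T), P T → P T' → F.ok T x → C T x z →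
    ∃ z', C T' (F.pull k x) z' ∧ F'.r T' z' (F'.pull k z)
  pull_ok : ∀ {T T' : Over S} (k : T' ⟶ T) (x : F.Fam T), P T → P T' → F.ok T x → F.ok T' (F.pull k x)
  pull_ok' : ∀ {T T' : Over S} (k : T' ⟶ T) (x : F'.Fam T), P T → P T' → F'.ok T x → F'.ok T' (F'.pull k x)
  refl : ∀ (T : Over S) (z : F'.Fam T), F'.r T z z
  symm : ∀ (T : Over S) (z w : F'.Fam T), F'.r T z w → F'.r T w z
  trans : ∀ (T : Over S) (z w y : F'.Fam T), F'.r T z w → F'.r T w y → F'.r T z y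

variable {F : Problem.{v} S} {F' : Problem.{v'} S} {P : ObjectProperty (Over S)}
  {C : ∀ T : Over S, F.Fam T → F'.Fam T → Prop} (H : Corr F F' P C) {M : Over S}
include H

theorem Corr.refl₁ {T : Over S} (x : F.Fam T) (hT : P T) (hx : F.ok T x) : F.r T x x := by
  obtain ⟨z, hz, -⟩ := H.ex₁ T x hT hx
  exact (H.r_iff T x x z z hT hx hx hz hz).2 (H.refl T z)

/-- Two families of `F'` corresponding to one family of `F`. -/
theorem Corr.r' {T : Over S} (x : F.Fam T) (hT : P T) (hx : F.ok T x) {z w : F'.Fam T} (hz : C T x z) (hw : C T x w) :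
    F'.r T z w := (H.r_iff T x x z w hT hx hx hz hw).1 (H.refl₁ x hT hx)

/-- The classifying maps of `F`. -/
noncomputable def hom₁ (Φ' : F'.Hom P M) : F.Hom P M where
  app T x hT hx := Φ'.app T (H.ex₁ T x hT hx).choose hT (H.ex₁ T x hT hx).choose_spec.2
  natural {T T'} k x hT hT' hx hx' := by
    have h1 := (H.ex₁ T x hT hx).choose_spec
    have h2 := (H.ex₁ T' (F.pull k x) hT' hx').choose_spec
    obtain ⟨z', hz', hr⟩ := H.pull k x _ hT hT' hx h1.1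
    have ok3 := H.pull_ok' k _ hT hT' h1.2
    refine Eq.trans ?_ (Φ'.natural k _ hT hT' h1.2 ok3)
    exact Φ'.resp _ _ hT' h2.2 ok3 (H.trans _ _ _ _ (H.r' _ hT' hx' h2.1 hz') hr)
  resp {T} x y hT hx hy h := by
    have h1 := (H.ex₁ T x hT hx).choose_spec
    have h2 := (H.ex₁ T y hT hy).choose_spec
    exact Φ'.resp _ _ hT h1.2 h2.2 ((H.r_iff T x y _ _ hT hx hy h1.1 h2.1).1 h)

theorem hom₁_app (Φ' : F'.Hom P M) {T : Over S} (x : F.Fam T) (hT : P T) (hx : F.ok T x) (z : F'.Fam T)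
    (hz : F'.ok T z) (hxz : C T x z) : (hom₁ H Φ').app T x hT hx = Φ'.app T z hT hz := by
  have h1 := (H.ex₁ T x hT hx).choose_spec
  exact Φ'.resp _ _ hT h1.2 hz (H.r' x hT hx h1.1 hxz)

/-- The classifying maps of `F'`. -/
noncomputable def hom₂ {N : Over S} (ψ : F.Hom P N) : F'.Hom P N where
  app T z hT hz := ψ.app T (H.ex₂ T z hT hz).choose hT (H.ex₂ T z hT hz).choose_spec.2
  natural {T T'} k z hT hT' hz hz' := by
    have h1 := (H.ex₂ T z hT hz).choose_spec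
    have h2 := (H.ex₂ T' (F'.pull k z) hT' hz').choose_spec
    have ok3 := H.pull_ok k _ hT hT' h1.2
    obtain ⟨z', hz2, hr⟩ := H.pull k _ _ hT hT' h1.2 h1.1
    refine Eq.trans ?_ (ψ.natural k _ hT hT' h1.2 ok3)
    exact ψ.resp _ _ hT' h2.2 ok3 ((H.r_iff T' _ _ _ _ hT' h2.2 ok3 h2.1 hz2).2 (H.symm _ _ _ hr))
  resp {T} z w hT hz hw h := by
    have h1 := (H.ex₂ T z hT hz).choose_spec
    have h2 := (H.ex₂ T w hT hw).choose_spec
    exact ψ.resp _ _ hT h1.2 h2.2 ((H.r_iff T _ _ z w hT h1.2 h2.2 h1.1 h2.1).2 h)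

theorem hom₂_app {N : Over S} (ψ : F.Hom P N) {T : Over S} (x : F.Fam T) (hT : P T) (hx : F.ok T x) (z : F'.Fam T)
    (hz : F'.ok T z) (hxz : C T x z) : (hom₂ H ψ).app T z hT hz = ψ.app T x hT hx := by
  have h1 := (H.ex₂ T z hT hz).choose_spec
  exact ψ.resp _ _ hT h1.2 hx ((H.r_iff T _ _ z z hT h1.2 hx h1.1 hxz).2 (H.refl T z))

theorem isBestApprox_hom₁ {Φ' : F'.Hom P M} (h : IsBestApprox P F' M Φ') : IsBestApprox P F M (hom₁ H Φ') := by
  intro N ψ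
  obtain ⟨f, hf, hu⟩ := h N (hom₂ H ψ)
  refine ⟨f, fun T x hT hx => ?_, fun f' hf' => hu f' fun T z hT hz => ?_⟩
  · obtain ⟨z, hxz, hz⟩ := H.ex₁ T x hT hx
    rw [hom₁_app H Φ' x hT hx z hz hxz, ← hf T z hT hz, hom₂_app H ψ x hT hx z hz hxz]
  · obtain ⟨x, hxz, hx⟩ := H.ex₂ T z hT hz
    rw [hom₂_app H ψ x hT hx z hz hxz, hf' T x hT hx, hom₁_app H Φ' x hT hx z hz hxz]

theorem geomBij_hom₁ {Φ' : F'.Hom P M} (h : GeomBij F' M Φ') : GeomBij F M (hom₁ H Φ') := by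
  intro Ω _ _ t ht
  obtain ⟨h1, h2⟩ := h Ω t ht
  refine ⟨fun g => ?_, fun x y hx hy hxy => ?_⟩
  · obtain ⟨z, hz, rfl⟩ := h1 g
    obtain ⟨x, hxz, hx⟩ := H.ex₂ _ z ht hz
    exact ⟨x, hx, hom₁_app H Φ' x ht hx z hz hxz⟩
  · obtain ⟨z, hxz, hz⟩ := H.ex₁ _ x ht hx
    obtain ⟨w, hyw, hw⟩ := H.ex₁ _ y ht hy
    rw [hom₁_app H Φ' x ht hx z hz hxz, hom₁_app H Φ' y ht hy w hw hyw] at hxy
    exact (H.r_iff _ x y z w ht hx hy hxz hyw).2 (h2 z w hz hw hxy)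

/-- Coarse moduli schemes of `F'` are coarse moduli schemes of `F`. -/
theorem Corr.coarse {Φ' : F'.Hom P M} (h : IsBestApprox P F' M Φ') (h' : GeomBij F' M Φ') (hP : HasGeomPts P) :
    IsCoarseModuli P F M (hom₁ H Φ') := ⟨hP, isBestApprox_hom₁ H h, geomBij_hom₁ H h'⟩

/-- Fine moduli schemes of `F` are fine moduli schemes of `F'`. -/
theorem Corr.fine {ξ : F.Fam M} (hM : P M) (h : IsUnivFamily P F M ξ) : ∃ z : F'.Fam M, IsUnivFamily P F' M z := by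
  obtain ⟨z, hz, okz⟩ := H.ex₁ M ξ hM h.1
  refine ⟨z, okz, fun T w hT hw => ?_⟩
  obtain ⟨y, hy, oky⟩ := H.ex₂ T w hT hw
  have key : ∀ k : T ⟶ M, F.r T (F.pull k ξ) y ↔ F'.r T (F'.pull k z) w := by
    intro k
    obtain ⟨z', hz', hr⟩ := H.pull k ξ z hM hT h.1 hz
    rw [H.r_iff T _ y z' w hT (H.pull_ok k ξ hM hT h.1) oky hz' hy]
    exact ⟨fun h1 => H.trans _ _ _ _ (H.symm _ _ _ hr) h1, fun h1 => H.trans _ _ _ _ hr h1⟩
  obtain ⟨k, hk, hu⟩ := h.2 T y hT oky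
  exact ⟨k, (key k).1 hk, fun k' hk' => hu k' ((key k').2 hk')⟩

end K691.CoarseCorr
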