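import Groth.Prelude.Def_ModFun
import Groth.Agent.Sga3.H784.FlatDesc

/-!
# Coarse moduli spaces from a covering family

`F` is a moduli problem on test schemes `P` satisfying the laws `PreLaws`.

* `IsCov P w`: covering maps of test schemes (flat, surjective, quasi-compact, stable in `P` under base change).
* `Sys Φ j N`: compatible systems of maps to `N` on the families whose classifying map factors through the open `j : O ⟶ M`.
* `LB Φ`: `Φ` is a best approximation, locally on `M`.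
* `Pres`: a family `ζ` on `M'` from which every family is obtained locally, and an invariant map `π : M' ⟶ M` which is a
  categorical quotient locally on `M`.
* `exists_hom`: from `Pres` one obtains `Φ : F.Hom P M` with `Φ(ζ) = π`, `LB Φ` and bijective on geometric points.
-/

set_option autoImplicit false

universe v u

open CategoryTheory Limits AlgebraicGeometry

namespace K691.CoarseQ

open ModFun Groth.Agent.Sga3.H784.FlatDesc

variable {S : Scheme.{u}}

/-- The laws of a moduli problem on the test schemes `P`. -/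
structure PreLaws (F : Problem.{v} S) (P : ObjectProperty (Over S)) : Prop where
  refl : ∀ (T : Over S) (x : F.Fam T), P T → F.ok T x → F.r T x x
  symm : ∀ (T : Over S) (x y : F.Fam T), P T → F.ok T x → F.ok T y → F.r T x y → F.r T y x
  trans : ∀ (T : Over S) (x y z : F.Fam T), P T → F.ok T x → F.ok T y → F.ok T z → F.r T x y → F.r T y z →
    F.r T x z
  pull_ok : ∀ {T T' : Over S} (k : T' ⟶ T) (x : F.Fam T), P T → P T' → F.ok T x → F.ok T' (F.pull k x)
  pull_r : ∀ {T T' : Over S} (k : T' ⟶ T) (x y : F.Fam T), P T → P T' → F.ok T x → F.ok T y → F.r T x y →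
    F.r T' (F.pull k x) (F.pull k y)
  pull_id : ∀ (T : Over S) (x : F.Fam T), P T → F.ok T x → F.r T (F.pull (𝟙 T) x) x
  pull_comp : ∀ {T T' T'' : Over S} (k : T' ⟶ T) (l : T'' ⟶ T') (x : F.Fam T), P T → P T' → P T'' →
    F.ok T x → F.r T'' (F.pull (l ≫ k) x) (F.pull l (F.pull k x))

/-- The laws pass to subproblems stable under pull-back. -/
theorem PreLaws.restrict {F : Problem.{v} S} {P : ObjectProperty (Over S)} (hF : PreLaws F P)
    (Q : ∀ T : Over S, F.Fam T → Prop)
    (hQ : ∀ {T T' : Over S} (k : T' ⟶ T) (x : F.Fam T), P T → P T' → F.ok T x → Q T x → Q T' (F.pull k x)) :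
    PreLaws (F.restrict Q) P where
  refl T x hT hx := hF.refl T x hT hx.1
  symm T x y hT hx hy := hF.symm T x y hT hx.1 hy.1
  trans T x y z hT hx hy hz := hF.trans T x y z hT hx.1 hy.1 hz.1
  pull_ok k x hT hT' hx := ⟨hF.pull_ok k x hT hT' hx.1, hQ k x hT hT' hx.1 hx.2⟩
  pull_r k x y hT hT' hx hy := hF.pull_r k x y hT hT' hx.1 hy.1
  pull_id T x hT hx := hF.pull_id T x hT hx.1
  pull_comp k l x hT hT' hT'' hx := hF.pull_comp k l x hT hT' hT'' hx.1

/-- Covering maps of test schemes. -/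
structure IsCov (P : ObjectProperty (Over S)) {W T : Over S} (w : W ⟶ T) : Prop where
  flat : Flat w.left
  surj : Surjective w.left
  qc : QuasiCompact w.left
  dom : P W
  bc : ∀ (T' : Over S) (a : T' ⟶ T), P T' → P (pullback a w)

section sys

variable {F : Problem.{v} S} {P : ObjectProperty (Over S)} {M : Over S}

/-- Compatible systems of maps to `N` on the families whose classifying map factors through `j : O ⟶ M`. -/
structure Sys (Φ : F.Hom P M) {O : Over S} (j : O ⟶ M) (N : Over S) where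
  /-- the maps -/
  app : ∀ (T : Over S) (x : F.Fam T) (hT : P T) (hx : F.ok T x) (f : T ⟶ O), f ≫ j = Φ.app T x hT hx → (T ⟶ N)
  natural : ∀ {T T' : Over S} (g : T' ⟶ T) (x : F.Fam T) (hT : P T) (hT' : P T') (hx : F.ok T x)
    (hx' : F.ok T' (F.pull g x)) (f : T ⟶ O) (hf : f ≫ j = Φ.app T x hT hx)
    (hf' : (g ≫ f) ≫ j = Φ.app T' (F.pull g x) hT' hx'), app T' (F.pull g x) hT' hx' (g ≫ f) hf' =
      g ≫ app T x hT hx f hf
  resp : ∀ {T : Over S} (x y : F.Fam T) (hT : P T) (hx : F.ok T x) (hy : F.ok T y) (f : T ⟶ O)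
    (hf : f ≫ j = Φ.app T x hT hx) (hf' : f ≫ j = Φ.app T y hT hy), F.r T x y →
      app T x hT hx f hf = app T y hT hy f hf'

/-- The universal property on the open `j : O ⟶ M`. -/
def BA (Φ : F.Hom P M) {O : Over S} (j : O ⟶ M) : Prop :=
  ∀ (N : Over S) (ψ : Sys Φ j N), ∃! h : O ⟶ N, ∀ (T : Over S) (x : F.Fam T) (hT : P T) (hx : F.ok T x) (f : T ⟶ O)
    (hf : f ≫ j = Φ.app T x hT hx), ψ.app T x hT hx f hf = f ≫ h

/-- `Φ` is a best approximation locally on `M`. -/
def LB (Φ : F.Hom P M) : Prop := ∀ (O : Over S) (j : O ⟶ M), IsOpenImmersion j.left → BA Φ j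

/-- The system attached to a morphism from the moduli problem. -/
def Sys.ofHom (Φ : F.Hom P M) {N : Over S} (ψ : F.Hom P N) : Sys Φ (𝟙 M) N where
  app T x hT hx _ _ := ψ.app T x hT hx
  natural g x hT hT' hx hx' _ _ _ := ψ.natural g x hT hT' hx hx'
  resp x y hT hx hy _ _ _ h := ψ.resp x y hT hx hy h

theorem LB.isBestApprox {Φ : F.Hom P M} (h : LB Φ) : IsBestApprox P F M Φ := by
  intro N ψ
  have hj : IsOpenImmersion (𝟙 M : M ⟶ M).left := inferInstanceAs (IsOpenImmersion (𝟙 M.left))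
  obtain ⟨f, hf, hf'⟩ := h M (𝟙 M) hj N (Sys.ofHom Φ ψ)
  refine ⟨f, fun T x hT hx => ?_, fun g hg => hf' g fun T x hT hx a ha => ?_⟩
  · exact hf T x hT hx (Φ.app T x hT hx) (Category.comp_id _)
  · have e : a = Φ.app T x hT hx := by rw [← ha, Category.comp_id]
    subst e
    exact hg T x hT hx

end sys

section pres

variable {F : Problem.{v} S} {P : ObjectProperty (Over S)} {M' M : Over S} {ζ : F.Fam M'} {π : M' ⟶ M}

variable (F P M' M ζ π) in
/-- A family `ζ` on `M'` from which every family is obtained locally, and an invariant map `π : M' ⟶ M` which is a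
categorical quotient locally on `M`. -/
structure Pres : Prop where
  dom : P M'
  ok : F.ok M' ζ
  cov : ∀ (T : Over S) (x : F.Fam T), P T → F.ok T x →
    ∃ (W : Over S) (w : W ⟶ T) (b : W ⟶ M'), IsCov P w ∧ F.r W (F.pull b ζ) (F.pull w x)
  inv : ∀ (T : Over S) (b b' : T ⟶ M'), P T → F.r T (F.pull b ζ) (F.pull b' ζ) → b ≫ π = b' ≫ π
  openP : ∀ (O : Over S) (j : O ⟶ M), IsOpenImmersion j.left → P (pullback j π)
  cat : ∀ (O : Over S) (j : O ⟶ M), IsOpenImmersion j.left → ∀ (N : Over S) (h : pullback j π ⟶ N),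
    (∀ (T : Over S) (b b' : T ⟶ pullback j π), P T →
      F.r T (F.pull (b ≫ pullback.snd j π) ζ) (F.pull (b' ≫ pullback.snd j π) ζ) → b ≫ h = b' ≫ h) →
    ∃! h' : O ⟶ N, pullback.fst j π ≫ h' = h
  geomSurj : ∀ (Ω : Type u) [Field Ω] [IsAlgClosed Ω] (t : Spec (CommRingCat.of Ω) ⟶ S), P (Over.mk t) →
    ∀ g : Over.mk t ⟶ M, ∃ b : Over.mk t ⟶ M', b ≫ π = g
  geomInj : ∀ (Ω : Type u) [Field Ω] [IsAlgClosed Ω] (t : Spec (CommRingCat.of Ω) ⟶ S), P (Over.mk t) →
    ∀ b b' : Over.mk t ⟶ M', b ≫ π = b' ≫ π → F.r _ (F.pull b ζ) (F.pull b' ζ)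
  geomFam : ∀ (Ω : Type u) [Field Ω] [IsAlgClosed Ω] (t : Spec (CommRingCat.of Ω) ⟶ S), P (Over.mk t) →
    ∀ x : F.Fam (Over.mk t), F.ok _ x → ∃ b : Over.mk t ⟶ M', F.r _ (F.pull b ζ) x

variable (P ζ π) in
/-- `f` is the classifying map of the family `x`. -/
def Rel {T : Over S} (x : F.Fam T) (f : T ⟶ M) : Prop :=
  ∀ (T' : Over S) (a : T' ⟶ T) (b : T' ⟶ M'), P T' → F.r T' (F.pull b ζ) (F.pull a x) → b ≫ π = a ≫ f

variable (hF : PreLaws F P) (H : Pres F P M' M ζ π)
include hF H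

/-- The condition of `inv` for pull-backs from a common family. -/
theorem comp_eq_of_pull {T R : Over S} (x : F.Fam T) (hT : P T) (hx : F.ok T x) (hR : P R) {W W' : Over S}
    (hW : P W) (hW' : P W') (w : W ⟶ T) (w' : W' ⟶ T) (b : W ⟶ M') (b' : W' ⟶ M')
    (h : F.r W (F.pull b ζ) (F.pull w x)) (h' : F.r W' (F.pull b' ζ) (F.pull w' x))
    (p : R ⟶ W) (p' : R ⟶ W') (hp : p ≫ w = p' ≫ w') : p ≫ b ≫ π = p' ≫ b' ≫ π := by
  have okb := hF.pull_ok b ζ H.dom hW H.ok
  have okb' := hF.pull_ok b' ζ H.dom hW' H.ok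
  have okw := hF.pull_ok w x hT hW hx
  have okw' := hF.pull_ok w' x hT hW' hx
  have h1 : F.r R (F.pull (p ≫ b) ζ) (F.pull (p ≫ w) x) := by
    refine hF.trans R _ (F.pull p (F.pull b ζ)) _ hR (hF.pull_ok _ _ H.dom hR H.ok) (hF.pull_ok p _ hW hR okb)
      (hF.pull_ok _ _ hT hR hx) (hF.pull_comp b p ζ H.dom hW hR H.ok) ?_
    refine hF.trans R _ (F.pull p (F.pull w x)) _ hR (hF.pull_ok p _ hW hR okb) (hF.pull_ok p _ hW hR okw)
      (hF.pull_ok _ _ hT hR hx) (hF.pull_r p _ _ hW hR okb okw h) ?_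
    exact hF.symm R _ _ hR (hF.pull_ok _ _ hT hR hx) (hF.pull_ok p _ hW hR okw) (hF.pull_comp w p x hT hW hR hx)
  have h2 : F.r R (F.pull (p' ≫ b') ζ) (F.pull (p' ≫ w') x) := by
    refine hF.trans R _ (F.pull p' (F.pull b' ζ)) _ hR (hF.pull_ok _ _ H.dom hR H.ok) (hF.pull_ok p' _ hW' hR okb')
      (hF.pull_ok _ _ hT hR hx) (hF.pull_comp b' p' ζ H.dom hW' hR H.ok) ?_
    refine hF.trans R _ (F.pull p' (F.pull w' x)) _ hR (hF.pull_ok p' _ hW' hR okb') (hF.pull_ok p' _ hW' hR okw')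
      (hF.pull_ok _ _ hT hR hx) (hF.pull_r p' _ _ hW' hR okb' okw' h') ?_
    exact hF.symm R _ _ hR (hF.pull_ok _ _ hT hR hx) (hF.pull_ok p' _ hW' hR okw') (hF.pull_comp w' p' x hT hW' hR hx)
  have h3 := H.inv R (p ≫ b) (p' ≫ b') hR (hF.trans R _ (F.pull (p ≫ w) x) _ hR (hF.pull_ok _ _ H.dom hR H.ok)
    (hF.pull_ok _ _ hT hR hx) (hF.pull_ok _ _ H.dom hR H.ok) h1
    (hF.symm R _ _ hR (hF.pull_ok _ _ H.dom hR H.ok) (hF.pull_ok _ _ hT hR hx) (by rw [hp]; exact h2)))
  rw [Category.assoc, Category.assoc] at h3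
  exact h3

theorem exists_rel {T : Over S} (x : F.Fam T) (hT : P T) (hx : F.ok T x) : ∃ f : T ⟶ M, Rel P ζ π x f := by
  obtain ⟨W, w, b, hw, hb⟩ := H.cov T x hT hx
  have := hw.flat; have := hw.surj; have := hw.qc
  obtain ⟨f, hf⟩ := exists_desc w (b ≫ π) (fun R p p' hp => by
    have hR : P (pullback w w) := hw.bc W w hw.dom
    have h1 := comp_eq_of_pull hF H x hT hx hR hw.dom hw.dom w w b b hb hb (pullback.fst w w) (pullback.snd w w)
      pullback.condition
    have h2 := congrArg (fun z => pullback.lift p p' hp ≫ z) h1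
    simp only [pullback.lift_fst_assoc, pullback.lift_snd_assoc] at h2
    exact h2)
  refine ⟨f, fun T' a b' hT' hb' => ?_⟩
  have hR := hw.bc T' a hT'
  have h1 := comp_eq_of_pull hF H x hT hx hR hT' hw.dom a w b' b hb' hb (pullback.fst a w) (pullback.snd a w)
    pullback.condition
  rw [← hf, ← Category.assoc (pullback.snd a w), ← pullback.condition, Category.assoc] at h1
  have : Surjective (pullback.fst a w).left := by
    have h2 : IsPullback (pullback.fst a w).left (pullback.snd a w).left a.left w.left :=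
      (IsPullback.of_hasPullback a w).map (Over.forget S)
    exact MorphismProperty.of_isPullback h2.flip (hw.surj)
  have : Flat (pullback.fst a w).left := by
    have h2 : IsPullback (pullback.fst a w).left (pullback.snd a w).left a.left w.left :=
      (IsPullback.of_hasPullback a w).map (Over.forget S)
    exact MorphismProperty.of_isPullback h2.flip (hw.flat)
  have := epi_of_cover (pullback.fst a w)
  rwa [cancel_epi] at h1

omit hF in
theorem rel_unique {T : Over S} (x : F.Fam T) (hT : P T) (hx : F.ok T x) {f f' : T ⟶ M} (h : Rel P ζ π x f)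
    (h' : Rel P ζ π x f') : f = f' := by
  obtain ⟨W, w, b, hw, hb⟩ := H.cov T x hT hx
  have := hw.flat; have := hw.surj
  have := epi_of_cover w
  rw [← cancel_epi w, ← h W w b hw.dom hb, ← h' W w b hw.dom hb]

omit H in
theorem rel_pull {T T' : Over S} (g : T' ⟶ T) (x : F.Fam T) (hT : P T) (hT' : P T') (hx : F.ok T x)
    (hM' : P M') (hζ : F.ok M' ζ) {f : T ⟶ M} (h : Rel P ζ π x f) : Rel P ζ π (F.pull g x) (g ≫ f) := by
  intro R a b hR hb
  rw [← Category.assoc]
  refine h R (a ≫ g) b hR ?_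
  exact hF.trans R _ (F.pull a (F.pull g x)) _ hR (hF.pull_ok _ _ hM' hR hζ)
    (hF.pull_ok a _ hT' hR (hF.pull_ok g x hT hT' hx)) (hF.pull_ok _ _ hT hR hx) hb
    (hF.symm R _ _ hR (hF.pull_ok _ _ hT hR hx) (hF.pull_ok a _ hT' hR (hF.pull_ok g x hT hT' hx))
      (hF.pull_comp g a x hT hT' hR hx))

omit H in
theorem rel_congr {T : Over S} (x y : F.Fam T) (hT : P T) (hx : F.ok T x) (hy : F.ok T y)
    (hM' : P M') (hζ : F.ok M' ζ) (hxy : F.r T x y) {f : T ⟶ M} (h : Rel P ζ π x f) : Rel P ζ π y f := by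
  intro R a b hR hb
  refine h R a b hR ?_
  exact hF.trans R _ (F.pull a y) _ hR (hF.pull_ok _ _ hM' hR hζ) (hF.pull_ok a _ hT hR hy)
    (hF.pull_ok a _ hT hR hx) hb
    (hF.symm R _ _ hR (hF.pull_ok _ _ hT hR hx) (hF.pull_ok _ _ hT hR hy) (hF.pull_r a x y hT hR hx hy hxy))

/-- The classifying maps. -/
noncomputable def homOf : F.Hom P M where
  app _ x hT hx := (exists_rel hF H x hT hx).choose
  natural g x hT hT' hx hx' := rel_unique H (F.pull g x) hT' hx' (exists_rel hF H (F.pull g x) hT' hx').choose_spec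
    (rel_pull hF g x hT hT' hx H.dom H.ok (exists_rel hF H x hT hx).choose_spec)
  resp x y hT hx hy hxy := rel_unique H y hT hy
    (rel_congr hF x y hT hx hy H.dom H.ok hxy (exists_rel hF H x hT hx).choose_spec) (exists_rel hF H y hT hy).choose_spec

theorem rel_homOf {T : Over S} (x : F.Fam T) (hT : P T) (hx : F.ok T x) :
    Rel P ζ π x ((homOf hF H).app T x hT hx) := (exists_rel hF H x hT hx).choose_spec

theorem homOf_app_eq {T : Over S} (x : F.Fam T) (hT : P T) (hx : F.ok T x) (b : T ⟶ M')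
    (hb : F.r T (F.pull b ζ) x) : (homOf hF H).app T x hT hx = b ≫ π := by
  have h1 := rel_homOf hF H x hT hx T (𝟙 T) b hT (hF.trans T _ x _ hT (hF.pull_ok _ _ H.dom hT H.ok) hx
    (hF.pull_ok _ _ hT hT hx) hb (hF.symm T _ _ hT (hF.pull_ok _ _ hT hT hx) hx (hF.pull_id T x hT hx)))
  rw [h1, Category.id_comp]

theorem homOf_zeta : (homOf hF H).app M' ζ H.dom H.ok = π := by
  rw [homOf_app_eq hF H ζ H.dom H.ok (𝟙 M') (hF.pull_id M' ζ H.dom H.ok), Category.id_comp]

theorem lb_homOf : LB (homOf hF H) := by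
  intro O j hj N ψ
  let q : pullback j π ⟶ M' := pullback.snd j π
  let p : pullback j π ⟶ O := pullback.fst j π
  have hO : P (pullback j π) := H.openP O j hj
  have okq : F.ok _ (F.pull q ζ) := hF.pull_ok q ζ H.dom hO H.ok
  have hq : p ≫ j = (homOf hF H).app _ (F.pull q ζ) hO okq := by
    rw [(homOf hF H).natural q ζ H.dom hO H.ok okq, homOf_zeta, pullback.condition]
  let h : pullback j π ⟶ N := ψ.app _ (F.pull q ζ) hO okq p hq
  -- the value of the system on a family pulled back from `ζ`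
  have key : ∀ (T : Over S) (hT : P T) (x : F.Fam T) (hx : F.ok T x) (f : T ⟶ O)
      (hf : f ≫ j = (homOf hF H).app T x hT hx) (b : T ⟶ M') (hb : F.r T (F.pull b ζ) x) (c : T ⟶ pullback j π)
      (hc1 : c ≫ p = f) (hc2 : c ≫ q = b), ψ.app T x hT hx f hf = c ≫ h := by
    intro T hT x hx f hf b hb c hc1 hc2
    subst hc1 hc2
    have okc : F.ok T (F.pull c (F.pull q ζ)) := hF.pull_ok c _ hO hT okq
    have e1 : (c ≫ p) ≫ j = (homOf hF H).app T (F.pull c (F.pull q ζ)) hT okc := by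
      rw [(homOf hF H).natural c (F.pull q ζ) hO hT okq okc, ← hq, Category.assoc]
    rw [← ψ.natural c (F.pull q ζ) hO hT okq okc p hq e1]
    refine ψ.resp _ _ hT hx okc _ hf e1 ?_
    refine hF.trans T _ (F.pull (c ≫ q) ζ) _ hT hx (hF.pull_ok _ _ H.dom hT H.ok) okc
      (hF.symm T _ _ hT (hF.pull_ok _ _ H.dom hT H.ok) hx hb) (hF.pull_comp q c ζ H.dom hO hT H.ok)
  obtain ⟨h', hh', hu⟩ := H.cat O j hj N h (fun T b b' hT hbb => by
    have okb : F.ok T (F.pull (b ≫ q) ζ) := hF.pull_ok _ _ H.dom hT H.ok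
    have okb' : F.ok T (F.pull (b' ≫ q) ζ) := hF.pull_ok _ _ H.dom hT H.ok
    have e0 : (b ≫ q) ≫ π = (b' ≫ q) ≫ π := H.inv T _ _ hT hbb
    have hjm : Mono j := by
      have : Mono j.left := inferInstance
      exact (Over.forget S).mono_of_mono_map this
    have e1 : b ≫ p = b' ≫ p := by
      rw [← cancel_mono j, Category.assoc, Category.assoc, pullback.condition, ← Category.assoc, e0, Category.assoc]
    have e2 : (b ≫ p) ≫ j = (homOf hF H).app T (F.pull (b ≫ q) ζ) hT okb := by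
      rw [homOf_app_eq hF H _ hT okb (b ≫ q) (hF.refl T _ hT okb), Category.assoc, pullback.condition, Category.assoc]
    have e3 : (b ≫ p) ≫ j = (homOf hF H).app T (F.pull (b' ≫ q) ζ) hT okb' := by
      rw [homOf_app_eq hF H _ hT okb' (b' ≫ q) (hF.refl T _ hT okb'), e1, Category.assoc, pullback.condition,
        Category.assoc]
    rw [← key T hT (F.pull (b ≫ q) ζ) okb (b ≫ p) e2 (b ≫ q) (hF.refl T _ hT okb) b rfl rfl,
      ← key T hT (F.pull (b' ≫ q) ζ) okb' (b ≫ p) e3 (b' ≫ q) (hF.refl T _ hT okb') b' e1.symm rfl]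
    exact ψ.resp _ _ hT okb okb' _ e2 e3 hbb)
  refine ⟨h', fun T x hT hx f hf => ?_, fun g hg => hu g ?_⟩
  · obtain ⟨W, w, b, hw, hb⟩ := H.cov T x hT hx
    have := hw.flat; have := hw.surj
    have := epi_of_cover w
    have okw := hF.pull_ok w x hT hw.dom hx
    have e1 : (w ≫ f) ≫ j = (homOf hF H).app W (F.pull w x) hw.dom okw := by
      rw [(homOf hF H).natural w x hT hw.dom hx okw, ← hf, Category.assoc]
    have e2 : (w ≫ f) ≫ j = b ≫ π := by rw [e1, homOf_app_eq hF H _ hw.dom okw b hb]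
    have h1 := key W hw.dom (F.pull w x) okw (w ≫ f) e1 b hb (pullback.lift (w ≫ f) b e2) (pullback.lift_fst _ _ _)
      (pullback.lift_snd _ _ _)
    rw [ψ.natural w x hT hw.dom hx okw f hf e1] at h1
    rw [← cancel_epi w, h1, ← hh', ← Category.assoc, ← Category.assoc]
    congr 1
    exact pullback.lift_fst _ _ _
  · exact (hg _ (F.pull q ζ) hO okq p hq).symm

theorem geomBij_homOf : GeomBij F M (homOf hF H) := by
  intro Ω _ _ t ht
  refine ⟨fun g => ?_, fun x y hx hy hxy => ?_⟩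
  · obtain ⟨b, rfl⟩ := H.geomSurj Ω t ht g
    have okb : F.ok _ (F.pull b ζ) := hF.pull_ok b ζ H.dom ht H.ok
    exact ⟨F.pull b ζ, okb, homOf_app_eq hF H _ ht okb b (hF.refl _ _ ht okb)⟩
  · obtain ⟨b, hb⟩ := H.geomFam Ω t ht x hx
    obtain ⟨b', hb'⟩ := H.geomFam Ω t ht y hy
    rw [homOf_app_eq hF H x ht hx b hb, homOf_app_eq hF H y ht hy b' hb'] at hxy
    have okb : F.ok _ (F.pull b ζ) := hF.pull_ok b ζ H.dom ht H.ok
    have okb' : F.ok _ (F.pull b' ζ) := hF.pull_ok b' ζ H.dom ht H.ok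
    have h1 := H.geomInj Ω t ht b b' hxy
    exact hF.trans _ _ (F.pull b ζ) _ ht hx okb hy (hF.symm _ _ _ ht okb hx hb)
      (hF.trans _ _ (F.pull b' ζ) _ ht okb okb' hy h1 hb')

end pres

end K691.CoarseQ
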