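import Groth.Agent.AgPol.K691.CoarseQ
import Groth.Agent.Zeta.K467.QuotFlat
import Groth.Agent.Sga1.Transit
import Groth.Agent.S2925
import Mathlib.AlgebraicGeometry.AlgClosed.Basic

/-!
# Coarse moduli spaces as quotients by finite groups

`GPres`: a family `ζ` on `M'`, an action of a finite group `G` on `M'` preserving `ζ` up to isomorphism, with quotient
`π : M' ⟶ M`, such that every family is obtained from `ζ` after a covering of finite type and two maps to `M'` with
isomorphic pull-backs of `ζ` differ locally by elements of `G`.  Then `Pres` holds.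
-/

set_option autoImplicit false
set_option linter.dupNamespace false

universe v u

open CategoryTheory Limits AlgebraicGeometry

namespace K691.GPres

open ModFun K691.CoarseQ

/-- Sections over algebraically closed fields. -/
theorem exists_section {k : Type u} [Field k] [IsAlgClosed k] {X : Scheme.{u}} (f : X ⟶ Spec (CommRingCat.of k))
    [LocallyOfFiniteType f] [Nonempty X] : ∃ s : Spec (CommRingCat.of k) ⟶ X, s ≫ f = 𝟙 _ := by
  have : JacobsonSpace X := LocallyOfFiniteType.jacobsonSpace f
  have h : (closedPoints X).Nonempty := by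
    rw [Set.nonempty_iff_ne_empty]
    intro h0
    have h1 := closure_closedPoints (X := X)
    rw [h0, closure_empty] at h1
    exact Set.empty_ne_univ h1
  obtain ⟨x, hx⟩ := h
  exact ⟨pointOfClosedPoint f x hx, pointOfClosedPoint_comp f x hx⟩

/-- Points with values in an algebraically closed field lift along surjective morphisms locally of finite type. -/
theorem exists_lift {k : Type u} [Field k] [IsAlgClosed k] {X Y : Scheme.{u}} (f : X ⟶ Y) [LocallyOfFiniteType f]
    [Surjective f] (y : Spec (CommRingCat.of k) ⟶ Y) : ∃ x : Spec (CommRingCat.of k) ⟶ X, x ≫ f = y := by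
  have : Nonempty ↥(pullback f y) := by
    obtain ⟨z, -⟩ := (inferInstance : Surjective (pullback.snd f y)).surj (IsLocalRing.closedPoint k)
    exact ⟨z⟩
  obtain ⟨s, hs⟩ := exists_section (pullback.snd f y)
  refine ⟨s ≫ pullback.fst f y, ?_⟩
  rw [Category.assoc, pullback.condition, ← Category.assoc, hs, Category.id_comp]

variable {S : Scheme.{u}}

/-- Morphisms which agree locally on the source agree. -/
theorem hom_ext_local {T N : Over S} (f g : T ⟶ N)
    (h : ∀ t : T.left, ∃ U : T.left.Opens, t ∈ U ∧ U.ι ≫ f.left = U.ι ≫ g.left) : f = g := by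
  choose U hU hUe using h
  ext1
  have hc : (⨆ t, U t) = ⊤ := by
    rw [eq_top_iff]
    intro t _
    exact TopologicalSpace.Opens.mem_iSup.2 ⟨t, hU t⟩
  refine (Scheme.openCoverOfIsOpenCover _ U hc).hom_ext _ _ fun t => ?_
  exact hUe t

variable (F : Problem.{v} S) (P : ObjectProperty (Over S)) (M' M : Over S) (ζ : F.Fam M') (π : M' ⟶ M)

/-- A family `ζ` on `M'`, an action of a finite group `G` with quotient `π : M' ⟶ M`. -/
structure GPres {G : Type u} [Group G] [Finite G] (ρ : G →* Aut M'.left) : Prop where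
  dom : P M'
  ok : F.ok M' ζ
  act : ∀ g, (ρ g).hom ≫ M'.hom = M'.hom
  quot : SGA1.IsQuot ρ π.left
  ft : LocallyOfFiniteType π.left
  inv : ∀ g, F.r M' (F.pull (Over.homMk (ρ g).hom (act g)) ζ) ζ
  cov : ∀ (T : Over S) (x : F.Fam T), P T → F.ok T x →
    ∃ (W : Over S) (w : W ⟶ T) (b : W ⟶ M'), IsCov P w ∧ LocallyOfFiniteType w.left ∧
      F.r W (F.pull b ζ) (F.pull w x)
  loc : ∀ (T : Over S) (b b' : T ⟶ M'), P T → F.r T (F.pull b ζ) (F.pull b' ζ) → ∀ t : T.left,
    ∃ (U : T.left.Opens) (g : G), t ∈ U ∧ U.ι ≫ b'.left = U.ι ≫ b.left ≫ (ρ g).hom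

variable {F P M' M ζ π}
variable {G : Type u} [Group G] [Finite G] {ρ : G →* Aut M'.left}

theorem GPres.pi_inv (H : GPres F P M' M ζ π ρ) (T : Over S) (b b' : T ⟶ M') (hT : P T)
    (h : F.r T (F.pull b ζ) (F.pull b' ζ)) : b ≫ π = b' ≫ π := by
  refine hom_ext_local _ _ fun t => ?_
  obtain ⟨U, g, hU, e⟩ := H.loc T b b' hT h t
  refine ⟨U, hU, ?_⟩
  have e1 : (ρ g).hom ≫ π.left = π.left := H.quot.inv g
  calc U.ι ≫ (b ≫ π).left = U.ι ≫ b.left ≫ (ρ g).hom ≫ π.left := by rw [e1]; rfl
    _ = (U.ι ≫ b.left ≫ (ρ g).hom) ≫ π.left := by simp only [Category.assoc]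
    _ = U.ι ≫ (b' ≫ π).left := by rw [← e, Category.assoc]; rfl

section base

variable (H : GPres F P M' M ζ π ρ) {O : Over S} (j : O ⟶ M)
include H

/-- The action on the preimage of an open. -/
noncomputable def actO (g : G) : pullback j π ⟶ pullback j π :=
  pullback.lift (pullback.fst j π) (pullback.snd j π ≫ Over.homMk (ρ g).hom (H.act g)) (by
    rw [pullback.condition, Category.assoc]
    congr 1
    ext1
    exact (H.quot.inv g).symm)

theorem actO_fst (g : G) : actO H j g ≫ pullback.fst j π = pullback.fst j π := pullback.lift_fst _ _ _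

theorem actO_snd (g : G) : actO H j g ≫ pullback.snd j π =
    pullback.snd j π ≫ Over.homMk (ρ g).hom (H.act g) := pullback.lift_snd _ _ _

theorem actO_mul (g h : G) : actO H j (g * h) = actO H j h ≫ actO H j g := by
  apply pullback.hom_ext
  · rw [Category.assoc, actO_fst, actO_fst, actO_fst]
  · rw [Category.assoc, actO_snd, actO_snd, ← Category.assoc, actO_snd, Category.assoc]
    congr 1
    ext1
    simp only [Over.homMk_left, Over.comp_left]
    exact Groth.Agent.Sga1.QuotBasic.hom_mul ρ g h

theorem actO_one : actO H j 1 = 𝟙 _ := by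
  apply pullback.hom_ext
  · rw [actO_fst, Category.id_comp]
  · rw [actO_snd, Category.id_comp]
    conv_rhs => rw [← Category.comp_id (pullback.snd j π)]
    congr 1
    ext1
    simp only [Over.homMk_left, Over.id_left]
    exact Groth.Agent.Sga1.QuotBasic.hom_one ρ

/-- The action on the preimage of an open, as a homomorphism. -/
noncomputable def actHom : G →* Aut (pullback j π).left where
  toFun g := ⟨(actO H j g).left, (actO H j g⁻¹).left, by
    rw [← Over.comp_left, ← actO_mul, inv_mul_cancel, actO_one]; rfl, by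
    rw [← Over.comp_left, ← actO_mul, mul_inv_cancel, actO_one]; rfl⟩
  map_one' := by
    ext1
    change (actO H j 1).left = _
    rw [actO_one]
    rfl
  map_mul' g h := by
    ext1
    change (actO H j (g * h)).left = (actO H j h).left ≫ (actO H j g).left
    rw [actO_mul]
    rfl

theorem isQuot_actHom (hj : IsOpenImmersion j.left) : SGA1.IsQuot (actHom H j) (pullback.fst j π).left := by
  have h2 : IsPullback (pullback.fst j π).left (pullback.snd j π).left j.left π.left :=
    (IsPullback.of_hasPullback j π).map (Over.forget S)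
  refine K467.QuotFlat.isQuot_of_flat_baseChange H.quot (qY := j.left) (pX := (pullback.snd j π).left)
    h2.flip (fun g => ?_) (fun g => ?_)
  · exact congrArg (fun q => q.left) (actO_snd H j g)
  · exact congrArg (fun q => q.left) (actO_fst H j g)

end base

/-- `GPres` implies `Pres`. -/
theorem GPres.pres (hF : PreLaws F P) (H : GPres F P M' M ζ π ρ)
    (hP : ∀ {T T' : Over S} (j : T' ⟶ T), IsOpenImmersion j.left → P T → P T') : Pres F P M' M ζ π where
  dom := H.dom
  ok := H.ok
  cov T x hT hx := by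
    obtain ⟨W, w, b, h1, -, h2⟩ := H.cov T x hT hx
    exact ⟨W, w, b, h1, h2⟩
  inv := H.pi_inv
  openP O j hj := by
    have h2 : IsPullback (pullback.fst j π).left (pullback.snd j π).left j.left π.left :=
      (IsPullback.of_hasPullback j π).map (Over.forget S)
    exact hP (pullback.snd j π) (MorphismProperty.of_isPullback h2 hj) H.dom
  cat O j hj N h hh := by
    have h2 : IsPullback (pullback.fst j π).left (pullback.snd j π).left j.left π.left :=
      (IsPullback.of_hasPullback j π).map (Over.forget S)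
    have hjq : IsOpenImmersion (pullback.snd j π).left := MorphismProperty.of_isPullback h2 hj
    have hO : P (pullback j π) := hP (pullback.snd j π) hjq H.dom
    have hq := isQuot_actHom H j hj
    have hinv : ∀ g : G, (actHom H j g).hom ≫ h.left = h.left := by
      intro g
      have h3 := hh (pullback j π) (actO H j g) (𝟙 _) hO (by
        rw [Category.id_comp, actO_snd]
        refine hF.trans _ _ (F.pull (pullback.snd j π) (F.pull (Over.homMk (ρ g).hom (H.act g)) ζ)) _ hO
          (hF.pull_ok _ _ H.dom hO H.ok) (hF.pull_ok _ _ H.dom hO (hF.pull_ok _ _ H.dom H.dom H.ok))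
          (hF.pull_ok _ _ H.dom hO H.ok) (hF.pull_comp _ _ ζ H.dom H.dom hO H.ok) ?_
        exact hF.pull_r _ _ _ H.dom hO (hF.pull_ok _ _ H.dom H.dom H.ok) H.ok (H.inv g))
      rw [Category.id_comp] at h3
      exact congrArg (fun q => q.left) h3
    obtain ⟨a, ha, hau⟩ := Groth.Agent.S2925.result _ _ hq N.left h.left hinv
    have haS : a ≫ N.hom = O.hom := by
      obtain ⟨c, -, hc⟩ := Groth.Agent.S2925.result _ _ hq S (pullback j π).hom (fun g => Over.w (actO H j g))
      rw [hc (a ≫ N.hom) (by dsimp only; rw [← Category.assoc, ha, Over.w]), hc O.hom (Over.w _)]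
    refine ⟨Over.homMk a haS, ?_, fun b hb => ?_⟩
    · ext1
      exact ha
    · ext1
      exact hau b.left (by
        dsimp only
        rw [← Over.comp_left, hb])
  geomSurj Ω _ _ t ht g := by
    have := H.ft
    have : Surjective π.left := ⟨Groth.Agent.Sga1.QuotBasic.surjective_of_isQuot H.quot⟩
    obtain ⟨b, hb⟩ := exists_lift π.left g.left
    refine ⟨Over.homMk b ?_, ?_⟩
    · rw [← Over.w π, ← Category.assoc, hb]
      exact Over.w g
    · ext1
      exact hb
  geomInj Ω _ _ t ht b b' hbb := by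
    have h1 : b.left ≫ π.left = b'.left ≫ π.left := congrArg (fun q => q.left) hbb
    obtain ⟨g, hg⟩ := Groth.Agent.Sga1.Transit.exists_comp_eq H.quot b.left b'.left h1
    have h2 : b = b' ≫ Over.homMk (ρ g).hom (H.act g) := by
      ext1
      exact hg
    rw [h2]
    refine hF.trans _ _ (F.pull b' (F.pull (Over.homMk (ρ g).hom (H.act g)) ζ)) _ ht
      (hF.pull_ok _ _ H.dom ht H.ok) (hF.pull_ok _ _ H.dom ht (hF.pull_ok _ _ H.dom H.dom H.ok))
      (hF.pull_ok _ _ H.dom ht H.ok) (hF.pull_comp _ _ ζ H.dom H.dom ht H.ok) ?_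
    exact hF.pull_r _ _ _ H.dom ht (hF.pull_ok _ _ H.dom H.dom H.ok) H.ok (H.inv g)
  geomFam Ω _ _ t ht x hx := by
    obtain ⟨W, w, b, h1, h2, h3⟩ := H.cov _ x ht hx
    have := h1.surj
    obtain ⟨s, hs⟩ := exists_lift w.left (𝟙 (Spec (CommRingCat.of Ω)))
    let s' : Over.mk t ⟶ W := Over.homMk s (by
      rw [← Over.w w, ← Category.assoc, hs]
      exact Category.id_comp _)
    have hs' : s' ≫ w = 𝟙 _ := by
      ext1
      exact hs
    refine ⟨s' ≫ b, ?_⟩
    have okb := hF.pull_ok b ζ H.dom h1.dom H.ok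
    have okw := hF.pull_ok w x ht h1.dom hx
    refine hF.trans _ _ (F.pull s' (F.pull b ζ)) _ ht (hF.pull_ok _ _ H.dom ht H.ok) (hF.pull_ok s' _ h1.dom ht okb) hx
      (hF.pull_comp b s' ζ H.dom h1.dom ht H.ok) ?_
    refine hF.trans _ _ (F.pull s' (F.pull w x)) _ ht (hF.pull_ok s' _ h1.dom ht okb) (hF.pull_ok s' _ h1.dom ht okw) hx
      (hF.pull_r s' _ _ h1.dom ht okb okw h3) ?_
    refine hF.trans _ _ (F.pull (s' ≫ w) x) _ ht (hF.pull_ok s' _ h1.dom ht okw) (hF.pull_ok _ _ ht ht hx) hx
      (hF.symm _ _ _ ht (hF.pull_ok _ _ ht ht hx) (hF.pull_ok s' _ h1.dom ht okw) (hF.pull_comp w s' x ht h1.dom ht hx)) ?_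
    rw [hs']
    exact hF.pull_id _ x ht hx

end K691.GPres
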