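import Groth.Agent.AgPol.K515.FrameLevel
import Mathlib.Data.ZMod.Basic
import Mathlib.Algebra.Module.Equiv.Basic
import Mathlib.Algebra.Module.Submodule.Equiv
import Mathlib.Algebra.Group.Pi.Basic

/-!
# Level structures: pure group theory

* `hm s`: the homomorphism `(ℤ/N)^r → H` given by a family `s` of elements killed by `N`;
* `tw γ s`: the family `s` changed by the automorphism `γ` of `(ℤ/N)^r`;
* `IsBas H N s`: `s` generates the `N`-torsion of `H`, which has `N ^ r` elements;
* `isBas_pow`: `q`-th powers of a basis of the `n q`-torsion form a basis of the `n`-torsion;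
* `exists_tw`: two bases of the `N`-torsion differ by an automorphism.
-/

set_option autoImplicit false

universe u v

namespace K691.LevGp

variable {r N : ℕ}

/-- The automorphisms of `(ℤ/N)^r`. -/
abbrev GLZ (r N : ℕ) := (Fin r → ZMod N) ≃ₗ[ℤ] (Fin r → ZMod N)

/-- The family `s` changed by the automorphism `γ` of `(ℤ/N)^r`. -/
def tw {H : Type*} [Monoid H] (γ : GLZ r N) (s : Fin r → H) : Fin r → H :=
  fun i => (List.ofFn fun j => s j ^ (γ (Pi.single i 1) j).val).prod

theorem map_tw {H H' : Type*} [Monoid H] [Monoid H'] (f : H →* H') (γ : GLZ r N) (s : Fin r → H)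
    (i : Fin r) : f (tw γ s i) = tw γ (fun j => f (s j)) i := by
  unfold tw
  rw [map_list_prod, List.map_ofFn]
  congr 2
  funext j
  exact map_pow f _ _

section comm

variable {H : Type*} [CommGroup H]

theorem tw_eq (γ : GLZ r N) (s : Fin r → H) (i : Fin r) :
    tw γ s i = ∏ j, s j ^ (γ (Pi.single i 1) j).val := by
  rw [tw, List.prod_ofFn]

/-- The homomorphism `ℤ/N → H` given by an element killed by `N`. -/
def hm₁ (x : H) (hx : x ^ N = 1) : ZMod N →+ Additive H :=
  ZMod.lift N ⟨zmultiplesHom (Additive H) (Additive.ofMul x), by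
    change (N : ℤ) • Additive.ofMul x = 0
    rw [natCast_zsmul, ← ofMul_pow, hx, ofMul_one]⟩

theorem hm₁_cast (x : H) (hx : x ^ N = 1) (k : ℤ) : hm₁ x hx (k : ZMod N) = k • Additive.ofMul x := by
  unfold hm₁
  rw [ZMod.lift_coe]
  rfl

theorem hm₁_apply [NeZero N] (x : H) (hx : x ^ N = 1) (a : ZMod N) : hm₁ x hx a = Additive.ofMul (x ^ a.val) := by
  conv_lhs => rw [← ZMod.natCast_zmod_val a]
  rw [← Int.cast_natCast, hm₁_cast, natCast_zsmul, ofMul_pow]

/-- The homomorphism `(ℤ/N)^r → H` given by a family of elements killed by `N`. -/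
def hm (s : Fin r → H) (hs : ∀ i, s i ^ N = 1) : (Fin r → ZMod N) →+ Additive H :=
  ∑ i, (hm₁ (s i) (hs i)).comp (Pi.evalAddMonoidHom _ i)

theorem hm_apply (s : Fin r → H) (hs : ∀ i, s i ^ N = 1) (v : Fin r → ZMod N) :
    hm s hs v = ∑ i, hm₁ (s i) (hs i) (v i) := by
  unfold hm
  rw [AddMonoidHom.finsetSum_apply]
  rfl

theorem hm_apply' [NeZero N] (s : Fin r → H) (hs : ∀ i, s i ^ N = 1) (v : Fin r → ZMod N) :
    hm s hs v = Additive.ofMul (∏ i, s i ^ (v i).val) := by
  rw [hm_apply, ofMul_prod]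
  exact Finset.sum_congr rfl fun i _ => hm₁_apply _ _ _

theorem hm_single (s : Fin r → H) (hs : ∀ i, s i ^ N = 1) (i : Fin r) :
    hm s hs (Pi.single i 1) = Additive.ofMul (s i) := by
  rw [hm_apply, Finset.sum_eq_single i]
  · rw [Pi.single_eq_same]
    have := hm₁_cast (s i) (hs i) 1
    rwa [Int.cast_one, one_zsmul] at this
  · intro j _ hj
    rw [Pi.single_eq_of_ne hj, map_zero]
  · intro h
    exact absurd (Finset.mem_univ i) h

/-- Homomorphisms from `(ℤ/N)^r` agree when they agree on the basis. -/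
theorem hom_ext' {A : Type*} [AddCommGroup A] {f g : (Fin r → ZMod N) →+ A}
    (h : ∀ i, f (Pi.single i 1) = g (Pi.single i 1)) : f = g := by
  have h2 : ∀ (i : Fin r) (x : ZMod N), f (Pi.single i x) = g (Pi.single i x) := by
    intro i x
    obtain ⟨k, rfl⟩ := ZMod.intCast_surjective x
    have h3 : (Pi.single i (k : ZMod N) : Fin r → ZMod N) = k • Pi.single i 1 := by
      rw [← Pi.single_smul, zsmul_one]
    rw [h3, map_zsmul, map_zsmul, h i]
  ext i x
  exact h2 i _

theorem tw_eq_hm [NeZero N] (γ : GLZ r N) (s : Fin r → H) (hs : ∀ i, s i ^ N = 1) (i : Fin r) :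
    Additive.ofMul (tw γ s i) = hm s hs (γ (Pi.single i 1)) := by
  rw [tw_eq, hm_apply']

theorem hm_pow (s : Fin r → H) (hs : ∀ i, s i ^ N = 1) (v : Fin r → ZMod N) : (hm s hs v).toMul ^ N = 1 := by
  have h1 : N • hm s hs v = 0 := by
    rw [← map_nsmul]
    have : N • v = 0 := by
      ext i
      simp
    rw [this, map_zero]
  have := congrArg Additive.toMul h1
  rwa [toMul_nsmul, toMul_zero] at this

theorem tw_pow [NeZero N] (γ : GLZ r N) (s : Fin r → H) (hs : ∀ i, s i ^ N = 1) (i : Fin r) :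
    tw γ s i ^ N = 1 := by
  have := hm_pow s hs (γ (Pi.single i 1))
  rwa [← tw_eq_hm] at this

theorem hm_tw [NeZero N] (γ : GLZ r N) (s : Fin r → H) (hs : ∀ i, s i ^ N = 1) (v : Fin r → ZMod N) :
    hm (tw γ s) (tw_pow γ s hs) v = hm s hs (γ v) := by
  have : hm (tw γ s) (tw_pow γ s hs) = (hm s hs).comp γ.toAddEquiv.toAddMonoidHom := by
    apply hom_ext'
    intro i
    rw [hm_single, tw_eq_hm γ s hs i]
    rfl
  rw [this]
  rfl

theorem tw_tw [NeZero N] (γ δ : GLZ r N) (s : Fin r → H) (hs : ∀ i, s i ^ N = 1) :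
    tw δ (tw γ s) = tw (γ * δ) s := by
  funext i
  have h1 := tw_eq_hm δ (tw γ s) (tw_pow γ s hs) i
  rw [hm_tw γ s hs] at h1
  exact h1.trans (tw_eq_hm (γ * δ) s hs i).symm

theorem tw_one [NeZero N] (s : Fin r → H) (hs : ∀ i, s i ^ N = 1) : tw (1 : GLZ r N) s = s := by
  funext i
  have h1 : Additive.ofMul (tw (1 : GLZ r N) s i) = hm s hs (Pi.single i 1) := tw_eq_hm 1 s hs i
  rw [hm_single] at h1
  exact h1

/-- Automorphisms trivial modulo `n`. -/
theorem tw_pow_eq [NeZero N] {q : ℕ} (γ : GLZ r N) (hγ : ∀ v, q • γ v = q • v) (s : Fin r → H)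
    (hs : ∀ i, s i ^ N = 1) (i : Fin r) : tw γ s i ^ q = s i ^ q := by
  have h1 : Additive.ofMul (tw γ s i ^ q) = Additive.ofMul (s i ^ q) := by
    rw [ofMul_pow, tw_eq_hm γ s hs, ← map_nsmul, hγ, map_nsmul, hm_single, ofMul_pow]
  exact h1

theorem hm_mem (s : Fin r → H) (hs : ∀ i, s i ^ N = 1) [NeZero N] (v : Fin r → ZMod N) :
    (hm s hs v).toMul ∈ Subgroup.closure (Set.range s) := by
  have h1 : ∀ i, s i ^ (v i).val ∈ Subgroup.closure (Set.range s) := fun i =>
    Subgroup.pow_mem _ (Subgroup.subset_closure (Set.mem_range_self i)) _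
  have h2 : ∏ i, s i ^ (v i).val ∈ Subgroup.closure (Set.range s) := Subgroup.prod_mem _ fun i _ => h1 i
  rw [hm_apply']
  exact h2

/-- `s` generates the `N`-torsion of `H`, which has `N ^ r` elements. -/
def IsBas (N : ℕ) (s : Fin r → H) : Prop :=
  (∀ i, s i ^ N = 1) ∧ (Subgroup.closure (Set.range s) : Set H) = {x | x ^ N = 1} ∧
    Nat.card {x : H | x ^ N = 1} = N ^ r

theorem IsBas.exists_hm [NeZero N] {s : Fin r → H} (h : IsBas N s) {x : H} (hx : x ^ N = 1) :
    ∃ v, hm s h.1 v = Additive.ofMul x := by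
  have h1 : x ∈ Subgroup.closure (Set.range s) := by
    have : x ∈ (Subgroup.closure (Set.range s) : Set H) := by
      rw [h.2.1]
      exact hx
    exact this
  obtain ⟨a, ha⟩ := K515.FrameLevel.exists_prod (NeZero.one_le (n := N)) s h.1 h1
  refine ⟨fun i => ((a i : ℕ) : ZMod N), ?_⟩
  rw [hm_apply', ← ha]
  congr 1
  refine Finset.prod_congr rfl fun i _ => ?_
  rw [ZMod.val_natCast, Nat.mod_eq_of_lt (a i).2]

theorem IsBas.injective [NeZero N] {s : Fin r → H} (h : IsBas N s) : Function.Injective (hm s h.1) := by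
  let f : (Fin r → ZMod N) → {x : H | x ^ N = 1} := fun v => ⟨(hm s h.1 v).toMul, hm_pow s h.1 v⟩
  have hf : Function.Surjective f := by
    rintro ⟨x, hx⟩
    obtain ⟨v, hv⟩ := h.exists_hm hx
    exact ⟨v, Subtype.ext (congrArg Additive.toMul hv)⟩
  have hc : Nat.card (Fin r → ZMod N) = Nat.card {x : H | x ^ N = 1} := by
    rw [h.2.2, Nat.card_fun]
    simp
  have hbij : Function.Bijective f := by
    have : Finite {x : H | x ^ N = 1} := Finite.of_surjective f hf
    exact (Nat.bijective_iff_surjective_and_card f).2 ⟨hf, hc⟩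
  intro v w hvw
  refine hbij.1 (Subtype.ext ?_)
  exact congrArg Additive.toMul hvw

/-- A family of elements killed by `N` with injective `hm` in a group whose `N`-torsion has `N ^ r` elements. -/
theorem isBas_of_injective [NeZero N] {s : Fin r → H} (hs : ∀ i, s i ^ N = 1)
    (hinj : Function.Injective (hm s hs)) (hc : Nat.card {x : H | x ^ N = 1} = N ^ r) : IsBas N s := by
  refine ⟨hs, ?_, hc⟩
  apply Set.Subset.antisymm
  · have h1 : Subgroup.closure (Set.range s) ≤ (powMonoidHom N : H →* H).ker := by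
      rw [Subgroup.closure_le]
      rintro _ ⟨i, rfl⟩
      exact hs i
    intro x hx
    exact h1 hx
  · let f : (Fin r → ZMod N) → {x : H | x ^ N = 1} := fun v => ⟨(hm s hs v).toMul, hm_pow s hs v⟩
    have hf : Function.Injective f := fun v w hvw => hinj (congrArg (fun z => Additive.ofMul z.1) hvw)
    have hc' : Nat.card (Fin r → ZMod N) = Nat.card {x : H | x ^ N = 1} := by
      rw [hc, Nat.card_fun]
      simp
    have hfin : Finite {x : H | x ^ N = 1} := by
      apply Nat.finite_of_card_ne_zero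
      rw [hc]
      exact pow_ne_zero _ (NeZero.ne N)
    have hbij : Function.Bijective f := (Nat.bijective_iff_injective_and_card f).2 ⟨hf, hc'⟩
    intro x hx
    obtain ⟨v, hv⟩ := hbij.2 ⟨x, hx⟩
    have : x = (hm s hs v).toMul := (congrArg Subtype.val hv).symm
    rw [this]
    exact hm_mem s hs v

theorem IsBas.tw [NeZero N] {s : Fin r → H} (h : IsBas N s) (γ : GLZ r N) :
    IsBas N (tw γ s) := by
  refine isBas_of_injective (tw_pow γ s h.1) ?_ h.2.2
  intro v w hvw
  rw [hm_tw γ s h.1, hm_tw γ s h.1] at hvw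
  exact γ.injective (h.injective hvw)

/-- Two bases of the `N`-torsion differ by an automorphism. -/
theorem exists_tw [NeZero N] {s s' : Fin r → H} (h : IsBas N s) (h' : IsBas N s') :
    ∃ γ : GLZ r N, s' = LevGp.tw γ s ∧ ∀ q : ℕ, (∀ i, s i ^ q = s' i ^ q) → ∀ v, q • γ v = q • v := by
  have hx : ∀ v, ∃ w, hm s h.1 w = hm s' h'.1 v := fun v => by
    obtain ⟨w, hw⟩ := h.exists_hm (hm_pow s' h'.1 v)
    exact ⟨w, hw⟩
  choose f hf using hx
  have hadd : ∀ v w, f (v + w) = f v + f w := fun v w => h.injective (by rw [map_add, hf, hf, hf, map_add])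
  let F : (Fin r → ZMod N) →+ (Fin r → ZMod N) := AddMonoidHom.mk' f hadd
  have hinj : Function.Injective F := by
    intro v w hvw
    apply h'.injective
    rw [← hf v, ← hf w]
    exact congrArg _ hvw
  have hbij : Function.Bijective F := Finite.injective_iff_bijective.1 hinj
  let γ : GLZ r N := (AddEquiv.ofBijective F hbij).toIntLinearEquiv
  have hγ : ∀ v, hm s h.1 (γ v) = hm s' h'.1 v := hf
  refine ⟨γ, ?_, ?_⟩
  · funext i
    have h1 := tw_eq_hm γ s h.1 i
    rw [hγ, hm_single] at h1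
    exact (congrArg Additive.toMul h1).symm
  · intro q hq v
    apply h.injective
    rw [map_nsmul, map_nsmul, hγ]
    have h2 : (q • hm s' h'.1 : (Fin r → ZMod N) →+ Additive H) = q • hm s h.1 := by
      apply hom_ext'
      intro i
      change q • hm s' h'.1 (Pi.single i 1) = q • hm s h.1 (Pi.single i 1)
      rw [hm_single, hm_single, ← ofMul_pow, ← ofMul_pow, hq]
    exact congrArg (fun f : (Fin r → ZMod N) →+ Additive H => f v) h2

theorem exists_smul {n q : ℕ} (hn : 1 ≤ n) [NeZero (n * q)] (a : ZMod (n * q)) (h : n • a = 0) :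
    ∃ b : ZMod (n * q), a = q • b := by
  have h1 : ((n * a.val : ℕ) : ZMod (n * q)) = 0 := by
    rw [Nat.cast_mul, ZMod.natCast_zmod_val, ← nsmul_eq_mul, h]
  rw [ZMod.natCast_eq_zero_iff] at h1
  obtain ⟨c, hc⟩ := (Nat.mul_dvd_mul_iff_left (by omega)).1 h1
  refine ⟨(c : ZMod (n * q)), ?_⟩
  rw [nsmul_eq_mul, ← Nat.cast_mul, ← hc, ZMod.natCast_zmod_val]

/-- `q`-th powers of a basis of the `n q`-torsion form a basis of the `n`-torsion. -/
theorem IsBas.pow {n q : ℕ} (hn : 1 ≤ n) (hq : 1 ≤ q) {s : Fin r → H} (h : IsBas (n * q) s) :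
    IsBas n (fun i => s i ^ q) := by
  have hn0 : NeZero n := ⟨by omega⟩
  have hN0 : NeZero (n * q) := ⟨Nat.mul_ne_zero (by omega) (by omega)⟩
  have hs : ∀ i, (s i ^ q) ^ n = 1 := fun i => by rw [← pow_mul, mul_comm, h.1]
  -- multiplication by `q` from `(ℤ/n)^r` to `(ℤ/nq)^r`
  have key : ∀ v : Fin r → ZMod n, hm (fun i => s i ^ q) hs v =
      hm s h.1 (fun i => (((v i).val * q : ℕ) : ZMod (n * q))) := by
    intro v
    rw [hm_apply', hm_apply']
    congr 1
    refine Finset.prod_congr rfl fun i _ => ?_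
    rw [← pow_mul, mul_comm q, ZMod.val_natCast, Nat.mod_eq_of_lt]
    exact Nat.mul_lt_mul_of_pos_right (ZMod.val_lt _) (by omega)
  have inj : Function.Injective (hm (fun i => s i ^ q) hs) := by
    intro v w hvw
    rw [key, key] at hvw
    have h1 := h.injective hvw
    funext i
    have h2 := congrFun h1 i
    have h3 : (v i).val * q = (w i).val * q := by
      have h4 := congrArg ZMod.val h2
      simp only [ZMod.val_natCast] at h4
      rwa [Nat.mod_eq_of_lt (Nat.mul_lt_mul_of_pos_right (ZMod.val_lt _) (by omega)),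
        Nat.mod_eq_of_lt (Nat.mul_lt_mul_of_pos_right (ZMod.val_lt _) (by omega))] at h4
    exact ZMod.val_injective n (Nat.eq_of_mul_eq_mul_right (by omega) h3)
  -- every element killed by `n` is in the image
  have surj : ∀ x : H, x ^ n = 1 → ∃ v, hm (fun i => s i ^ q) hs v = Additive.ofMul x := by
    intro x hx
    obtain ⟨w, hw⟩ := h.exists_hm (x := x) (by rw [pow_mul, hx, one_pow])
    have h1 : n • w = 0 := h.injective (by
      rw [map_nsmul, hw, map_zero, ← ofMul_pow, hx, ofMul_one])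
    have h2 : ∀ i, ∃ b : ZMod (n * q), w i = q • b := fun i => exists_smul hn (w i) (congrFun h1 i)
    choose b hb using h2
    refine ⟨fun i => ((b i).val : ZMod n), ?_⟩
    rw [key, ← hw]
    congr 1
    funext i
    rw [hb, ZMod.val_natCast, nsmul_eq_mul, ← ZMod.natCast_zmod_val (b i), ← Nat.cast_mul, ZMod.val_natCast,
      Nat.mod_eq_of_lt (ZMod.val_lt (b i)), ZMod.natCast_eq_natCast_iff, Nat.mul_comm q]
    exact Nat.ModEq.mul_right' q (Nat.mod_modEq _ _)
  let f : (Fin r → ZMod n) → {x : H | x ^ n = 1} := fun v => ⟨(hm (fun i => s i ^ q) hs v).toMul, hm_pow _ hs v⟩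
  have hf : Function.Bijective f := by
    refine ⟨fun v w hvw => inj (congrArg (fun z => Additive.ofMul z.1) hvw), ?_⟩
    rintro ⟨x, hx⟩
    obtain ⟨v, hv⟩ := surj x hx
    exact ⟨v, Subtype.ext (congrArg Additive.toMul hv)⟩
  refine isBas_of_injective hs inj ?_
  rw [← Nat.card_congr (Equiv.ofBijective f hf), Nat.card_fun]
  simp

end comm

end K691.LevGp
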