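import Groth.Agent.AgPol.K691.LevGp
import Groth.Agent.AgPol.K117.Nodes
import Groth.Agent.AgPol.K438.Level
import Groth.Agent.AgPol.K533.PolBC
import Groth.Agent.AgPol.K814.ExactOrder
import Groth.Agent.AbVar.K513.Tors2

/-!
# Sections and level structures

* `preHom`, `psHom`: precomposition and pull-back of sections as homomorphisms;
* `isLevelStr_iff`: level structures are bases of the torsion at the geometric points;
* `isLevelStr_pow`, `isLevelStr_tw`, `isLevelStr_comp`: powers, twists, transport of level structures;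
* `exists_one_near`: a torsion section trivial at a geometric point is trivial nearby;
* `isUnit_of_level`: a level-`n` structure forces `n` to be invertible.
-/

set_option autoImplicit false

universe u

open CategoryTheory Limits MonoidalCategory CartesianMonoidalCategory AlgebraicGeometry
open scoped MonObj

namespace K691.LevSec

open K691.LevGp K533.PolBC K732.BC

noncomputable section

/-- Precomposition. -/
def preHom {S : Scheme.{u}} {A B : Over S} (X : Over S) [GrpObj X] (f : A ⟶ B) : (B ⟶ X) →* (A ⟶ X) where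
  toFun s := f ≫ s
  map_one' := MonObj.comp_one f
  map_mul' a b := MonObj.comp_mul f a b

/-- Pull-back of sections. -/
def psHom {S S' : Scheme.{u}} (k : S' ⟶ S) (X : Over S) [GrpObj X] :
    (𝟙_ (Over S) ⟶ X) →* (𝟙_ (Over S') ⟶ Red.bc k X) where
  toFun s := AgPol.Fam.pullSec (T := Over.mk (𝟙 S)) (T' := Over.mk k) k s
  map_one' := by
    rw [pullSec_eq, MonObj.comp_one]
    exact up_one
  map_mul' a b := by
    rw [pullSec_eq, pullSec_eq, pullSec_eq, MonObj.comp_mul]
    exact up_mul _ _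

theorem psHom_apply {S S' : Scheme.{u}} (k : S' ⟶ S) (X : Over S) [GrpObj X] (s : 𝟙_ (Over S) ⟶ X) :
    psHom k X s = AgPol.Fam.pullSec (T := Over.mk (𝟙 S)) (T' := Over.mk k) k s := rfl

/-- A section trivial on `S'` has trivial pull-back. -/
theorem psHom_eq_one {S S' : Scheme.{u}} (k : S' ⟶ S) (X : Over S) [GrpObj X] (s : 𝟙_ (Over S) ⟶ X)
    (h : toUnit (Over.mk k) ≫ s = 1) : psHom k X s = 1 := by
  rw [psHom_apply, pullSec_eq]
  let c : dn k (𝟙_ (Over S')) ⟶ Over.mk k := Over.homMk (𝟙 _) (by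
    change 𝟙 _ ≫ k = 𝟙 _ ≫ k
    rfl)
  have h1 : toUnit (dn k (𝟙_ (Over S'))) = c ≫ toUnit (Over.mk k) := toUnit_unique _ _
  rw [h1, Category.assoc, h, MonObj.comp_one]
  exact up_one

section level

variable {S : Scheme.{u}} {X : Over S} [GrpObj X] [IsCommMonObj X] {g n : ℕ}

theorem isLevelStr_iff (σ : Fin (2 * g) → (𝟙_ (Over S) ⟶ X)) : AgPol.IsLevelStr X g n σ ↔ (∀ i, σ i ^ n = 1) ∧
    ∀ (Ω : Type u) [Field Ω] [IsAlgClosed Ω] (t : Spec (CommRingCat.of Ω) ⟶ S),
      IsBas n (fun i => toUnit (Over.mk t) ≫ σ i) := by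
  refine ⟨fun h => ⟨h.1, fun Ω _ _ t => ⟨fun i => ?_, (h.2 Ω t).1, (h.2 Ω t).2⟩⟩,
    fun h => ⟨h.1, fun Ω _ _ t => ⟨(h.2 Ω t).2.1, (h.2 Ω t).2.2⟩⟩⟩
  rw [← MonObj.comp_pow, h.1, MonObj.comp_one]

/-- Powers of level structures. -/
theorem isLevelStr_pow {q : ℕ} (hn : 1 ≤ n) (hq : 1 ≤ q) (σ : Fin (2 * g) → (𝟙_ (Over S) ⟶ X))
    (h : AgPol.IsLevelStr X g (n * q) σ) : AgPol.IsLevelStr X g n (fun i => σ i ^ q) := by
  rw [isLevelStr_iff] at h ⊢
  refine ⟨fun i => by rw [← pow_mul, mul_comm, h.1], fun Ω _ _ t => ?_⟩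
  have h1 := (h.2 Ω t).pow hn hq
  have e : (fun i => toUnit (Over.mk t) ≫ σ i ^ q) = fun i => (toUnit (Over.mk t) ≫ σ i) ^ q := by
    funext i
    rw [MonObj.comp_pow]
  rw [e]
  exact h1

/-- Twists of level structures. -/
theorem isLevelStr_tw [NeZero n] (γ : GLZ (2 * g) n) (σ : Fin (2 * g) → (𝟙_ (Over S) ⟶ X))
    (h : AgPol.IsLevelStr X g n σ) : AgPol.IsLevelStr X g n (tw γ σ) := by
  rw [isLevelStr_iff] at h ⊢
  refine ⟨fun i => tw_pow γ σ h.1 i, fun Ω _ _ t => ?_⟩
  have h1 := (h.2 Ω t).tw γ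
  have e : (fun i => toUnit (Over.mk t) ≫ tw γ σ i) = tw γ (fun i => toUnit (Over.mk t) ≫ σ i) := by
    funext i
    exact map_tw (preHom X (toUnit (Over.mk t))) γ σ i
  rw [e]
  exact h1

end level

section transport

variable {H H' : Type u} [CommGroup H] [CommGroup H'] {r N : ℕ}

theorem IsBas.comp_equiv (e : H ≃* H') {s : Fin r → H} (h : IsBas N s) : IsBas N (fun i => e (s i)) := by
  refine ⟨fun i => by rw [← map_pow, h.1, map_one], ?_, ?_⟩
  · have h1 : Set.range (fun i => e (s i)) = e.toMonoidHom '' Set.range s := by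
      rw [← Set.range_comp]
      rfl
    rw [h1, ← MonoidHom.map_closure, Subgroup.coe_map, h.2.1]
    ext x
    constructor
    · rintro ⟨y, hy, rfl⟩
      change (e y) ^ N = 1
      rw [← map_pow, show y ^ N = 1 from hy, map_one]
    · intro hx
      refine ⟨e.symm x, ?_, e.apply_symm_apply x⟩
      change (e.symm x) ^ N = 1
      rw [← map_pow, show x ^ N = 1 from hx, map_one]
  · rw [← h.2.2]
    refine Nat.card_congr ((Equiv.subtypeEquiv e.toEquiv fun x => ?_).symm)
    change x ^ N = 1 ↔ (e x) ^ N = 1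
    rw [← map_pow, map_eq_one_iff _ e.injective]

/-- The isomorphism on points given by an isomorphism of group schemes. -/
def ptsEquiv {S : Scheme.{u}} {X Y : Over S} [GrpObj X] [GrpObj Y] (e : X ≅ Y) [IsMonHom e.hom] (T : Over S) :
    (T ⟶ X) ≃* (T ⟶ Y) where
  toFun s := s ≫ e.hom
  invFun s := s ≫ e.inv
  left_inv s := by
    change (s ≫ e.hom) ≫ e.inv = s
    rw [Category.assoc, e.hom_inv_id, Category.comp_id]
  right_inv s := by
    change (s ≫ e.inv) ≫ e.hom = s
    rw [Category.assoc, e.inv_hom_id, Category.comp_id]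
  map_mul' a b := MonObj.mul_comp a b e.hom

/-- Transport of level structures. -/
theorem isLevelStr_comp {S : Scheme.{u}} {X Y : Over S} [GrpObj X] [GrpObj Y] [IsCommMonObj X] [IsCommMonObj Y]
    {g n : ℕ} (e : X ≅ Y) [IsMonHom e.hom] (σ : Fin (2 * g) → (𝟙_ (Over S) ⟶ X)) (h : AgPol.IsLevelStr X g n σ) :
    AgPol.IsLevelStr Y g n (fun i => σ i ≫ e.hom) := by
  rw [isLevelStr_iff] at h ⊢
  refine ⟨fun i => ?_, fun Ω _ _ t => ?_⟩
  · rw [← MonObj.pow_comp, h.1, MonObj.one_comp]
  · have h1 := IsBas.comp_equiv (ptsEquiv e (Over.mk t)) (h.2 Ω t)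
    have e1 : (fun i => ptsEquiv e (Over.mk t) (toUnit (Over.mk t) ≫ σ i)) =
        fun i => toUnit (Over.mk t) ≫ σ i ≫ e.hom := by
      funext i
      exact Category.assoc (toUnit (Over.mk t)) (σ i) e.hom
    rw [← e1]
    exact h1

end transport

section near

variable {S : Scheme.{u}} (X : Over S) [GrpObj X] [Smooth X.hom] [IsProper X.hom] [GeometricallyConnected X.hom]

/-- A torsion section trivial at a point is trivial nearby. -/
theorem exists_one_near {N : ℕ} (hN : IsUnit (N : Γ(S, ⊤))) (s : 𝟙_ (Over S) ⟶ X) (hs : s ^ N = 1)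
    {Ω : Type u} [Field Ω] (t : Spec (CommRingCat.of Ω) ⟶ S) (ht : toUnit (Over.mk t) ≫ s = 1) :
    ∃ U : S.Opens, Set.range t ⊆ U ∧ ∀ (T : Over S), Set.range T.hom ⊆ U → toUnit T ≫ s = 1 := by
  obtain ⟨y, hy⟩ := K814.ExactOrder.exists_lift X s hs
  obtain ⟨j, hj⟩ := K814.ExactOrder.exists_incl X (one_dvd N)
  have hjo : IsOpenImmersion j.left := (K814.ExactOrder.incl_props X (one_dvd N) hN j hj).1
  let U : S.Opens := y.left ⁻¹ᵁ j.left.opensRange
  refine ⟨U, ?_, fun T hT => ?_⟩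
  · rintro _ ⟨p, rfl⟩
    obtain ⟨z, hz⟩ := K814.ExactOrder.exists_lift X (toUnit (Over.mk t) ≫ s) (n := 1) (by rw [pow_one, ht])
    have h1 : z ≫ j = toUnit (Over.mk t) ≫ y := by
      rw [← cancel_mono (K814.ExactOrder.torsι X N), Category.assoc, hj, hz, Category.assoc, hy]
    have h2 : z.left ≫ j.left = t ≫ y.left := by
      have h3 := congrArg (fun q => q.left) h1
      have h4 : (toUnit (Over.mk t)).left = t := by
        simp
      simp only [Over.comp_left] at h3
      rw [h3, h4]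
    change y.left (t p) ∈ Set.range j.left
    rw [← Scheme.Hom.comp_apply, ← h2, Scheme.Hom.comp_apply]
    exact ⟨_, rfl⟩
  · have h4 : (toUnit T).left = T.hom := by
      simp
    have h1 : Set.range (toUnit T ≫ y).left ⊆ Set.range j.left := by
      rw [Over.comp_left, h4]
      rintro _ ⟨p, rfl⟩
      rw [Scheme.Hom.comp_apply]
      exact hT ⟨p, rfl⟩
    let z : T ⟶ K814.ExactOrder.tors X 1 := Over.homMk (IsOpenImmersion.lift j.left (toUnit T ≫ y).left h1) (by
      rw [← Over.w j, ← Category.assoc, IsOpenImmersion.lift_fac, Over.w])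
    have h2 : z ≫ j = toUnit T ≫ y := by
      ext1
      exact IsOpenImmersion.lift_fac _ _ _
    have h3 : toUnit T ≫ s = z ≫ K814.ExactOrder.torsι X 1 := by
      rw [← hy, ← Category.assoc, ← h2, Category.assoc, hj]
    have h5 := K814.ExactOrder.torsι_pow X 1
    rw [pow_one] at h5
    rw [h3, h5, MonObj.comp_one]

end near

section unit

theorem isUnit_of_geom {S : Scheme.{u}} (ν : ℕ)
    (hν : ∀ (Ω : Type u) [Field Ω] [IsAlgClosed Ω] (_ : Spec (CommRingCat.of Ω) ⟶ S), (ν : Ω) ≠ 0) :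
    IsUnit (ν : Γ(S, ⊤)) := by
  apply S.toRingedSpace.isUnit_of_isUnit_germ ⊤
  intro x hx
  have h1 : S.evaluation ⊤ x hx (ν : Γ(S, ⊤)) ≠ 0 := by
    rw [map_natCast]
    intro h
    refine hν (AlgebraicClosure (S.residueField x))
      (Spec.map (CommRingCat.ofHom (algebraMap (S.residueField x) (AlgebraicClosure (S.residueField x)))) ≫
        S.fromSpecResidueField x) ?_
    rw [← map_natCast (algebraMap (S.residueField x) (AlgebraicClosure (S.residueField x))), h, map_zero]
  rw [S.evaluation_ne_zero_iff_mem_basicOpen] at h1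
  exact (S.mem_basicOpen _ _ hx).1 h1

/-- A level-`n` structure forces `n` to be invertible. -/
theorem isUnit_of_level {S : Scheme.{u}} {X : Over S} [GrpObj X] [IsCommMonObj X] {g n : ℕ} (hg : 1 ≤ g)
    (hn : 1 ≤ n) (hX : AgPol.IsAbSch X g) (σ : Fin (2 * g) → (𝟙_ (Over S) ⟶ X)) (h : AgPol.IsLevelStr X g n σ) :
    IsUnit (n : Γ(S, ⊤)) := by
  refine isUnit_of_geom n fun Ω _ _ t => ?_
  have hB := K438.Level.isAbSch_bc hX t
  have := hB.smooth
  have := hB.proper
  have := hB.geomConnected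
  have hc : IsCommMonObj (Red.bc t X) := inferInstanceAs (IsCommMonObj ((Over.pullback t).obj X))
  have hgi := K513.Tors.geometricallyIntegral (Red.bc t X)
  refine (K513.Tors.main (Red.bc t X) g (K438.Level.krullDim_bc hX t) hg n hn).2.2.1 ?_
  rw [← (h.2 Ω t).2]
  let e := K521.BcTate.ptsEquiv t X
  symm
  refine Nat.card_congr (Equiv.subtypeEquiv e.toEquiv fun x => ?_)
  change x ^ n = 1 ↔ (e x) ^ n = 1
  rw [← map_pow, map_eq_one_iff _ e.injective]

end unit

end

end K691.LevSec
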