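import Groth.Agent.SDiv.K471.NormAmple
import Groth.Agent.Sga1.QuotBasic
import Groth.Agent.Grpsch.PicGrp
import Groth.Agent.AbSch.K451.Coc

/-!
# The norm of invertible modules along a quotient by a finite group

`π : X ⟶ Y` a quotient of `X` by a finite group `G`.

* `quotNorm`: the norm of functions, `π^♯ N(s) = ∏ g, g^* s`, of degree `|G|`.
* `exists_norm_pic`: the norm `M` of an invertible module `L` trivial on the preimages of a cover of `Y`;
  `π^* M = ∏ g, g^* L` in `Pic X`.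
* `exists_ample`: `π` finite, `L` ample on `X`, `G`-invariant in `Pic X`: there is an ample `M` on `Y` with
  `π^* M = L^m`, `m > 0`.
* `pow_card_eq_one`: a class of `Pic Y` trivial on `X` is killed by `|G|`.
-/

set_option autoImplicit false
universe u

open CategoryTheory AlgebraicGeometry TopologicalSpace Opposite

namespace K691.QNorm

open Groth.Agent.Fdesc.LocGen Groth.Agent.Flat2H.FamExt Groth.Agent.Flat2H.FamDict
open Groth.Agent.Divis.AmpleAvoid Groth.Agent.Divis.NormAmple Groth.Agent.Divis.NormSheaf Groth.Agent.Grpsch.PicGrp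
  Groth.Agent.Sga1.QuotBasic

noncomputable section

variable {X Y : Scheme.{u}} {π : X ⟶ Y} {G : Type u} [Group G] [Fintype G] {ρ : G →* Aut X}

/-- The product of the conjugates of a function. -/
def nmX (hinv : ∀ g : G, (ρ g).hom ≫ π = π) (V : Y.Opens) : Γ(X, π ⁻¹ᵁ V) →* Γ(X, π ⁻¹ᵁ V) where
  toFun s := ∏ g : G, (act ρ (stable_preimage hinv V) g).hom s
  map_one' := by simp
  map_mul' a b := by simp [Finset.prod_mul_distrib]

theorem nmX_apply (hinv : ∀ g : G, (ρ g).hom ≫ π = π) (V : Y.Opens) (s : Γ(X, π ⁻¹ᵁ V)) :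
    nmX hinv V s = ∏ g : G, (act ρ (stable_preimage hinv V) g).hom s := rfl

theorem act_nmX (hinv : ∀ g : G, (ρ g).hom ≫ π = π) (V : Y.Opens) (s : Γ(X, π ⁻¹ᵁ V)) (h : G) :
    (act ρ (stable_preimage hinv V) h).hom (nmX hinv V s) = nmX hinv V s := by
  rw [nmX_apply, map_prod]
  simp only [← act_mul_apply]
  exact Fintype.prod_equiv (Equiv.mulRight h) _ _ fun g => rfl

theorem nmX_res (hinv : ∀ g : G, (ρ g).hom ≫ π = π) {U V : Y.Opens} (h : V ≤ U) (s : Γ(X, π ⁻¹ᵁ U)) :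
    ores (U := π ⁻¹ᵁ U) (V := π ⁻¹ᵁ V) (fun _ hx ↦ h hx) (nmX hinv U s) =
      nmX hinv V (ores (U := π ⁻¹ᵁ U) (V := π ⁻¹ᵁ V) (fun _ hx ↦ h hx) s) := by
  rw [nmX_apply, nmX_apply, map_prod]
  exact Finset.prod_congr rfl fun g _ => act_res_apply (stable_preimage hinv U) (stable_preimage hinv V)
    (fun _ hx ↦ h hx) g s

variable (hq : SGA1.IsQuot ρ π)

theorem exists_norm (V : Y.Opens) (s : Γ(X, π ⁻¹ᵁ V)) :
    ∃ t : Γ(Y, V), (π.app V).hom t = nmX hq.inv V s :=
  (quotOn_of_isQuot hq V).surj _ fun g => act_nmX hq.inv V s g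

/-- The norm of functions. -/
def nm (V : Y.Opens) (s : Γ(X, π ⁻¹ᵁ V)) : Γ(Y, V) := (exists_norm hq V s).choose

theorem app_nm (V : Y.Opens) (s : Γ(X, π ⁻¹ᵁ V)) : (π.app V).hom (nm hq V s) = nmX hq.inv V s :=
  (exists_norm hq V s).choose_spec

/-- The norm of degree `|G|` of a quotient by a finite group. -/
def quotNorm : Nrm.NormOfDegree π (Fintype.card G) where
  one_le := Fintype.card_pos
  norm V :=
    { toFun := nm hq V
      map_one' := hq.injective V (by rw [app_nm, map_one, map_one])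
      map_mul' := fun a b => hq.injective V (by rw [app_nm, map_mul, map_mul, app_nm, app_nm]) }
  norm_res {U V} i s := by
    apply hq.injective V
    change (π.app V).hom (ores i.le (nm hq U s)) = (π.app V).hom (nm hq V _)
    rw [app_nm]
    have h1 : (π.app V).hom (ores i.le (nm hq U s)) =
        ores (V := π ⁻¹ᵁ V) (fun _ hx ↦ i.le hx) ((π.app U).hom (nm hq U s)) := by
      exact congrArg (fun f => f.hom (nm hq U s)) (π.naturality i.op)
    rw [h1, app_nm, nmX_res]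
    rfl
  norm_app V t := by
    apply hq.injective V
    change (π.app V).hom (nm hq V _) = _
    rw [app_nm, nmX_apply, map_pow]
    rw [Finset.prod_congr rfl fun g _ => act_app_apply hq.inv V g t, Finset.prod_const]
    rfl
  norm_mem V s x hx h := by
    rw [IsLocalRing.mem_maximalIdeal, mem_nonunits_iff] at h ⊢
    intro hu
    apply h
    have h1 := hu.map (π.stalkMap x).hom
    have h2 : (π.stalkMap x).hom (Y.presheaf.germ V (π x) hx (nm hq V s)) =
        X.presheaf.germ (π ⁻¹ᵁ V) x hx (nmX hq.inv V s) := by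
      rw [← app_nm hq V s]
      exact congrArg (fun f => f.hom (nm hq V s)) (π.germ_stalkMap V x hx)
    have h3 : IsUnit (X.presheaf.germ (π ⁻¹ᵁ V) x hx (nmX hq.inv V s)) := by
      rw [← h2]
      exact h1
    classical
    rw [nmX_apply, ← Finset.mul_prod_erase Finset.univ _ (Finset.mem_univ (1 : G)), act_one_apply, map_mul] at h3
    exact isUnit_of_mul_isUnit_left h3

theorem app_norm (V : Y.Opens) (s : Γ(X, π ⁻¹ᵁ V)) :
    (π.app V).hom ((quotNorm hq).norm V s) = ∏ g : G, (act ρ (stable_preimage hq.inv V) g).hom s := app_nm hq V s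

/-! ### Cocycles of classes -/

section coc

variable {Z : Scheme.{u}} {ι : Type*} {W : ι → Z.Opens}

/-- The class `c` has the transition functions `t` on the cover `W`. -/
def Coc (W : ι → Z.Opens) (c : Pic Z) (t : ∀ i j, Γ(Z, W i ⊓ W j)) : Prop :=
  ∃ (L : Z.Modules) (hL : PicF.IsInvertible L), c = mk L hL ∧ Trivs L W t

theorem Coc.congr {c : Pic Z} {t t' : ∀ i j, Γ(Z, W i ⊓ W j)} (h : Coc W c t) (e : ∀ i j, t i j = t' i j) :
    Coc W c t' := by
  have : t = t' := by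
    funext i j
    exact e i j
  exact this ▸ h

theorem coc_of_trivs {L : Z.Modules} (hL : PicF.IsInvertible L) {t : ∀ i j, Γ(Z, W i ⊓ W j)} (h : Trivs L W t) :
    Coc W (mk L hL) t := ⟨L, hL, rfl, h⟩

theorem Coc.trivs {L : Z.Modules} {hL : PicF.IsInvertible L} {t : ∀ i j, Γ(Z, W i ⊓ W j)}
    (h : Coc W (mk L hL) t) : Trivs L W t := by
  obtain ⟨L', hL', e, h⟩ := h
  obtain ⟨e⟩ := (mk_eq_iff _ _).1 e.symm
  exact h.of_iso e

theorem Coc.mul {c c' : Pic Z} {t t' : ∀ i j, Γ(Z, W i ⊓ W j)} (h : Coc W c t) (h' : Coc W c' t') :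
    Coc W (c * c') (fun i j => t i j * t' i j) := by
  obtain ⟨L, hL, rfl, h⟩ := h
  obtain ⟨L', hL', rfl, h'⟩ := h'
  exact ⟨_, (h.tensorMod h').isInvertible, rfl, h.tensorMod h'⟩

theorem coc_one (hW : ∀ x : Z, ∃ i, x ∈ W i) : Coc W 1 (fun _ _ => 1) := by
  refine ⟨Coh.structureModule Z, isInvertible_structureModule, rfl, hW, fun i => one (W i), fun i => isGen_one _,
    fun i j => ?_⟩
  rw [one_smul, res_one, res_one]

theorem Coc.pow {c : Pic Z} {t : ∀ i j, Γ(Z, W i ⊓ W j)} (h : Coc W c t) (n : ℕ) :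
    Coc W (c ^ n) (fun i j => t i j ^ n) := by
  obtain ⟨L, hL, rfl, h⟩ := h
  exact ⟨_, (h.tensorPow n).isInvertible, (mk_tensorPow hL n).symm, h.tensorPow n⟩

theorem Coc.prod {κ : Type*} (s : Finset κ) {c : κ → Pic Z} {t : κ → ∀ i j, Γ(Z, W i ⊓ W j)}
    (hW : ∀ x : Z, ∃ i, x ∈ W i) (h : ∀ k ∈ s, Coc W (c k) (t k)) :
    Coc W (∏ k ∈ s, c k) (fun i j => ∏ k ∈ s, t k i j) := by
  classical
  induction s using Finset.induction_on with
  | empty => simpa using coc_one hW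
  | insert a s ha ih =>
    simp only [Finset.prod_insert ha]
    exact (h a (Finset.mem_insert_self _ _)).mul (ih fun k hk => h k (Finset.mem_insert_of_mem hk))

/-- The class is determined by its transition functions. -/
theorem Coc.eq {c c' : Pic Z} {t : ∀ i j, Γ(Z, W i ⊓ W j)} (h : Coc W c t) (h' : Coc W c' t) : c = c' := by
  obtain ⟨L, hL, rfl, h⟩ := h
  obtain ⟨L', hL', rfl, h'⟩ := h'
  have h1 : K451.Coc.IsCoc W (mk L hL) t := by
    obtain ⟨-, l, hl, ht⟩ := h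
    exact ⟨L, hL, l, rfl, hl, ht⟩
  have h2 : K451.Coc.IsCoc W (mk L' hL') t := by
    obtain ⟨-, l, hl, ht⟩ := h'
    exact ⟨L', hL', l, rfl, hl, ht⟩
  exact h1.eq h.1 h2

/-- Pull-back. -/
theorem Coc.pull {Z' : Scheme.{u}} {c : Pic Z} {t : ∀ i j, Γ(Z, W i ⊓ W j)} (h : Coc W c t) (f : Z' ⟶ Z) :
    Coc (fun i => f ⁻¹ᵁ W i) (pull f c) (fun i j => f.app (W i ⊓ W j) (t i j)) := by
  obtain ⟨L, hL, rfl, h⟩ := h
  exact ⟨_, (h.pullback f).isInvertible, pull_mk f hL, h.pullback f⟩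

/-- Refinement. -/
theorem Coc.refine' {c : Pic Z} {t : ∀ i j, Γ(Z, W i ⊓ W j)} (h : Coc W c t) {κ : Type*} (W' : κ → Z.Opens)
    (hW' : ∀ x : Z, ∃ k, x ∈ W' k) (f : κ → ι) (hf : ∀ k, W' k ≤ W (f k)) :
    Coc W' c (fun k l => ores (inf_le_inf (hf k) (hf l)) (t (f k) (f l))) := by
  obtain ⟨L, hL, rfl, h⟩ := h
  exact ⟨L, hL, rfl, h.refine' W' hW' f hf⟩

theorem Coc.cov {c : Pic Z} {t : ∀ i j, Γ(Z, W i ⊓ W j)} (h : Coc W c t) (x : Z) : ∃ i, x ∈ W i := by
  obtain ⟨L, hL, rfl, h⟩ := h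
  exact h.1 x

/-- A class whose transition functions are a coboundary is trivial. -/
theorem Coc.eq_one {c : Pic Z} {t : ∀ i j, Γ(Z, W i ⊓ W j)} (h : Coc W c t) (b : ∀ j, Γ(Z, W j))
    (hb : ∀ j, IsUnit (b j)) (hfam : IsFam W t b) : c = 1 := by
  obtain ⟨L, hL, rfl, h⟩ := h
  obtain ⟨s, hs⟩ := h.exists_sec b hfam
  have htop := h.iSup_eq
  have h1 : CohB1.genLocus L s = ⊤ := by
    rw [hs, ← htop]
    congr 1
    funext j
    exact Z.basicOpen_of_isUnit (hb j)
  have h2 : IsIso s := by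
    rw [isIso_iff_isGen]
    have h3 := isGen_sec_genLocus s
    rw [h1] at h3
    exact h3
  exact (mk_eq_one_iff hL).2 ⟨(asIso s).symm⟩

end coc

/-! ### The norm of classes -/

/-- The norm of a class trivial on the preimages of a cover. -/
theorem pull_norm {ι : Type u} {V : ι → Y.Opens} {c : Pic X}
    {g : ∀ i j, Γ(X, π ⁻¹ᵁ V i ⊓ π ⁻¹ᵁ V j)} (hL : Coc (fun i ↦ π ⁻¹ᵁ V i) c g) {m : Pic Y}
    (hM : Coc V m (fun i j ↦ (quotNorm hq).norm (V i ⊓ V j) (g i j))) :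
    pull π m = ∏ h : G, pull (ρ h).hom c := by
  have hW : ∀ x : X, ∃ i, x ∈ π ⁻¹ᵁ V i := hL.cov
  have h1 := hM.pull π
  have h2 : ∀ h : G, Coc (fun i ↦ π ⁻¹ᵁ V i) (pull (ρ h).hom c)
      (fun i j => (act ρ (stable_preimage hq.inv (V i ⊓ V j)) h).hom (g i j)) := fun h =>
    (hL.pull (ρ h).hom).refine' (fun i ↦ π ⁻¹ᵁ V i) hW id fun i => stable_preimage hq.inv (V i) h
  have h3 := Coc.prod Finset.univ hW fun h _ => h2 h
  exact (h1.congr fun i j => app_norm hq (V i ⊓ V j) (g i j)).eq h3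

include hq in
/-- The kernel of `Pic Y ⟶ Pic X` is killed by the order of the group. -/
theorem pow_card_eq_one {c : Pic Y} (hc : pull π c = 1) : c ^ Fintype.card G = 1 := by
  let N := quotNorm hq
  obtain ⟨L, hL, rfl⟩ := exists_mk c
  rw [pull_mk, mk_eq_one_iff] at hc
  obtain ⟨φ⟩ := hc
  have hL' := hL
  rw [isInvertible_iff] at hL'
  choose W e' hxW he' using hL'
  obtain ⟨g, hG⟩ := exists_trans W e' he'
  have hT : Trivs L W g := ⟨fun x => ⟨x, hxW x⟩, e', he', hG⟩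
  let s' : Γ((Scheme.Modules.pullback π).obj L, ⊤) := sec φ.inv ⊤
  have hs' : IsGen s' := (isIso_iff_isGen φ.inv).mp inferInstance
  have hb : ∀ x, ∃ b : Γ(X, π ⁻¹ᵁ W x), IsUnit b ∧
      res _ (le_top : π ⁻¹ᵁ W x ≤ ⊤) s' = b • pullSec π (e' x) := by
    intro x
    obtain ⟨b, hb1⟩ := ((he' x).pullSec π).exists_eq (res _ (le_top : π ⁻¹ᵁ W x ≤ ⊤) s')
    refine ⟨b, ?_, hb1⟩
    have h2 : IsGen (b • pullSec π (e' x)) := by rw [← hb1]; exact hs'.res _
    exact ((he' x).pullSec π).isUnit_of_smul h2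
  choose b hbu hb1 using hb
  have hfam : IsFam (fun x => π ⁻¹ᵁ W x) (fun x y => π.app (W x ⊓ W y) (g x y)) b := by
    intro x y
    have h3 : ores (fun _ hx => hx.1 : π ⁻¹ᵁ (W x ⊓ W y) ≤ π ⁻¹ᵁ W x) (b x) * π.app (W x ⊓ W y) (g x y) =
        ores (fun _ hx => hx.2 : π ⁻¹ᵁ (W x ⊓ W y) ≤ π ⁻¹ᵁ W y) (b y) := by
      refine (((he' y).pullSec π).res (fun _ hx => hx.2 : π ⁻¹ᵁ (W x ⊓ W y) ≤ π ⁻¹ᵁ W y)).ext ?_
      have h4 := congrArg (res _ (fun _ hx => hx.1 : π ⁻¹ᵁ (W x ⊓ W y) ≤ π ⁻¹ᵁ W x)) (hb1 x)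
      have h5 := congrArg (res _ (fun _ hx => hx.2 : π ⁻¹ᵁ (W x ⊓ W y) ≤ π ⁻¹ᵁ W y)) (hb1 y)
      rw [res_res, res_smul] at h4 h5
      have h6 := congrArg (pullSec π) (hG x y)
      rw [pullSec_smul, ← res_pullSec, ← res_pullSec] at h6
      exact (mul_smul _ _ _).trans ((congrArg _ h6.symm).trans (h4.symm.trans h5))
    exact h3
  have h7 := (coc_of_trivs hL hT).pow (Fintype.card G)
  refine h7.eq_one (fun x => N.norm (W x) (b x)) (fun x => (hbu x).map _) ?_
  have h8 := K471.NormAmple.isFam_norm N hfam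
  intro x y
  have h9 := h8 x y
  dsimp only at h9
  rw [N.norm_app] at h9
  exact h9

include hq in
/-- The norm of a power of an ample module is ample. -/
theorem exists_ample [IsFinite π] {L : X.Modules} (hL : CohB1.IsAmple L) :
    ∃ (k : ℕ) (M : Y.Modules) (hM : CohB1.IsAmple M), 0 < k ∧
      pull π (mk M hM.1) = ∏ h : G, pull (ρ h).hom (mk L hL.1 ^ k) := by
  let N := quotNorm hq
  have : Surjective π := K471.NormAmple.surjective_of_norm N
  obtain ⟨m', hN, m, V₀, g₀, hVa₀, hVne₀, hcov₀, htr₀⟩ := exists_trivs_preimage π hL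
  let V : ULift.{u} (Fin m) → Y.Opens := fun i ↦ V₀ i.down
  let g : ∀ i j, Γ(X, π ⁻¹ᵁ V i ⊓ π ⁻¹ᵁ V j) := fun i j ↦ g₀ i.down j.down
  have hcov : ∀ y, ∃ i, y ∈ V i := fun y ↦ by
    obtain ⟨i, hi⟩ := hcov₀ y
    exact ⟨⟨i⟩, hi⟩
  have htr : Trivs (CohB1.tensorPow L m') (fun i ↦ π ⁻¹ᵁ V i) g := by
    obtain ⟨-, e, he, he'⟩ := htr₀
    exact ⟨fun x ↦ hcov (π x), fun i ↦ e i.down, fun i ↦ he _, fun i j ↦ he' _ _⟩
  have hL' : CohB1.IsAmple (CohB1.tensorPow L m') := isAmple_tensorPow hL hN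
  have : QuasiSeparatedSpace X := quasiSeparatedSpace_of_isAmple hL
  have hcX : CompactSpace X := hL.2.1
  have hcY : CompactSpace Y := ⟨by
    rw [← π.surjective.range_eq, ← Set.image_univ]
    exact isCompact_univ.image π.continuous⟩
  obtain ⟨M, hM⟩ := K471.NormAmple.exists_norm N hcov htr
  have hMa : CohB1.IsAmple M := by
    refine hM.isAmple_iff.2 ⟨hcY, fun y ↦ ?_⟩
    obtain ⟨i, hi⟩ := hcov y
    obtain ⟨n, b, hb, hyb, hbi⟩ := exists_fam_finite htr (fun i ↦ (hVa₀ i.down).preimage π) hL' _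
      (π.finite_preimage_singleton y) (π ⁻¹ᵁ V i) (fun x hx ↦ by
        change π x ∈ V i
        rwa [show π x = y from hx])
    have hgu : ∀ i j, IsUnit (g i j ^ (n + 1)) := fun i j ↦ (htr.isUnit i j).pow _
    have h1 := K471.NormAmple.isFam_norm N hb
    have h2 := K471.NormAmple.locus_norm N hcov hgu hb
    have hy1 : y ∈ locus V (fun j ↦ N.norm (V j) (b j)) := by
      rw [h2, mem_core]
      exact fun x hx ↦ hyb x hx
    have hle : locus V (fun j ↦ N.norm (V j) (b j)) ≤ V i := by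
      rw [h2]
      exact core_le π hbi
    have heq : locus V (fun j ↦ N.norm (V j) (b j)) = Y.basicOpen (N.norm (V i) (b i)) := by
      apply le_antisymm
      · intro z hz
        exact (mem_locus_iff h1 (fun i j ↦ (hgu i j).map (N.norm (V i ⊓ V j))) (hle hz)).1 hz
      · exact basicOpen_le_locus (W := V) (fun j ↦ N.norm (V j) (b j)) i
    refine ⟨n, fun j ↦ N.norm (V j) (b j), IsFam.congr h1 (fun i j ↦ ?_), hy1, ?_⟩
    · exact map_pow _ _ _
    · change IsAffineOpen (locus V (fun j ↦ N.norm (V j) (b j)))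
      rw [heq]
      exact (hVa₀ i.down).basicOpen _
  refine ⟨m', M, hMa, hN, ?_⟩
  rw [← mk_tensorPow hL.1]
  exact pull_norm hq (coc_of_trivs htr.isInvertible htr) (coc_of_trivs hM.isInvertible hM)

include hq in
/-- **Descent of ampleness** along a quotient by a finite group for invariant classes. -/
theorem exists_ample_of_inv [IsFinite π] {L : X.Modules} (hL : CohB1.IsAmple L)
    (hinv : ∀ h : G, pull (ρ h).hom (mk L hL.1) = mk L hL.1) :
    ∃ (k : ℕ) (M : Y.Modules) (hM : CohB1.IsAmple M), 0 < k ∧ pull π (mk M hM.1) = mk L hL.1 ^ k := by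
  obtain ⟨k, M, hM, hk, h⟩ := exists_ample hq hL
  refine ⟨k * Fintype.card G, M, hM, Nat.mul_pos hk Fintype.card_pos, ?_⟩
  rw [h, Finset.prod_congr rfl fun h _ => (map_pow (pull (ρ h).hom) _ k).trans (by rw [hinv h]),
    Finset.prod_const, ← pow_mul]
  rfl

end

end K691.QNorm
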