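import Groth.Agent.AgPol.K533.FamCore
import Groth.Agent.AgPol.K814.Unnorm
import Groth.Agent.Cons9.K119.RelAmpInd
import Groth.Agent.AgPol.K691.CoarseCorr

/-!
# Homomorphisms which are fppf-locally attached to relatively ample modules

* `QFc φ lam`: fppf-locally on the base `lam` is the homomorphism attached to a relatively ample module (the condition of
  the frozen statements S14321 and S14324);
* `qfc_bc`: stability under base change.
-/

set_option autoImplicit false
universe u

open CategoryTheory Limits MonoidalCategory CartesianMonoidalCategory AlgebraicGeometry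
open scoped MonObj

namespace K691.ZFam

open Groth.Agent Groth.Agent.Grpsch.PicGrp Groth.Agent.Fga.RigGrp K732.PicZero K732.Prim K732.Dual K732.BC
open K528.MumZero K814.MumHom

/-- `lam` is fppf-locally attached to a relatively ample module. -/
def QFc {S : Scheme.{u}} {A At : Over S} [GrpObj A] [GrpObj At] (φ : AgPol.DualMap A At) (lam : A ⟶ At) : Prop :=
  ∃ (T' : Scheme.{u}) (k : T' ⟶ S), Surjective k ∧ Flat k ∧ LocallyOfFinitePresentation k ∧
    ∃ L : (Red.bc k A).left.Modules, PicF.IsInvertible L ∧ RelAmple.IsRelAmple (Red.bc k A).hom L ∧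
      AgPol.IsLambda (Red.bc k A) (Red.bc k At) (AgPol.bcDual k A At φ) L ((Over.pullback k).map lam)

section ev

variable {S S' : Scheme.{u}} (k : S' ⟶ S)
variable {A At : Over S} [GrpObj A] [GrpObj At] [IsProper A.hom] [Smooth A.hom] [GeometricallyIntegral A.hom]
  {φ : AgPol.DualMap A At}
  (hD : AbDual.IsDualAV Scheme.fppfPrecoverage A At φ)
  {ξ : Pic (PicF.XT A.hom At)} (h1 : ξ ∈ pz A.hom At) (h2 : ξ ∈ rg A At) (h3 : cm φ ξ = 𝟙 At)
include hD h1 h3

omit [IsProper A.hom] [Smooth A.hom] [GeometricallyIntegral A.hom] in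
/-- The homomorphism attached to a class on the base change, in terms of the Poincaré class. -/
theorem hom_of_ev (lam : A ⟶ At) {c : Pic (Red.bc k A).left}
    (h : ∀ (W : Over S') (a b : dn k W ⟶ A), ev a (b ≫ lam) ξ = pull (up (a * b)).left c *
      (pull (up a).left c)⁻¹ * (pull (up b).left c)⁻¹) :
    (Over.pullback k).map lam = hom (A := Red.bc k A) (At := Red.bc k At) (AgPol.bcDual k A At φ) c := by
  obtain ⟨L, hL, rfl⟩ := exists_mk c
  rw [← K814.MumHom.isLambda_iff _ hL]
  exact K533.PolBC.isLambda_of_ev k hD h1 h3 lam hL h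

include h2

/-- Conversely, for rigidified classes. -/
theorem ev_of_hom (lam : A ⟶ At) {c : Pic (Red.bc k A).left}
    (hc : pull (η[Red.bc k A] : 𝟙_ (Over S') ⟶ Red.bc k A).left c = 1)
    (h : (Over.pullback k).map lam = hom (A := Red.bc k A) (At := Red.bc k At) (AgPol.bcDual k A At φ) c)
    (W : Over S') (a b : dn k W ⟶ A) : ev a (b ≫ lam) ξ = pull (up (a * b)).left c *
      (pull (up a).left c)⁻¹ * (pull (up b).left c)⁻¹ := by
  have i1 : IsProper (Red.bc k A).hom := inferInstanceAs (IsProper (pullback.snd A.hom k))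
  have i2 : Smooth (Red.bc k A).hom := inferInstanceAs (Smooth (pullback.snd A.hom k))
  have i3 : GeometricallyIntegral (Red.bc k A).hom := inferInstanceAs (GeometricallyIntegral (pullback.snd A.hom k))
  have e1 := K814.MumHom.ev_hom (A := Red.bc k A) (At := Red.bc k At) (φ := AgPol.bcDual k A At φ) (isDualAV_bc hD)
    (bcXi_mem_pz h1) (bcXi_mem_rg h2) (K533.PolBC.cm_bcXi_eq k hD h1 h3) hc (up a) (up b)
  rw [← h, ← up_comp, ev_bcXi, ← up_mul] at e1
  exact e1

end ev

section sq

variable {S S₂ T' T₂ : Scheme.{u}} {k : T' ⟶ S} {h : S₂ ⟶ S} {k₂ : T₂ ⟶ S₂} {p : T₂ ⟶ T'}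
  (w : k₂ ≫ h = p ≫ k)

/-- The comparison map of base changes along a commutative square. -/
noncomputable def cmp (A : Over S) : (Red.bc k₂ (Red.bc h A)).left ⟶ (Red.bc k A).left :=
  pullback.lift (pullback.fst (Red.bc h A).hom k₂ ≫ pullback.fst A.hom h) (pullback.snd (Red.bc h A).hom k₂ ≫ p) (by
    rw [Category.assoc, Category.assoc, pullback.condition, ← w]
    change pullback.fst (Red.bc h A).hom k₂ ≫ (Red.bc h A).hom ≫ h = _
    rw [pullback.condition_assoc])

theorem cmp_fst (A : Over S) : cmp w A ≫ pullback.fst A.hom k =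
    pullback.fst (Red.bc h A).hom k₂ ≫ pullback.fst A.hom h := pullback.lift_fst _ _ _

theorem cmp_snd (A : Over S) : cmp w A ≫ pullback.snd A.hom k = pullback.snd (Red.bc h A).hom k₂ ≫ p :=
  pullback.lift_snd _ _ _

theorem isPullback_cmp (A : Over S) : IsPullback (cmp w A) (Red.bc k₂ (Red.bc h A)).hom (Red.bc k A).hom p := by
  refine IsPullback.of_right ?_ (cmp_snd w A) (IsPullback.of_hasPullback A.hom k)
  rw [cmp_fst, ← w]
  exact (IsPullback.of_hasPullback (Red.bc h A).hom k₂).paste_horiz (IsPullback.of_hasPullback A.hom h)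

/-- The identity between the two ways of regarding a `T₂`-scheme over `S`. -/
noncomputable abbrev jmp (W : Over T₂) : dn k (dn p W) ⟶ dn h (dn k₂ W) := Over.homMk (𝟙 _) (by
  change 𝟙 _ ≫ (W.hom ≫ k₂) ≫ h = (W.hom ≫ p) ≫ k
  rw [Category.id_comp, Category.assoc, Category.assoc, w])

theorem up_cmp {A : Over S} {W : Over T₂} (a : dn h (dn k₂ W) ⟶ A) :
    (up (up a)).left ≫ cmp w A = (up (k := k) (U := dn p W) (jmp w W ≫ a)).left := by
  apply pullback.hom_ext
  · rw [Category.assoc, cmp_fst, ← Category.assoc, up_left_fst, up_left_fst, up_left_fst]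
    exact (Category.id_comp _).symm
  · rw [Category.assoc, cmp_snd, ← Category.assoc, up_left_snd, up_left_snd]
    rfl

end sq

section bc

variable {S : Scheme.{u}} {A At : Over S} [GrpObj A] [GrpObj At] [IsProper A.hom] [Smooth A.hom]
  [GeometricallyIntegral A.hom]
  {φ : AgPol.DualMap A At}
  (hD : AbDual.IsDualAV Scheme.fppfPrecoverage A At φ)
  {ξ : Pic (PicF.XT A.hom At)} (h1 : ξ ∈ pz A.hom At) (h2 : ξ ∈ rg A At) (h3 : cm φ ξ = 𝟙 At)
include hD h1 h2 h3

/-- **Base change.** -/
theorem qfc_bc {lam : A ⟶ At} (hQ : QFc φ lam) {S₂ : Scheme.{u}} (h : S₂ ⟶ S) :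
    QFc (A := Red.bc h A) (At := Red.bc h At) (AgPol.bcDual h A At φ) ((Over.pullback h).map lam) := by
  obtain ⟨T', k, s1, s2, s3, L, hL, hamp, hlam⟩ := hQ
  have w : pullback.snd k h ≫ h = pullback.fst k h ≫ k := pullback.condition.symm
  have i1 : IsProper (Red.bc k A).hom := inferInstanceAs (IsProper (pullback.snd A.hom k))
  have i2 : Smooth (Red.bc k A).hom := inferInstanceAs (Smooth (pullback.snd A.hom k))
  have i3 : GeometricallyIntegral (Red.bc k A).hom := inferInstanceAs (GeometricallyIntegral (pullback.snd A.hom k))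
  let B : Over S₂ := Red.bc h A
  have j1 : IsProper B.hom := inferInstanceAs (IsProper (pullback.snd A.hom h))
  have j2 : Smooth B.hom := inferInstanceAs (Smooth (pullback.snd A.hom h))
  have j3 : GeometricallyIntegral B.hom := inferInstanceAs (GeometricallyIntegral (pullback.snd A.hom h))
  have l1 : IsProper (Red.bc (pullback.snd k h) B).hom :=
    inferInstanceAs (IsProper (pullback.snd B.hom (pullback.snd k h)))
  have l2 : Smooth (Red.bc (pullback.snd k h) B).hom :=
    inferInstanceAs (Smooth (pullback.snd B.hom (pullback.snd k h)))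
  have l3 : GeometricallyIntegral (Red.bc (pullback.snd k h) B).hom :=
    inferInstanceAs (GeometricallyIntegral (pullback.snd B.hom (pullback.snd k h)))
  let N : Pic T' := (pull (η[Red.bc k A] : 𝟙_ (Over T') ⟶ Red.bc k A).left (mk L hL))⁻¹
  let c : Pic (Red.bc k A).left := mk L hL * pull (Red.bc k A).hom N
  have hc : pull (η[Red.bc k A] : 𝟙_ (Over T') ⟶ Red.bc k A).left c = 1 := by
    have e : (η[Red.bc k A] : 𝟙_ (Over T') ⟶ Red.bc k A).left ≫ (Red.bc k A).hom = 𝟙 T' :=
      Over.w (η[Red.bc k A] : 𝟙_ (Over T') ⟶ Red.bc k A)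
    rw [map_mul, ← pull_comp, e]
    have e2 := pull_id N
    rw [e2]
    exact mul_inv_cancel _
  have e0 : (Over.pullback k).map lam =
      hom (A := Red.bc k A) (At := Red.bc k At) (AgPol.bcDual k A At φ) c := by
    rw [K814.HomDeg.hom_base (isDualAV_bc hD)]
    exact (K814.MumHom.isLambda_iff _ hL _).1 hlam
  have E := ev_of_hom k hD h1 h2 h3 lam hc e0
  have e2 : (Over.pullback (pullback.snd k h)).map ((Over.pullback h).map lam) =
      hom (A := Red.bc (pullback.snd k h) B) (At := Red.bc (pullback.snd k h) (Red.bc h At))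
        (AgPol.bcDual (pullback.snd k h) B (Red.bc h At) (AgPol.bcDual h A At φ)) (pull (cmp w A) c) := by
    refine hom_of_ev (A := B) (At := Red.bc h At) (pullback.snd k h) (isDualAV_bc hD) (bcXi_mem_pz h1)
      (K533.PolBC.cm_bcXi_eq h hD h1 h3) _ fun W x y => ?_
    obtain ⟨a, rfl⟩ := exists_up x
    obtain ⟨b, rfl⟩ := exists_up y
    have h6 : ∀ a : dn h (dn (pullback.snd k h) W) ⟶ A, pull (up (up a)).left (pull (cmp w A) c) =
        pull (up (k := k) (U := dn (pullback.fst k h) W) (jmp w W ≫ a)).left c := by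
      intro a
      rw [← pull_comp, up_cmp]
    rw [← up_comp, ev_bcXi, ← up_mul, h6, h6, h6, MonObj.comp_mul]
    have h7 := E (dn (pullback.fst k h) W) (jmp w W ≫ a) (jmp w W ≫ b)
    rw [Category.assoc, ← pull_ev] at h7
    exact (pull_id (ev a (b ≫ lam) ξ)).symm.trans h7
  have hL2 := Fdesc.LocGen.isInvertible_pullback (cmp w A) hL
  refine ⟨pullback k h, pullback.snd k h, inferInstance, inferInstance, inferInstance,
    (Scheme.Modules.pullback (cmp w A)).obj L, hL2,
    K119.RelAmpInd.isRelAmple_of_isPullback (isPullback_cmp w A) hamp, ?_⟩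
  refine (K814.MumHom.isLambda_iff _ hL2 _).2 (e2.trans ?_)
  have e3 : pull (cmp w A) c = mk _ hL2 * pull (Red.bc (pullback.snd k h) B).hom (pull (pullback.fst k h) N) := by
    rw [map_mul, pull_mk (cmp w A) hL, ← pull_comp, ← pull_comp, (isPullback_cmp w A).w]
  rw [e3]
  exact K814.HomDeg.hom_base (A := Red.bc (pullback.snd k h) B)
    (isDualAV_bc (A := B) (isDualAV_bc (A := A) hD)) _ _

end bc

end K691.ZFam
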