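import Groth.Agent.AgPol.K691.QNorm2
import Groth.Agent.AgPol.K691.Glue2
import Groth.Agent.VarietyB.ModGlue
import Groth.Agent.Ega2.RelAmp
import Groth.Agent.Krr.H490.PBFun

/-!
# Gluing invertible classes along two opens
-/

set_option autoImplicit false
universe u

open CategoryTheory Limits AlgebraicGeometry

namespace K691.ZGlue

open Groth.Agent Groth.Agent.Grpsch.PicGrp Groth.Agent.VarietyB.ModGlue K691.QNorm2 K691.Glue2

noncomputable section

theorem isInvertible_of_iso {X : Scheme.{u}} {L M : X.Modules} (e : L ≅ M) (h : PicF.IsInvertible L) :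
    PicF.IsInvertible M := fun x => by
  obtain ⟨U, hx, ⟨e'⟩⟩ := h x
  exact ⟨U, hx, ⟨(Scheme.Modules.restrictFunctor U.ι).mapIso e.symm ≪≫ e'⟩⟩

theorem exists_glue_pic {X U V W : Scheme.{u}} {u : U ⟶ X} {v : V ⟶ X} {w : W ⟶ X} {a : W ⟶ U} {b : W ⟶ V}
    [IsOpenImmersion u] [IsOpenImmersion v] [IsOpenImmersion w] [IsOpenImmersion a] [IsOpenImmersion b]
    (H : IsOverlap u v w a b) (hcov : ∀ x : X, x ∈ Set.range u ∨ x ∈ Set.range v) (c : Pic U) (e : Pic V)
    (h : pull a c = pull b e) : ∃ x : Pic X, pull u x = c ∧ pull v x = e := by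
  obtain ⟨L, hL, rfl⟩ := exists_mk c
  obtain ⟨M, hM, rfl⟩ := exists_mk e
  rw [pull_mk, pull_mk, mk_eq_iff] at h
  obtain ⟨i⟩ := h
  let i' : L.restrict a ≅ M.restrict b :=
    (Scheme.Modules.restrictFunctorIsoPullback a).app L ≪≫ i ≪≫ (Scheme.Modules.restrictFunctorIsoPullback b).symm.app M
  let K := glue H i'
  let eU : (Scheme.Modules.pullback u).obj K ≅ L :=
    (Scheme.Modules.restrictFunctorIsoPullback u).symm.app K ≪≫ glueIsoU H i'
  let eV : (Scheme.Modules.pullback v).obj K ≅ M :=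
    (Scheme.Modules.restrictFunctorIsoPullback v).symm.app K ≪≫ glueIsoV H i'
  have hU : PicF.IsInvertible ((Scheme.Modules.pullback u).obj K) := isInvertible_of_iso eU.symm hL
  have hV : PicF.IsInvertible ((Scheme.Modules.pullback v).obj K) := isInvertible_of_iso eV.symm hM
  have hK : PicF.IsInvertible K := by
    have hi : ∀ i : Bool, IsOpenImmersion (Bool.rec (motive := fun i => (Bool.rec V U i : Scheme.{u}) ⟶ X) v u i) := by
      rintro (_ | _)
      · exact (inferInstance : IsOpenImmersion v)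
      · exact (inferInstance : IsOpenImmersion u)
    refine Krr.H490.PBFun.isInvertible_of_cover (ι := Bool) (Z := fun i => Bool.rec V U i)
      (fun i => Bool.rec (motive := fun i => (Bool.rec V U i : Scheme.{u}) ⟶ X) v u i) ?_ ?_
    · intro y
      rcases hcov y with ⟨z, hz⟩ | ⟨z, hz⟩
      · exact ⟨true, z, hz⟩
      · exact ⟨false, z, hz⟩
    · rintro (_ | _)
      · exact hV
      · exact hU
  exact ⟨mk K hK, (pull_mk u hK).trans (mk_congr eU), (pull_mk v hK).trans (mk_congr eV)⟩

/-- **Gluing ample classes** over two affine opens of the base. -/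
theorem exists_amp {S : Scheme.{u}} [IsAffine S] (M : Over S) (V W O : S.Opens) (hV : IsAffineOpen V)
    (hW : IsAffineOpen W) (hVW : V ⊔ W = ⊤) (hO : V ⊓ W ≤ O) (a : resO M O ⟶ resO M V) (b : resO M O ⟶ resO M W)
    (ha : a ≫ resi M V = resi M O) (hb : b ≫ resi M W = resi M O)
    (c : Pic (resO M V).left) (e : Pic (resO M W).left) (hc : AmpCl c) (he : AmpCl e)
    (h : pull a.left c = pull b.left e) : ∃ x : Pic M.left, AmpCl x := by
  have ha' : a.left ≫ (resi M V).left = (resi M O).left := congrArg (fun q => q.left) ha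
  have hb' : b.left ≫ (resi M W).left = (resi M O).left := congrArg (fun q => q.left) hb
  have : IsOpenImmersion a.left := by
    have : IsOpenImmersion (a.left ≫ (resi M V).left) := by rw [ha']; infer_instance
    exact IsOpenImmersion.of_comp a.left (resi M V).left
  have : IsOpenImmersion b.left := by
    have : IsOpenImmersion (b.left ≫ (resi M W).left) := by rw [hb']; infer_instance
    exact IsOpenImmersion.of_comp b.left (resi M W).left
  have H : IsOverlap (resi M V).left (resi M W).left (resi M O).left a.left b.left :=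
    ⟨ha', hb', by
      intro x hx
      have h1 : x ∈ (M.hom ⁻¹ᵁ V).ι.opensRange ⊓ (M.hom ⁻¹ᵁ W).ι.opensRange := hx
      rw [Scheme.Opens.opensRange_ι, Scheme.Opens.opensRange_ι] at h1
      have h2 : x ∈ (M.hom ⁻¹ᵁ O).ι.opensRange := by
        rw [Scheme.Opens.opensRange_ι]
        exact hO h1
      exact h2⟩
  obtain ⟨x, hxV, hxW⟩ := exists_glue_pic H (resO_cover M hVW) c e h
  obtain ⟨L, hL, rfl⟩ := exists_mk x
  refine ⟨_, (ampCl_mk hL).2 ?_⟩
  have key : ∀ (Z : S.Opens) (c : Pic (resO M Z).left), AmpCl c → pull (resi M Z).left (mk L hL) = c →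
      Ega2.Ample.AmpleOn L (M.hom ⁻¹ᵁ Z) := by
    intro Z c hc e
    rw [← Ega2.Ample.isAmple_restrict_ι_iff]
    rw [pull_mk] at e
    rw [← e, ampCl_mk] at hc
    exact Ega2.Weight.isAmple_of_iso ((Scheme.Modules.restrictFunctorIsoPullback (M.hom ⁻¹ᵁ Z).ι).symm.app L) hc
  rw [← Ega2.RelAmp.isRelAmple_iff_isAmple (f := M.hom)]
  refine Ega2.RelAmp.isRelAmple_of_cover (ι := Bool) (fun i => if i then ⟨V, hV⟩ else ⟨W, hW⟩) ?_ ?_
  · rw [iSup_bool_eq]
    exact hVW
  · rintro (_ | _)
    · exact key W e he hxW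
    · exact key V c hc hxV

end

end K691.ZGlue
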