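import Groth.Agent.AgPol.K691.ZCorr
import Groth.Agent.AgPol.K382.LevCover

/-!
# Level structures on core families over all test schemes

* `cover`: adding level structure is a Galois covering, over any base;
* `lactQ`, `lredQ`: families of level `n q` are a torsor over families of level `n`, for the moduli problem `CQ`.
-/

set_option autoImplicit false
universe u

open CategoryTheory Limits MonoidalCategory CartesianMonoidalCategory AlgebraicGeometry
open scoped MonObj

namespace K691.ZLev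

open Groth.Agent.Grpsch.PicGrp K117.Ag K691.LevGp K691.LevSec K691.LevelRed K691.CoarseQ K691.CoarseGlue K691.LevCore
  K691.ZCorr

noncomputable section

section cov

open K814.AbBasic K814.ExactOrder K382.LevAlg K382.LevScheme Groth.Agent.Sga3B.BcPts K382.LevCover

/-- **Adding level structure** is a Galois covering, over any base. -/
theorem cover {S : Scheme.{u}} (T : Over S) (g d n q : ℕ) (hg : 1 ≤ g) (hn : 1 ≤ n) (hq : 1 ≤ q)
    (x : Core T g) (hok : Core.ok g d n T x) (hu : IsUnit ((n * q : ℕ) : Γ(T.left, ⊤))) :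
    ∃ (W : Over S) (p : W ⟶ T) (G : Type u) (_ : Group G) (_ : Finite G) (ρ : G →* Aut W.left),
      IsFinite p.left ∧ Etale p.left ∧ Surjective p.left ∧ SGA1.IsQuot ρ p.left ∧
      ∃ τ : Fin (2 * g) → (𝟙_ (Over W.left) ⟶ (x.pull p).X), AgPol.IsLevelStr (x.pull p).X g (n * q) τ ∧
        ∀ i, τ i ^ q = (x.pull p).σ i := by
  let A : Over T.left := x.X
  have hA : AgPol.IsAbSch A g := hok.ab
  have hc : IsCommMonObj A := hok.comm
  have hs := hA.smooth
  have hp := hA.proper
  have hgc := hA.geomConnected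
  have hlev := hok.level
  obtain ⟨W, u, ρ, h1, h2, h3, h4, h5⟩ := exists_cover (A := A) (σ := x.σ) (N := n * q) (q := q) rfl hn hq hu
    hlev.1 (fun Ω _ _ t d hd => card_geom A hA t (by
      have h := cast_ne_zero hu t
      obtain ⟨c, hc⟩ := hd
      rw [hc, Nat.cast_mul] at h
      exact left_ne_zero_of_mul h)) (fun Ω _ _ t => (hlev.2 Ω t).1)
  have hNZ : NeZero (n * q) := ⟨by positivity⟩
  have hfin : Finite (Gq (2 * g) (n * q) q) := Finite.of_injective (fun φ => φ.1) Subtype.val_injective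
  refine ⟨Over.mk (W.hom ≫ T.hom), Over.homMk W.hom rfl, ULift.{u} (Gq (2 * g) (n * q) q), inferInstance,
    inferInstance, ρ, h1, h2, h3, h4, fun i => secOf (u i), ?_, ?_⟩
  · exact isLevelStr_secOf (A := A) (W := W) rfl hA hu hlev.1 h5
  · intro i
    have h6 : secOf (u i) ^ q = secOf (toUnit W ≫ x.σ i) := by rw [secOf_pow, h5.pow]
    exact h6.trans (secOf_toUnit (W := W) (x.σ i))

end cov

variable {S : Scheme.{u}} {g d n q : ℕ}

/-- The action of the automorphisms trivial modulo `n` on families of level `n q`. -/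
def lactQ (S : Scheme.{u}) (g d n q : ℕ) (hn : 1 ≤ n) (hq : 1 ≤ q) (P : ObjectProperty (Over S)) :
    Act (CQ S g d (n * q)) P (LG.{u} g n q) :=
  have := nz hn hq
  { a := fun γ _ x => tws γ.down.1 x
    ok := fun γ _ _ _ hx => ⟨ok_tws γ.down.1 hx.1, hx.2⟩
    r := fun γ _ _ _ _ _ _ h => r_tws γ.down.1 h
    pull := fun γ _ _ k x _ _ _ => pull_tws γ.down.1 k x
    one := fun _ _ _ hx => tws_one hx.1
    mul := fun γ δ _ _ _ hx => tws_mul γ.down.1 δ.down.1 hx.1 }

theorem isCov_top {W T : Over S} (p : W ⟶ T) (hf : IsFinite p.left) (he : Etale p.left)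
    (hs : Surjective p.left) : IsCov ⊤ p where
  flat := inferInstance
  surj := hs
  qc := inferInstance
  dom := trivial
  bc _ _ _ := trivial

variable (hg : 1 ≤ g) (hn : 1 ≤ n) (hq : 1 ≤ q) (V : S.Opens)
  (hV1 : ∀ T : Over S, Set.range T.hom ⊆ (V : Set S) → IsUnit ((q : ℕ) : Γ(T.left, ⊤)))
  (hV2 : ∀ T : Over S, IsUnit ((n * q : ℕ) : Γ(T.left, ⊤)) → Set.range T.hom ⊆ (V : Set S))

include hg hn hV1 in
theorem isUnit_mul {T : Over S} {x : Core T g} (hx : Core.ok g d n T x)
    (hr : Set.range T.hom ⊆ (V : Set S)) : IsUnit ((n * q : ℕ) : Γ(T.left, ⊤)) := by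
  have := hx.comm
  rw [Nat.cast_mul]
  exact (isUnit_of_level hg hn hx.ab x.σ hx.level).mul (hV1 T hr)

/-- Families of level `n q` are a torsor over families of level `n`. -/
def lredQ : Red (lactQ S g d n q hn hq ⊤) (onV (CQ S g d n) V) where
  red T x := pw q x
  ok T x hT hx := ⟨⟨ok_pw hn hq hx.1, hx.2⟩, hV2 T (by
    have := hx.1.comm
    exact isUnit_of_level hg (Nat.mul_pos hn hq) hx.1.ab x.σ hx.1.level)⟩
  r T x y _ _ _ h := r_pw q h
  pull k x _ _ _ := pull_pw q k x
  inv γ T x _ hx := by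
    have := nz hn hq
    have := hx.1.comm
    exact r_setσ x fun i => tw_pow_eq γ.down.1 γ.down.2 x.σ hx.1.level.1 i
  cover T x hT hx := by
    obtain ⟨W, p, G, _, _, ρ, hf, he, hs, -, τ, hτ, hτq⟩ := cover T g d n q hg hn hq x hx.1.1
      (isUnit_mul hg hn V hV1 hx.1.1 hx.2)
    have hp := isCov_top p hf he hs
    have hxp := (preLawsQ S g d n ⊤).pull_ok p x trivial trivial hx.1
    exact ⟨W, p, setσ (x.pull p) τ, hp, inferInstance, ⟨ok_setσ hxp.1 hτ, qc_setσ τ hxp.2⟩,
      r_setσ_self (x.pull p) hτq⟩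
  torsor T y y' hT hy hy' h t := by
    have cy := hy.1.comm
    have cy' := hy'.1.comm
    obtain ⟨e, he, hc, hσ⟩ : ∃ (e : y.X ≅ y'.X), IsMonHom e.hom ∧
      Groth.Agent.Grpsch.PicGrp.pull e.hom.left y'.c = y.c ∧ ∀ i, (y.σ i ^ q) ≫ e.hom = y'.σ i ^ q := h
    have he' : IsMonHom e.symm.hom := inferInstanceAs (IsMonHom e.inv)
    have hτ := isLevelStr_comp e.symm y'.σ hy'.1.level
    have hq' : ∀ i, y.σ i ^ q = (y'.σ i ≫ e.symm.hom) ^ q := fun i => by
      rw [← MonObj.pow_comp, ← hσ i, Category.assoc]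
      change _ = _ ≫ e.hom ≫ e.inv
      rw [e.hom_inv_id, Category.comp_id]
    obtain ⟨U, γ, htU, hγ⟩ := exists_tw_near hy.1.ab (Nat.mul_pos hn hq)
      (isUnit_of_level hg (Nat.mul_pos hn hq) hy.1.ab y.σ hy.1.level) y.σ _ hy.1.level hτ hq' t
    refine ⟨U, ⟨γ⟩, htU, ?_⟩
    have h1 : Core.r T y' (setσ y fun i => y'.σ i ≫ e.symm.hom) := by
      refine ⟨e.symm, he', ?_, fun i => rfl⟩
      change Groth.Agent.Grpsch.PicGrp.pull e.inv.left y.c = y'.c
      rw [← hc, ← pull_comp, ← Over.comp_left, e.inv_hom_id]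
      exact pull_id _
    have h2 := (preLaws S g d (n * q) ⊤).pull_r (resiU T U) y' (setσ y fun i => y'.σ i ≫ e.symm.hom) trivial trivial
      hy'.1 (ok_setσ hy.1 hτ) h1
    refine r_trans h2 ?_
    change Core.r (resU T U) ((setσ y fun i => y'.σ i ≫ e.symm.hom).pull (resiU T U)) (tws γ.1 (y.pull (resiU T U)))
    rw [pull_setσ]
    exact r_setσ _ fun i => (hγ i).trans (map_tw (psHom U.ι y.X) γ.1 y.σ i)

end

end K691.ZLev
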