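import Groth.Agent.AgPol.K691.ZLev
import Groth.Agent.AgPol.K691.ZBase

/-!
# The coarse moduli scheme over an open of `Spec ℤ`, with its ample class

* `dl_setσ`, `dl_inv`: the determinant class does not depend on the level structure, and is invariant;
* `exists_local`: from the fine moduli scheme of level `n q`, the coarse moduli scheme of level `n` over the locus where
  `q` is invertible.
-/

set_option autoImplicit false
universe u

open CategoryTheory Limits MonoidalCategory CartesianMonoidalCategory AlgebraicGeometry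
open scoped MonObj

namespace K691.ZLoc

open Groth.Agent.Grpsch.PicGrp K117.Ag K691.LevGp K691.LevSec K691.LevelRed K691.CoarseQ K691.CoarseGlue K691.LevCore
  K691.ZCorr K691.ZLev K691.ZDet K691.ZBase K691.QNorm2 K691.GPres K691.CoarseLoc

noncomputable section

variable {S : Scheme.{u}} {g d n q : ℕ}

theorem dl_setσ {T : Over S} (hT hT' : IsLocallyNoetherian T.left) {z : Core T g} {m : ℕ} (hz : Core.ok g d n T z)
    (τ : Fin (2 * g) → (𝟙_ (Over T.left) ⟶ z.X)) (hz' : Core.ok g d m T (setσ z τ)) : dl hT' hz' = dl hT hz := rfl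

/-- The determinant class of the universal family is invariant. -/
theorem dl_inv (hn : 1 ≤ n) (hq : 1 ≤ q) {M : Over S} {ξ : Core M g}
    (hM : IsLocallyNoetherian M.left) (hU : ModFun.IsUnivFamily ⊤ (CQ S g d (n * q)) M ξ) (a : LG.{u} g n q) :
    pull (actM (lactQ S g d n q hn hq ⊤) (preLawsQ S g d (n * q) ⊤) hU trivial a).hom (dl hM hU.1.1) =
      dl hM hU.1.1 := by
  have := nz hn hq
  rw [actM_hom]
  have h1 := (preLawsQ S g d (n * q) ⊤).pull_ok
    (fm (lactQ S g d n q hn hq ⊤) hU trivial a⁻¹) ξ trivial trivial hU.1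
  have h2 : Core.ok g d (n * q) M (tws a⁻¹.down.1 ξ) := ok_tws _ hU.1.1
  exact (dl_pull (fm (lactQ S g d n q hn hq ⊤) hU trivial a⁻¹) hM hM hU.1.1 h1.1).symm.trans
    (dl_r hM hM h1.1 h2 (fm_spec (lactQ S g d n q hn hq ⊤) hU trivial a⁻¹))

/-- The determinant class of a pull-back with another level structure. -/
theorem pull_dl {M M' : Over S} {ξ : Core M g} {ξ' : Core M' g} {m m' : ℕ} (hM : IsLocallyNoetherian M.left)
    (hM' : IsLocallyNoetherian M'.left) (h : Core.ok g d m M ξ) (h' : Core.ok g d m' M' ξ') (p : M' ⟶ M)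
    (τ : Fin (2 * g) → (𝟙_ (Over M'.left) ⟶ ξ'.X)) (hr : Core.r M' (ξ.pull p) (setσ ξ' τ))
    (hτ : Core.ok g d m M' (setσ ξ' τ)) : pull p.left (dl hM h) = dl hM' h' := by
  have h1 := K817.Closed.ok_pull p h
  rw [← dl_pull p hM hM' h h1, dl_r hM' hM' h1 hτ hr]
  rfl

/-- **The coarse moduli scheme over an open.** -/
theorem exists_local (hg : 1 ≤ g) (hn : 1 ≤ n) (hq : 1 ≤ q) (V : SZ.{u}.Opens)
    (hV1 : ∀ T : Over SZ.{u}, Set.range T.hom ⊆ (V : Set SZ.{u}) → IsUnit ((q : ℕ) : Γ(T.left, ⊤)))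
    (hV2 : ∀ T : Over SZ.{u}, IsUnit ((n * q : ℕ) : Γ(T.left, ⊤)) → Set.range T.hom ⊆ (V : Set SZ.{u}))
    {M : Over SZ.{u}} {ξ : Core M g} (hM : IsLocallyNoetherian M.left)
    (hU : ModFun.IsUnivFamily ⊤ (CQ SZ.{u} g d (n * q)) M ξ) (hft : LocallyOfFiniteType M.hom)
    (hqc : QuasiCompact M.hom) (hamp : AmpCl (dl hM hU.1.1)) :
    ∃ (M₁ : Over SZ.{u}) (π : M ⟶ M₁) (Φ : (onV (CQ SZ.{u} g d n) V).Hom ⊤ M₁)
      (hζ : (onV (CQ SZ.{u} g d n) V).ok M (pw q ξ)), IsFinite π.left ∧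
      SGA1.IsQuot (actM (lactQ SZ.{u} g d n q hn hq ⊤) (preLawsQ SZ.{u} g d (n * q) ⊤) hU trivial) π.left ∧
      LB Φ ∧ ModFun.GeomBij (onV (CQ SZ.{u} g d n) V) M₁ Φ ∧ Φ.app M (pw q ξ) trivial hζ = π ∧
      Set.range M₁.hom ⊆ (V : Set SZ.{u}) ∧ LocallyOfFiniteType M₁.hom := by
  have := nz hn hq
  have hFN := preLawsQ SZ.{u} g d (n * q) ⊤
  have hF := preLawsQ SZ.{u} g d n ⊤
  let A := lactQ SZ.{u} g d n q hn hq ⊤
  let R := lredQ (d := d) hg hn hq V hV1 hV2
  have hqp : RelProj.IsQuasiProjective M.hom := by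
    obtain ⟨L, hL, -⟩ := hamp
    exact ⟨hft, hqc, L, Groth.Agent.Ega2.RelAmp.isRelAmple_iff_isAmple.2 hL⟩
  obtain ⟨Y, p, h, hph, hquot, hYqp⟩ := Groth.Agent.S13180.result M.hom (actM A hFN hU trivial) (actM_w A hFN hU trivial) hqp
  let M₁ : Over SZ.{u} := Over.mk h
  let π : M ⟶ M₁ := Over.homMk p hph
  have hft : LocallyOfFiniteType π.left := by
    have h1 : LocallyOfFiniteType (p ≫ h) := by
      rw [hph]
      exact hqp.1
    exact locallyOfFiniteType_of_comp p h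
  have hfin : IsFinite π.left := by
    have h1 : IsIntegralHom π.left := Groth.Agent.Sga1.QuotBasic.isIntegralHom_of_isQuot hquot
    exact (IsFinite.iff_isIntegralHom_and_locallyOfFiniteType _).2 ⟨h1, hft⟩
  have hF₁ := preLaws_onV hF V
  have G := R.gpres hFN hF₁ (fun _ _ _ => trivial) hU trivial π hquot hft
  have Pr := G.pres hF₁ (fun _ _ _ => trivial)
  refine ⟨M₁, π, homOf hF₁ Pr, G.ok, hfin, hquot, lb_homOf hF₁ Pr, geomBij_homOf hF₁ Pr, homOf_zeta hF₁ Pr, ?_, hYqp.1⟩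
  have hs : Function.Surjective p := Groth.Agent.Sga1.QuotBasic.surjective_of_isQuot hquot
  have hMr : Set.range M.hom ⊆ (V : Set SZ.{u}) := G.ok.2
  rintro _ ⟨y, rfl⟩
  obtain ⟨x, rfl⟩ := hs y
  refine hMr ⟨x, ?_⟩
  change M.hom x = h (p x)
  rw [← Scheme.Hom.comp_apply, hph]

end

end K691.ZLoc
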