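import Groth.Agent.AgPol.K691.ZLoc
import Groth.Agent.AgPol.K691.ZGlue

/-!
# The coarse moduli scheme of polarised abelian schemes over `Spec ℤ` is quasi-projective

`main`: the conclusion of the frozen statement S14324 from the conclusions of S14321 for all `n ≥ 3`.
-/

set_option autoImplicit false
universe u

open CategoryTheory Limits MonoidalCategory CartesianMonoidalCategory AlgebraicGeometry
open scoped MonObj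

namespace K691.ZMain

open Groth.Agent.Grpsch.PicGrp K117.Ag K691.LevGp K691.LevSec K691.LevelRed K691.CoarseQ K691.CoarseGlue K691.LevCore
  K691.ZCorr K691.ZLev K691.ZDet K691.ZBase K691.ZLoc K691.ZGlue K691.QNorm2 K691.GPres K691.CoarseLoc K691.Glue2

noncomputable section

/-- Quotients composed with isomorphisms. -/
theorem isQuot_comp_iso {X Y Z : Scheme.{u}} {G : Type u} [Group G] {ρ : G →* Aut X} {π : X ⟶ Y}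
    (h : SGA1.IsQuot ρ π) (e : Y ⟶ Z) [IsIso e] [Finite G] : SGA1.IsQuot ρ (π ≫ e) := by
  have sq : IsPullback (𝟙 X) (π ≫ e) π (inv e) := IsPullback.of_horiz_isIso ⟨by simp⟩
  refine K467.QuotFlat.isQuot_of_flat_baseChange h (qY := inv e) (pX := 𝟙 X) sq (fun a => ?_) (fun a => ?_)
  · rw [Category.comp_id, Category.id_comp]
  · rw [← Category.assoc, h.inv a]

variable {g d : ℕ}

/-- The classifying map as a quotient. -/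
theorem exists_pi {n : ℕ} {M : Over SZ.{u}} {Φ : (CQ SZ.{u} g d n).Hom ⊤ M} (L : LB Φ) {V : SZ.{u}.Opens}
    {Y : Over SZ.{u}} {ΦV : (onV (CQ SZ.{u} g d n) V).Hom ⊤ Y} (LV : LB ΦV)
    (rV : Set.range Y.hom ⊆ (V : Set SZ.{u})) {N : Over SZ.{u}} {ζ : Core N g}
    (hζ : (onV (CQ SZ.{u} g d n) V).ok N ζ) {π : N ⟶ Y} (e : ΦV.app N ζ trivial hζ = π) {G : Type u} [Group G]
    [Finite G] {ρ : G →* Aut N.left} (hq : SGA1.IsQuot ρ π.left) (hfin : IsFinite π.left)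
    (hft : LocallyOfFiniteType Y.hom) :
    ∃ π' : N ⟶ resO M V, π' ≫ resi M V = Φ.app N ζ trivial hζ.1 ∧ SGA1.IsQuot ρ π'.left ∧ IsFinite π'.left ∧
      LocallyOfFiniteType (resO M V).hom := by
  obtain ⟨i, hi⟩ := exists_iso L LV rV
  have h1 := hi N ζ trivial hζ (lifO (Φ.app N ζ trivial hζ.1) V hζ.2) (lifO_resi _ _ _)
  have h2 : lifO (Φ.app N ζ trivial hζ.1) V hζ.2 = π ≫ i.inv := by
    rw [← e, h1, Category.assoc, i.hom_inv_id, Category.comp_id]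
  have hii : IsIso i.inv.left := inferInstance
  refine ⟨π ≫ i.inv, ?_, ?_, ?_, ?_⟩
  · rw [← h2, lifO_resi]
  · exact isQuot_comp_iso hq i.inv.left
  · rw [Over.comp_left]
    infer_instance
  · rw [← Over.w i.hom]
    have : IsIso i.hom.left := inferInstance
    infer_instance

/-- Comparison of the quotient maps of two levels. -/
theorem side {M : Over SZ.{u}} {Φ : (CQ SZ.{u} g d 1).Hom ⊤ M} {V O : SZ.{u}.Opens} {a b : ℕ}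
    {MV MO : Over SZ.{u}} {ξV : Core MV g} {ξO : Core MO g}
    (okV : (CQ SZ.{u} g d 1).ok MV (pw a ξV)) (okO : (CQ SZ.{u} g d 1).ok MO (pw (a * b) ξO))
    {πV : MV ⟶ resO M V} (hV : πV ≫ resi M V = Φ.app MV (pw a ξV) trivial okV)
    {πO : MO ⟶ resO M O} (hO : πO ≫ resi M O = Φ.app MO (pw (a * b) ξO) trivial okO)
    {p : MO ⟶ MV} (hp : Core.r MO (ξV.pull p) (pw b ξO)) {j : resO M O ⟶ resO M V}
    (hj : j ≫ resi M V = resi M O) : p ≫ πV = πO ≫ j := by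
  rw [← cancel_mono (resi M V), Category.assoc, Category.assoc, hj, hV, hO]
  have ok3 : (CQ SZ.{u} g d 1).ok MO ((pw a ξV).pull p) := (preLawsQ SZ.{u} g d 1 ⊤).pull_ok p _ trivial trivial okV
  refine (Φ.natural p (pw a ξV) trivial trivial okV ok3).symm.trans ?_
  refine Φ.resp _ _ trivial ok3 okO ?_
  refine r_trans (pull_pw a p ξV) (r_trans (r_pw a hp) ?_)
  exact r_setσ ξO fun i => by
    change (ξO.σ i ^ b) ^ a = ξO.σ i ^ (a * b)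
    rw [← pow_mul, mul_comm]

theorem bl_le {a b : ℕ} : (bl (a * b) : SZ.{u}.Opens) ≤ bl a := by
  unfold bl
  rw [sec_eq, sec_eq, Nat.cast_mul, Scheme.basicOpen_mul]
  exact inf_le_left

theorem bl_inf (a b : ℕ) : (bl a ⊓ bl b : SZ.{u}.Opens) = bl (a * b) := by
  unfold bl
  rw [sec_eq, sec_eq, sec_eq, Nat.cast_mul, Scheme.basicOpen_mul]

theorem isAffineOpen_bl (a : ℕ) : IsAffineOpen (bl a : SZ.{u}.Opens) := (isAffineOpen_top _).basicOpen _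

theorem v1 (N : ℕ) (T : Over SZ.{u}) (h : Set.range T.hom ⊆ ((bl N : SZ.{u}.Opens) : Set SZ.{u})) :
    IsUnit ((N : ℕ) : Γ(T.left, ⊤)) := (range_iff T N).1 h

theorem v2 (N : ℕ) (T : Over SZ.{u}) (h : IsUnit ((1 * N : ℕ) : Γ(T.left, ⊤))) :
    Set.range T.hom ⊆ ((bl N : SZ.{u}.Opens) : Set SZ.{u}) := by
  rw [one_mul] at h
  exact (range_iff T N).2 h

/-- Descent of the determinant class to the coarse moduli scheme over an open. -/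
theorem exists_eps {N : ℕ} (hN : 1 ≤ N) {M : Over SZ.{u}} {ξ : Core M g} (hM : IsLocallyNoetherian M.left)
    (hU : ModFun.IsUnivFamily ⊤ (CQ SZ.{u} g d (1 * N)) M ξ) (hamp : AmpCl (dl hM hU.1.1)) {Z : Over SZ.{u}}
    {π : M ⟶ Z} (hfin : IsFinite π.left)
    (hq : SGA1.IsQuot (actM (lactQ SZ.{u} g d 1 N le_rfl hN ⊤) (preLawsQ SZ.{u} g d (1 * N) ⊤) hU trivial) π.left) :
    ∃ (k : ℕ) (e : Pic Z.left), 0 < k ∧ AmpCl e ∧ pull π.left e = dl hM hU.1.1 ^ k := by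
  have := nz (n := 1) le_rfl hN
  exact exists_of_inv hq hamp fun a => dl_inv le_rfl hN hM hU a

/-- The classes agree on the overlap after passing to powers. -/
theorem overlap {Z₁ Z₂ Z : Scheme.{u}} {M₁ M₂ M : Scheme.{u}} {π₁ : M₁ ⟶ Z₁} {π₂ : M₂ ⟶ Z₂} {π : M ⟶ Z}
    {G : Type u} [Group G] [Finite G] {ρ : G →* Aut M} (hq : SGA1.IsQuot ρ π) {j₁ : Z ⟶ Z₁} {j₂ : Z ⟶ Z₂}
    {p₁ : M ⟶ M₁} {p₂ : M ⟶ M₂} (h₁ : p₁ ≫ π₁ = π ≫ j₁) (h₂ : p₂ ≫ π₂ = π ≫ j₂) {δ : Pic M} {δ₁ : Pic M₁}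
    {δ₂ : Pic M₂} (d₁ : pull p₁ δ₁ = δ) (d₂ : pull p₂ δ₂ = δ) {k₁ k₂ : ℕ} {e₁ : Pic Z₁} {e₂ : Pic Z₂}
    (e1 : pull π₁ e₁ = δ₁ ^ k₁) (e2 : pull π₂ e₂ = δ₂ ^ k₂) :
    pull j₁ (e₁ ^ (k₂ * Nat.card G)) = pull j₂ (e₂ ^ (k₁ * Nat.card G)) := by
  have f1 : pull π (pull j₁ (e₁ ^ k₂)) = δ ^ (k₁ * k₂) := by
    rw [← pull_comp, ← h₁, pull_comp, map_pow, e1, map_pow, map_pow, d₁, pow_mul]
  have f2 : pull π (pull j₂ (e₂ ^ k₁)) = δ ^ (k₁ * k₂) := by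
    rw [← pull_comp, ← h₂, pull_comp, map_pow, e2, map_pow, map_pow, d₂, mul_comm, pow_mul]
  have h := exists_pow_eq_one hq (f1.trans f2.symm)
  rw [pow_mul, pow_mul, map_pow (pull j₁) (e₁ ^ k₂), map_pow (pull j₂) (e₂ ^ k₁)]
  exact h

/-- **The coarse moduli scheme of core families**, quasi-projective over `Spec ℤ`. -/
theorem exists_global (hg : 1 ≤ g) (hfine : ∀ N : ℕ, 3 ≤ N → FineQ.{u} g d N) :
    ∃ (M : Over SZ.{u}) (Φ : (CQ SZ.{u} g d 1).Hom ⊤ M), LB Φ ∧ ModFun.GeomBij (CQ SZ.{u} g d 1) M Φ ∧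
      RelProj.IsQuasiProjective M.hom ∧
      ∀ (Ω : Type u) [Field Ω] [IsAlgClosed Ω] (t : Spec (CommRingCat.of Ω) ⟶ SZ.{u}), Nonempty (Over.mk t ⟶ M) := by
  have hf : ∀ N : ℕ, 3 ≤ N → FineQ.{u} g d (1 * N) := fun N hN => by
    rw [one_mul]
    exact hfine N hN
  obtain ⟨M₃, ξ₃, hM₃, hU₃, ft₃, qc₃, a₃, n₃⟩ := hf 3 le_rfl
  obtain ⟨M₄, ξ₄, hM₄, hU₄, ft₄, qc₄, a₄, n₄⟩ := hf 4 (by norm_num)
  obtain ⟨M₀, ξ₀, hM₀, hU₀, ft₀, qc₀, a₀, -⟩ := hf (3 * 4) (by norm_num)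
  obtain ⟨Y₃, π₃, Φ₃, hζ₃, fin₃, q₃, L₃, G₃, e₃, r₃, y₃⟩ := exists_local (d := d) (q := 3) hg le_rfl (by norm_num) (bl 3)
    (v1 3) (v2 3) hM₃ hU₃ ft₃ qc₃ a₃
  obtain ⟨Y₄, π₄, Φ₄, hζ₄, fin₄, q₄, L₄, G₄, e₄, r₄, y₄⟩ := exists_local (d := d) (q := 4) hg le_rfl (by norm_num) (bl 4)
    (v1 4) (v2 4) hM₄ hU₄ ft₄ qc₄ a₄
  obtain ⟨Y₀, π₀, Φ₀, hζ₀, fin₀, q₀, L₀, G₀, e₀, r₀, y₀⟩ := exists_local (d := d) (q := 3 * 4) hg le_rfl (by norm_num)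
    (bl (3 * 4)) (v1 (3 * 4)) (v2 (3 * 4)) hM₀ hU₀ ft₀ qc₀ a₀
  obtain ⟨M, Φ, L, G⟩ := exists_glued (preLawsQ SZ.{u} g d 1 ⊤) (fun _ _ _ => trivial) (bl_sup (by norm_num)) L₃ L₄
    G₃ G₄ r₃ r₄
  have nz₃ := nz (n := 1) (q := 3) le_rfl (by norm_num)
  have nz₄ := nz (n := 1) (q := 4) le_rfl (by norm_num)
  have nz₀ := nz (n := 1) (q := 3 * 4) le_rfl (by norm_num)
  obtain ⟨ρ₃, hρ₃, Q₃, F₃, z₃⟩ := exists_pi L L₃ r₃ hζ₃ e₃ q₃ fin₃ y₃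
  obtain ⟨ρ₄, hρ₄, Q₄, F₄, z₄⟩ := exists_pi L L₄ r₄ hζ₄ e₄ q₄ fin₄ y₄
  obtain ⟨ρ₀, hρ₀, Q₀, F₀, z₀⟩ := exists_pi L L₀ r₀ hζ₀ e₀ q₀ fin₀ y₀
  obtain ⟨k₃, ε₃, hk₃, hε₃, E₃⟩ := exists_eps (by norm_num) hM₃ hU₃ a₃ F₃ Q₃
  obtain ⟨k₄, ε₄, hk₄, hε₄, E₄⟩ := exists_eps (by norm_num) hM₄ hU₄ a₄ F₄ Q₄
  -- the maps from the scheme of level 12
  have ok₃ : (CQ SZ.{u} g d (1 * 3)).ok M₀ (pw 4 ξ₀) := ⟨by
    have h := hU₀.1.1
    exact ok_pw (n := 1 * 3) (q := 4) (by norm_num) (by norm_num) h, hU₀.1.2⟩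
  have ok₄ : (CQ SZ.{u} g d (1 * 4)).ok M₀ (pw 3 ξ₀) := ⟨by
    have h := hU₀.1.1
    exact ok_pw (n := 1 * 4) (q := 3) (by norm_num) (by norm_num) h, hU₀.1.2⟩
  obtain ⟨p₃, hp₃, -⟩ := hU₃.2 M₀ _ trivial ok₃
  obtain ⟨p₄, hp₄, -⟩ := hU₄.2 M₀ _ trivial ok₄
  -- the inclusions
  let j₃ : resO M (bl (3 * 4)) ⟶ resO M (bl 3) := lifO (resi M (bl (3 * 4))) (bl 3)
    ((range_resO M _).trans (bl_le (a := 3) (b := 4)))
  let j₄ : resO M (bl (3 * 4)) ⟶ resO M (bl 4) := lifO (resi M (bl (3 * 4))) (bl 4)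
    ((range_resO M _).trans (bl_le (a := 4) (b := 3)))
  have hj₃ : j₃ ≫ resi M (bl 3) = resi M (bl (3 * 4)) := lifO_resi _ _ _
  have hj₄ : j₄ ≫ resi M (bl 4) = resi M (bl (3 * 4)) := lifO_resi _ _ _
  have s₃ := side hζ₃.1 hζ₀.1 hρ₃ hρ₀ hp₃ hj₃
  have s₄ := side (a := 4) (b := 3) hζ₄.1 hζ₀.1 hρ₄ hρ₀ hp₄ hj₄
  have d₃ := pull_dl hM₃ hM₀ hU₃.1.1 hU₀.1.1 p₃ _ hp₃ ok₃.1
  have d₄ := pull_dl hM₄ hM₀ hU₄.1.1 hU₀.1.1 p₄ _ hp₄ ok₄.1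
  have key := overlap (j₁ := j₃.left) (j₂ := j₄.left) (p₁ := p₃.left) (p₂ := p₄.left) Q₀
    (congrArg (fun q => q.left) s₃) (congrArg (fun q => q.left) s₄) d₃ d₄ E₃ E₄
  obtain ⟨x, hx⟩ := exists_amp M (bl 3) (bl 4) (bl (3 * 4)) (isAffineOpen_bl 3) (isAffineOpen_bl 4)
    (bl_sup (by norm_num)) (bl_inf 3 4).le j₃ j₄ hj₃ hj₄ _ _ (hε₃.pow (Nat.mul_pos hk₄ Nat.card_pos))
    (hε₄.pow (Nat.mul_pos hk₃ Nat.card_pos)) key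
  obtain ⟨Lx, hLx, -⟩ := hx
  have hrel : RelAmple.IsRelAmple M.hom Lx := Groth.Agent.Ega2.RelAmp.isRelAmple_iff_isAmple.2 hLx
  refine ⟨M, Φ, L, G, ⟨?_, hrel.1, Lx, hrel⟩, fun Ω _ _ t => ?_⟩
  · refine (IsZariskiLocalAtSource.iff_of_iSup_eq_top (P := @LocallyOfFiniteType) (f := M.hom)
      (fun i : Bool => if i then M.hom ⁻¹ᵁ (bl 3) else M.hom ⁻¹ᵁ (bl 4)) ?_).2 ?_
    · rw [iSup_bool_eq]
      change M.hom ⁻¹ᵁ (bl 3) ⊔ M.hom ⁻¹ᵁ (bl 4) = ⊤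
      rw [← Scheme.Hom.preimage_sup, bl_sup (by norm_num)]
      rfl
    · rintro (_ | _)
      · exact z₄
      · exact z₃
  · by_cases h : ((3 : ℕ) : Ω) = 0
    · have h4 : ((1 * 4 : ℕ) : Ω) ≠ 0 := by
        have e : ((1 * 4 : ℕ) : Ω) = ((3 : ℕ) : Ω) + 1 := by norm_num
        rw [e, h, zero_add]
        exact one_ne_zero
      obtain ⟨b⟩ := n₄ Ω t h4
      exact ⟨b ≫ ρ₄ ≫ resi M _⟩
    · obtain ⟨b⟩ := n₃ Ω t (by simpa using h)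
      exact ⟨b ≫ ρ₃ ≫ resi M _⟩

/-- **S14324 from S14321.** -/
theorem main (g d : ℕ) (hg : 1 ≤ g) (Q : ∀ T : Over SZ.{u}, AgPol.Fam T g → Prop)
    (hQ : ∀ (T : Over SZ.{u}) (x : AgPol.Fam T g), Q T x ↔ QF T x)
    (H : ∀ n : ℕ, 3 ≤ n → ∃ (M : Over (SN.{u} n)) (ξ : AgPol.Fam M g),
      ModFun.IsUnivFamily ⊤ ((AgPol.Agdn (SN.{u} n) g d n).restrict fun T x => QF T x) M ξ ∧
      RelProj.IsQuasiProjective M.hom ∧
      (∀ (Ω : Type u) [Field Ω] [IsAlgClosed Ω] (t : Spec (CommRingCat.of Ω) ⟶ SN.{u} n), Nonempty (Over.mk t ⟶ M)) ∧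
      (letI := ξ.grp
       letI := ξ.grpt
       ∀ (P : PicF.Cl (PicF.XT ξ.X.hom ξ.Xt)), AbDual.IsPoincareCl ξ.X ξ.Xt ξ.φ P →
        ∀ (L : ξ.X.left.Modules), PicF.IsInvertible L →
          PicF.cl L = PicF.pullCl (pullback.lift (𝟙 ξ.X.left) ξ.lam.left
            ((Category.id_comp ξ.X.hom).trans (Over.w ξ.lam).symm)) P →
          ∀ (D : M.left.Modules), ExtPow.IsExtPow (4 ^ g * d) ((Coh.push ξ.X.hom).obj (CohB1.tensorPow L 2)) D →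
            ∀ (D' : M.left.Modules), ClSub.IsInverseOf D D' → CohB1.IsAmple D')) :
    ∃ (M : Over SZ.{u}) (Φ : ((AgPol.Agdn SZ.{u} g d 1).restrict Q).Hom ⊤ M),
      ModFun.IsCoarseModuli ⊤ ((AgPol.Agdn SZ.{u} g d 1).restrict Q) M Φ ∧ RelProj.IsQuasiProjective M.hom ∧
      ∀ (Ω : Type u) [Field Ω] [IsAlgClosed Ω] (t : Spec (CommRingCat.of Ω) ⟶ SZ.{u}),
        Nonempty (Over.mk t ⟶ M) := by
  obtain ⟨M, Φ, L, G, hqp, hne⟩ := exists_global (d := d) hg fun N hN => fineQ hg (by omega) (H N hN)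
  exact ⟨M, _, (corrQ ⊤ Q hQ).coarse L.isBestApprox G (fun _ _ _ _ => trivial), hqp, hne⟩

end

end K691.ZMain
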